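import Cfsg.Agent.Lib.CosetCert.D.Ru.Tbl
import Cfsg.Agent.Lib.CosetCert.D.Ru.Lv0.CT

namespace Cfsg.Agent.Lib.CosetCert.D.Ru.Lv0.Tab

open Cfsg.Agent.Lib.CosetCert Cfsg.Agent.Lib.TC.Core Cfsg.Agent.Lib.TC.Enc Cfsg.Agent.Lib.TC.Pres Cfsg.Agent.Lib.TC.Perm Cfsg.Agent.Lib.TC.Main

set_option maxRecDepth 100000

open Cfsg.Agent.Lib.CosetCert.D.Ru.Tbl

/-- The chunks. -/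
noncomputable def ctree : Tr Nat := Cfsg.Agent.Lib.CosetCert.D.Ru.Lv0.CT.tree

/-- The relator rotations. -/
noncomputable def rotT : Tr (List Nat) := (Tr.node (Tr.node (Tr.node (Tr.node (Tr.node (Tr.node (Tr.node (Tr.node (Tr.node (Tr.node (Tr.node (Tr.leaf []) (Tr.leaf [0,1,0,2,0,1,1,1,1,1,1,0,1,0,1,1,0,1,0,2,0,2,2,0,2,0,2,2,2,2,2,2])) (Tr.node (Tr.leaf [1,0,2,0,1,0,2,0,2,0,2,0,1,1,0,1,0,2,0,1,0,2,0,2,2,0,1,0,1,0]) (Tr.leaf [3,1,0,1,0,1,3,1,0,1,1,0,1,0,1,0,2,2,3,0,1,1,0,2,2,0,1,0,1,0,1,0,1,1,0,1,1,1,1,0,2,0,2,2,2,0]))) (Tr.node (Tr.node (Tr.leaf [2,2,2,0,1,1,1,1,0,1,0,2,2,2,2,2,0,1,1,1,1,1,0,2,0,2]) (Tr.leaf [1,1,1,0,2,0,1,0,2,2,2,2,2,0,1,1,1,1,1,0,2,0,1,0,2,2,2,2,2,0,1,1])) (Tr.node (Tr.leaf [2,2,0,2,0,1,0,1,0,1,0,1,0,1,1,0,1,1,0,2,2,2,2,2,2,2,2,2,0,2,2,0]) (Tr.leaf [])))) (Tr.node (Tr.node (Tr.node (Tr.leaf [0,1,1,1,1,0,1,1,1,1,0,1,1,1,1,0,1,1,1,1,0,1,1,1,1]) (Tr.leaf [2,0,1,0,2,0,2,2,0,1,1,1,1,1,0,2,0,2,2,2,0,2,0,1,1,1,1,0,1,0,2,2])) (Tr.node (Tr.leaf [1,1,0,2,0,2,0,1,0,1,0,2,2,0,1,0,1,0,2,0,2,0,1,0,1,0,2,0,2,0]) (Tr.leaf []))) (Tr.node (Tr.node (Tr.leaf [1,1,0,2,0,1,0,2,0,1,0,2,2,0,1,1,0,2,0,1,0,2,0,1,0,2,2,0]) (Tr.leaf [0,2,2,0,1,1,1,0,2,0,1,0,2,0,2,2,0,1,3,1,3,1,1,1,1,3,2,3,2,0,1,1])) (Tr.node (Tr.leaf [0,1,1,0,1,1,0,1,0,2,0,2,0,2,2,0,2,0,2,0,1,0,1,1,0,1,1,1,1,0,1,1]) (Tr.leaf []))))) (Tr.node (Tr.node (Tr.node (Tr.node (Tr.leaf [2,0,1,0,2,0,2,0,1,0,1,0,2,0,1,0,2,0,2,0,1,0,1,0]) (Tr.leaf [1,0,2,2,0,1,1,0,1,1,0,1,0,2,0,1,0,1,1,0,2,2,2,0,2,2,2,2,0,1,1,1])) (Tr.node (Tr.leaf [0,2,0,1,0,1,1,0,2,2,2,0,2,0,2,0,1,0,1,0,1,1,1,0,2,2,0,2,0,1]) (Tr.leaf [0,1,1,0,2,2,2,0,1,0,1,0,1,0,1,1,1,0,1,1,1,3,1,0,2,2,2,0,1,1,0,2,0,2,3,1,1,0,1,1,1,1,0,2,3,0,2]))) (Tr.node (Tr.node (Tr.leaf [2,2,2,2,2,2,2,0,2,2,0,2,2,0,2,2,0,2,0,2,0,1,0,1,1,0,2,2]) (Tr.leaf [2,2,2,3,2,2,0,2,0,1,0,2,0,1,1,0,2,0,1,0,2,0,3,2,2])) (Tr.node (Tr.leaf [2,2,0,1,0,2,0,2,0,2,0,1,1,0,1,0,2,0,1,0,2,0,2,2,2,0,2,0,2,0,2,0]) (Tr.leaf [])))) (Tr.node (Tr.node (Tr.node (Tr.leaf [1,0,1,1,0,1,1,0,1,0,2,0,1,0,1,1,0,2,2,2,2,2,2,2,0,1]) (Tr.leaf [1,0,2,2,2,2,0,2,2,2,0,1,1,0,1,1,0,1,1,0,1,0,2,0,1,0,2,2,0,1,1,1])) (Tr.node (Tr.leaf [2,2,2,0,1,0,1,0,1,0,1,0,1,0,1,0,1,1,1,1,1,0,2,2,2,2,0,1,1,1,1,0]) (Tr.leaf []))) (Tr.node (Tr.node (Tr.leaf [2,0,2,0,2,2,0,1,0,2,0,1,0,2,0,1,0,2,0,1,0,2,2,0,2,0,2,0,2,0]) (Tr.leaf [0,2,2,0,1,0,2,0,1,0,2,2,2,2,0,2,0,1,3,1,0,2,3,1,0,2,2,2,0,2,0,2,3,1,1,0,2])) (Tr.node (Tr.leaf [2,2,2,0,2,0,1,0,2,2,2,0,2,0,1,1,0,1,0,1,0,1,1,1,1,1,1,1,1,0,1,0]) (Tr.leaf [])))))) (Tr.node (Tr.node (Tr.node (Tr.node (Tr.node (Tr.leaf [0,2,2,2,2,0,1,1,1,1,0,2,2,2,2,0,1,1,1,1]) (Tr.leaf [0,1,0,2,0,1,0,2,2,0,2,0,1,1,0,1,0,2,0,1,0,2,0,2,2,0,1,0,1,1,0,2])) (Tr.node (Tr.leaf [2,2,2,2,2,2,2,2,0,2,2,0,2,0,1,0,1,0,1,1,0,1,1,0,1,1,0,2,2,2]) (Tr.leaf [0,2,0,2,2,0,2,3,2,0,2,0,2,3,0,1,1,1,0,1,0,2,2,2,2,0,2,2,0,2,0,2,0,2,0,1,1,0,2,2,0,3,1,1,0,2]))) (Tr.node (Tr.node (Tr.leaf [1,1,0,1,1,0,2,2,0,2,2,0,2,0,1,0,1,0,1,0,2,0,2,0,2,0,1,0]) (Tr.leaf [1,3,0,1,0,2,0,1,0,2,2,0,1,0,2,0,1,0,1,1,3,1,1,1,1])) (Tr.node (Tr.leaf [0,1,1,0,1,0,1,0,1,0,1,0,1,1,1,0,2,0,1,0,2,0,1,0,2,2,0,1,0,1,0,2]) (Tr.leaf [])))) (Tr.node (Tr.node (Tr.node (Tr.leaf [0,2,0,1,0,2,0,1,0,2,2,0,1,0,1,0,2,0,1,0,2,0,2,0,1,1]) (Tr.leaf [0,2,0,1,0,2,2,2,0,2,2,0,2,2,0,1,1,1,1,1,1,1,0,2,2,2,0,1,0,2,0,1])) (Tr.node (Tr.leaf [2,2,0,1,0,2,0,1,1,1,1,0,1,0,2,2,2,0,1,0,2,0,1,1,1,0,2,0,2,2]) (Tr.leaf []))) (Tr.node (Tr.node (Tr.leaf [0,1,0,1,0,1,0,1,0,1,0,1,1,0,2,0,1,0,2,0,1,0,2,0,1,0,2,0,1,1]) (Tr.leaf [1,1,0,2,0,1,1,0,1,1,1,1,1,1,0,1,0,1,1,0,1,1,0,3,1,3,0,2,0,1,1,0,3,2,3,0,1])) (Tr.node (Tr.leaf [0,2,2,0,1,1,0,1,1,1,0,1,1,0,2,2,2,0,2,0,2,0,1,0,2,2,2,0,1,1,1,1]) (Tr.leaf []))))) (Tr.node (Tr.node (Tr.node (Tr.node (Tr.leaf [2,0,2,2,0,2,2,0,2,2,0,2,2,0,2,2,0,2,2,0,2,2,0,2]) (Tr.leaf [2,2,2,2,2,2,0,2,0,1,0,1,1,0,2,2,2,2,2,2,2,2,0,2,0,1,0,1,1,0,2,2])) (Tr.node (Tr.leaf [2,2,0,1,1,1,1,0,2,0,2,0,1,0,1,0,1,1,1,0,2,2,0,2,2,2,0,2,2,0]) (Tr.leaf []))) (Tr.node (Tr.node (Tr.leaf [1,1,0,2,0,2,0,1,0,1,0,2,2,0,1,1,0,2,0,2,0,1,0,1,0,2,2,0]) (Tr.leaf [2,0,1,0,1,0,2,2,0,1,0,1,0,1,3,1,1,0,2,2,0,2,0,2,0,1,0,1,1,0,1,0,2,2,0,1,3])) (Tr.node (Tr.leaf [1,0,2,0,1,0,2,2,2,0,1,0,1,0,1,0,2,0,1,0,2,0,2,0,2,0,1,1,1,0,2,0]) (Tr.leaf [])))) (Tr.node (Tr.node (Tr.node (Tr.leaf [0,1,0,2,0,2,2,0,2,2,0,2,2,0,1,1,1,1,1,1,1,0,2,2,0,2]) (Tr.leaf [1,0,2,0,1,1,1,0,1,0,2,0,1,1,1,0,1,0,2,0,1,1,1,0,1,0,2,0,1,1,1,0])) (Tr.node (Tr.leaf [1,1,1,1,0,1,0,1,0,1,0,1,0,1,0,1,0,2,2,2,0,1,1,1,1,0,2,2,2,2,0,1]) (Tr.leaf []))) (Tr.node (Tr.node (Tr.leaf [0,2,0,2,2,0,1,0,2,0,2,0,1,0,1,0,2,0,1,0,2,0,2,2,0,2,0,2,0,2]) (Tr.leaf [0,2,2,0,1,1,0,1,1,0,1,0,3,2,3,2,0,1,1,0,2,0,2,0,1,1,1,1,0,2,0,1,1,1,0,1,0,1,1,0,1,3,1,3,0,1,3,1])) (Tr.node (Tr.leaf [0,1,1,0,2,0,1,0,2,2,0,1,0,1,0,2,2,0,1,0,1,0,2,0,2,0,1,1,0,2,0,2]) (Tr.leaf []))))))) (Tr.node (Tr.node (Tr.node (Tr.node (Tr.node (Tr.node (Tr.leaf [1,0,2,0,1,0,2,0,1,0,2,0,1,0,2,0,1,0,2,0]) (Tr.leaf [1,1,0,1,1,0,1,0,2,0,1,0,1,1,0,1,1,1,1,1,1,1,1,1,1,1,1,1,0,1,1,0])) (Tr.node (Tr.leaf [1,0,2,0,2,2,0,1,0,1,0,1,0,2,0,1,0,2,0,2,0,2,0,1,1,0,1,0,2,0]) (Tr.leaf [0,2,2,0,1,0,1,0,1,0,1,1,0,1,1,1,1,0,2,0,2,2,2,0,3,1,0,1,0,1,3,1,0,1,1,0,1,0,1,0,2,2,3,0,1,1]))) (Tr.node (Tr.node (Tr.leaf [2,0,1,0,1,1,0,1,1,0,2,2,0,2,2,0,2,0,1,0,1,0,1,0,2,0,2,0]) (Tr.leaf [2,2,0,1,1,0,1,1,0,2,2,0,1,1,0,1,1,1,0,2,2,2,0,2,2,0,1,1,0,2,2,0])) (Tr.node (Tr.leaf [2,0,1,0,1,1,0,1,1,0,1,1,1,1,1,1,1,1,1,0,2,2,0,2,2,0,2,0,2,0,2,0]) (Tr.leaf [])))) (Tr.node (Tr.node (Tr.node (Tr.leaf [2,2,0,2,2,2,2,0,2,2,2,2,0,2,2,2,2,0,2,2,2,2,0,2,2]) (Tr.leaf [1,0,2,2,0,1,1,0,2,2,0,2,2,2,2,2,0,2,0,1,0,2,0,1,0,1,1,1,1,1,0,1])) (Tr.node (Tr.leaf [2,0,1,0,2,0,1,0,2,2,2,0,1,1,0,1,0,2,0,1,0,2,0,2,2,0,1,1,1,0]) (Tr.leaf []))) (Tr.node (Tr.node (Tr.leaf [1,0,1,0,1,1,0,1,0,1,0,1,0,1,0,1,0,1,0,1,1,0,1,0,1,0,1,0,1,0]) (Tr.leaf [0,2,2,0,1,0,3,2,3,0,2,2,0,2,2,0,2,0,2,2,2,2,2,2,0,2,2,0,1,0,2,2,2,0,3,1,3])) (Tr.node (Tr.leaf [2,2,0,1,1,0,2,2,2,2,0,1,1,1,0,2,0,1,0,1,0,1,1,1,0,2,2,0,2,2,2,0]) (Tr.leaf []))))) (Tr.node (Tr.node (Tr.node (Tr.node (Tr.leaf [0,2,0,2,0,1,0,1,0,2,0,1,0,2,0,2,0,1,0,1,0,2,0,1]) (Tr.leaf [2,0,1,1,1,1,0,1,1,1,0,2,2,0,2,0,1,0,2,0,2,2,0,2,2,0,1,1,0,2,2,2])) (Tr.node (Tr.leaf [2,0,1,0,1,1,0,2,2,2,0,2,0,2,0,1,0,1,0,1,1,1,0,2,2,0,2,0,1,0]) (Tr.leaf [0,1,1,1,1,0,2,3,0,2,0,1,1,0,2,2,2,0,1,0,1,0,1,0,1,1,1,0,1,1,1,3,1,0,2,2,2,0,1,1,0,2,0,2,3,1,1]))) (Tr.node (Tr.node (Tr.leaf [0,1,0,2,2,0,1,1,0,2,0,2,0,1,0,1,0,2,2,0,1,1,0,2,0,2,0,1]) (Tr.leaf [3,2,0,1,1,0,2,0,2,2,0,2,0,1,0,1,0,1,1,0,2,2,3,2,0,2,0,2,0,1,1,0,2,0,2,0,1])) (Tr.node (Tr.leaf [1,0,2,0,2,0,2,0,1,0,1,0,1,0,2,0,1,0,2,0,2,0,2,0,1,0,1,0,1,0,2,0]) (Tr.leaf [])))) (Tr.node (Tr.node (Tr.node (Tr.leaf [2,0,2,2,0,1,1,1,1,1,1,1,0,2,2,0,2,0,1,0,2,0,2,2,0,2]) (Tr.leaf [0,1,1,1,0,1,1,1,1,0,2,2,2,2,0,1,1,0,2,0,1,0,2,0,2,2,0,2,2,0,2,2])) (Tr.node (Tr.leaf [2,0,2,0,2,0,1,1,1,0,2,2,2,2,0,1,1,1,1,0,2,2,2,2,2,0,2,0,2,0,2,0]) (Tr.leaf []))) (Tr.node (Tr.node (Tr.leaf [2,0,1,1,0,1,0,1,0,1,0,1,0,1,1,0,1,0,2,0,1,0,2,0,2,0,1,0,1,0]) (Tr.leaf [0,1,1,1,0,2,3,1,0,2,3,2,0,1,0,1,1,1,1,0,2,0,1,0,2,0,1,1,0,1,0,2,2,3,1,0,1])) (Tr.node (Tr.leaf [1,1,1,0,2,0,2,2,2,2,2,2,2,2,0,2,0,2,0,2,2,0,1,0,1,1,1,0,2,0,1,0]) (Tr.leaf [])))))) (Tr.node (Tr.node (Tr.node (Tr.node (Tr.node (Tr.leaf [2,2,2,0,1,1,1,1,0,2,2,2,2,0,1,1,1,1,0,2]) (Tr.leaf [0,1,1,0,2,2,0,1,1,0,2,2,0,2,0,1,0,1,1,0,2,2,0,1,1,0,2,2,0,2,0,1])) (Tr.node (Tr.leaf [1,1,0,2,2,0,2,2,0,2,2,0,2,0,2,0,1,0,1,1,0,1,1,1,1,1,1,1,1,1]) (Tr.leaf [0,2,2,3,1,0,1,0,2,2,0,1,1,1,0,2,3,2,2,2,0,2,2,2,0,2,0,2,0,2,0,1,1,1,0,2,2,0,1,0,3,1,0,2,2,2,2]))) (Tr.node (Tr.node (Tr.leaf [0,1,1,1,1,1,1,1,1,1,0,2,2,0,2,0,1,0,1,0,1,1,0,1,1,0,1,1]) (Tr.leaf [2,2,0,2,0,1,0,2,0,1,1,0,2,0,1,0,2,0,3,2,2,2,2,2,3])) (Tr.node (Tr.leaf [0,1,0,1,0,1,1,1,0,1,0,2,0,1,0,2,0,2,2,0,1,0,1,0,1,0,2,0,1,1,0,1]) (Tr.leaf [])))) (Tr.node (Tr.node (Tr.node (Tr.leaf [1,0,2,0,2,0,1,1,0,2,0,1,0,2,0,1,0,2,2,0,1,0,1,0,2,0]) (Tr.leaf [2,2,2,0,1,1,0,1,1,0,1,1,1,0,2,0,1,0,2,0,1,0,2,0,1,1,1,0,2,2,2,2])) (Tr.node (Tr.leaf [1,0,1,0,1,0,1,0,1,0,1,0,1,1,1,1,1,0,2,2,2,2,0,1,1,1,1,0,2,2,2,0]) (Tr.leaf []))) (Tr.node (Tr.node (Tr.leaf [1,0,2,0,1,1,0,1,0,1,0,1,0,1,0,1,0,1,1,0,2,0,1,0,2,0,1,0,2,0]) (Tr.leaf [3,1,0,2,3,1,0,2,2,2,0,2,0,2,3,1,1,0,2,0,2,2,0,1,0,2,0,1,0,2,2,2,2,0,2,0,1])) (Tr.node (Tr.leaf [2,0,1,0,2,0,1,1,1,0,2,2,2,0,2,0,2,0,1,0,1,0,1,1,1,0,2,2,2,0,1,0]) (Tr.leaf []))))) (Tr.node (Tr.node (Tr.node (Tr.node (Tr.leaf [2,2,0,1,1,1,1,1,0,2,2,2,2,2,0,1,1,1,1,1,0,2,2,2]) (Tr.leaf [2,2,2,2,0,1,1,0,1,0,2,0,1,1,1,0,2,0,2,2,2,2,0,1,0,1,1,1,0,1,0,2])) (Tr.node (Tr.leaf [1,1,0,1,1,0,2,2,2,0,2,0,2,0,1,0,1,0,2,2,2,2,0,1,1,0,1,1,0,1]) (Tr.leaf []))) (Tr.node (Tr.node (Tr.leaf [0,2,0,1,0,2,0,2,2,0,1,1,0,1,0,2,0,1,0,2,0,2,2,0,1,1,0,1]) (Tr.leaf [2,2,3,2,3,2,0,1,1,0,1,0,2,0,1,0,2,2,2,0,1,1,0,2,2,0,1,3,1,3,2,2])) (Tr.node (Tr.leaf [2,0,2,2,2,2,0,2,2,0,2,0,1,0,1,0,1,1,0,1,0,1,0,2,0,2,2,0,2,2,0,2]) (Tr.leaf [])))) (Tr.node (Tr.node (Tr.node (Tr.leaf [1,0,2,2,2,2,2,0,1,0,1,1,1,1,0,2,2,2,2,0,2,0,1,1,1,1]) (Tr.leaf [1,1,1,1,0,2,2,2,2,2,0,1,0,2,0,1,1,1,1,1,0,2,2,2,2,2,0,1,0,2,0,1])) (Tr.node (Tr.leaf [2,0,2,0,2,0,2,0,2,0,2,0,2,2,2,2,2,0,1,1,1,1,0,2,2,2,2,0,1,1,1,0]) (Tr.leaf []))) (Tr.node (Tr.node (Tr.leaf [0,2,0,2,0,1,0,1,1,0,1,1,0,2,2,0,2,2,0,2,2,0,2,0,2,0,2,0,2,2]) (Tr.leaf [2,0,2,0,2,2,2,0,1,0,2,2,2,2,0,1,0,1,0,2,2,0,1,3,1,3,0,2,0,2,2,0,2,2,0,1,1,0,2,3,2,0,3,2,3,2,0,2])) (Tr.node (Tr.leaf [0,2,2,0,2,0,2,2,2,2,2,2,0,1,0,2,0,1,1,1,1,1,1,0,1,0,1,1,0,1,0,2]) (Tr.leaf [])))))))) (Tr.node (Tr.node (Tr.node (Tr.node (Tr.node (Tr.node (Tr.node (Tr.leaf [1,0,1,0,1,0,1,0,1,0,1,0,1,0,1,0]) (Tr.leaf [1,1,1,1,1,1,1,1,1,1,1,0,1,1,0,1,1,0,1,1,0,1,0,2,0,1,0,1,1,0,1,1])) (Tr.node (Tr.leaf [2,0,2,0,1,1,0,1,0,2,0,1,0,2,0,2,2,0,1,0,1,0,1,0,2,0,1,0,2,0]) (Tr.leaf [0,1,1,0,1,0,1,0,2,2,3,0,1,1,0,2,2,0,1,0,1,0,1,0,1,1,0,1,1,1,1,0,2,0,2,2,2,0,3,1,0,1,0,1,3,1]))) (Tr.node (Tr.node (Tr.leaf [0,1,0,1,0,2,0,2,0,2,0,1,0,1,1,0,1,1,0,2,2,0,2,2,0,2,0,1]) (Tr.leaf [2,2,0,1,1,0,2,2,0,2,2,0,1,1,0,1,1,0,2,2,0,1,1,0,1,1,1,0,2,2,2,0])) (Tr.node (Tr.leaf [1,1,1,1,0,2,2,0,2,2,0,2,0,2,0,2,0,2,0,1,0,1,1,0,1,1,0,1,1,1,1,1]) (Tr.leaf [])))) (Tr.node (Tr.node (Tr.node (Tr.leaf [2,2,2,2,0,2,2,2,2,0,2,2,2,2,0,2,2,2,2,0,2,2,2,2,0]) (Tr.leaf [2,2,2,0,2,0,1,1,1,1,0,1,0,2,2,2,0,1,0,2,0,2,2,0,1,1,1,1,1,0,2,0])) (Tr.node (Tr.leaf [0,1,1,0,2,0,2,0,1,0,1,0,2,2,0,1,0,1,0,2,0,2,0,1,0,1,0,2,0,2]) (Tr.leaf []))) (Tr.node (Tr.node (Tr.leaf [1,1,0,2,0,1,0,2,0,1,0,2,2,0,1,1,0,2,0,1,0,2,0,1,0,2,2,0]) (Tr.leaf [1,1,3,2,3,2,0,1,1,0,2,2,0,1,1,1,0,2,0,1,0,2,0,2,2,0,1,3,1,3,1,1])) (Tr.node (Tr.leaf [0,2,0,2,0,1,0,1,1,0,1,1,1,1,0,1,1,0,1,1,0,1,1,0,1,0,2,0,2,0,2,2]) (Tr.leaf []))))) (Tr.node (Tr.node (Tr.node (Tr.node (Tr.leaf [0,1,0,2,0,1,0,2,0,2,0,1,0,1,0,2,0,1,0,2,0,2,0,1]) (Tr.leaf [0,2,2,0,2,2,0,1,1,0,2,2,2,2,0,1,1,1,1,0,1,1,1,0,2,2,0,2,0,1,0,2])) (Tr.node (Tr.leaf [0,2,0,2,0,1,0,1,0,1,1,1,0,2,2,0,2,0,1,0,2,0,1,0,1,1,0,2,2,2]) (Tr.leaf [2,2,0,1,1,0,2,0,2,3,1,1,0,1,1,1,1,0,2,3,0,2,0,1,1,0,2,2,2,0,1,0,1,0,1,0,1,1,1,0,1,1,1,3,1,0,2]))) (Tr.node (Tr.node (Tr.leaf [0,2,2,0,2,2,0,2,0,2,0,1,0,1,1,0,2,2,2,2,2,2,2,2,2,0,2,2]) (Tr.leaf [0,2,0,1,1,0,2,0,2,0,1,3,2,0,1,1,0,2,0,2,2,0,2,0,1,0,1,0,1,1,0,2,2,3,2,0,2])) (Tr.node (Tr.leaf [2,2,2,0,2,0,2,0,2,0,2,2,0,1,0,2,0,2,0,2,0,1,1,0,1,0,2,0,1,0,2,0]) (Tr.leaf [])))) (Tr.node (Tr.node (Tr.node (Tr.leaf [0,2,0,1,0,1,1,0,2,2,2,2,2,2,2,0,1,1,0,1,1,0,1,1,0,1]) (Tr.leaf [1,1,0,1,1,0,1,0,2,0,1,0,2,2,0,1,1,1,1,0,2,2,2,2,0,2,2,2,0,1,1,0])) (Tr.node (Tr.leaf [1,0,2,2,2,2,2,0,2,0,2,0,2,0,2,0,2,0,2,0,1,1,1,0,2,2,2,2,0,1,1,1]) (Tr.leaf []))) (Tr.node (Tr.node (Tr.leaf [0,1,0,1,1,0,1,0,2,0,1,0,2,0,2,0,1,0,1,0,2,0,1,1,0,1,0,1,0,1]) (Tr.leaf [1,1,1,1,0,2,0,1,0,2,0,1,1,0,1,0,2,2,3,1,0,1,0,1,1,1,0,2,3,1,0,2,3,2,0,1,0])) (Tr.node (Tr.leaf [0,1,0,1,1,1,0,2,0,1,0,1,1,1,0,2,0,2,2,2,2,2,2,2,2,0,2,0,2,0,2,2]) (Tr.leaf [])))))) (Tr.node (Tr.node (Tr.node (Tr.node (Tr.node (Tr.leaf [2,2,2,0,1,1,1,1,0,2,2,2,2,0,1,1,1,1,0,2]) (Tr.leaf [1,0,1,0,2,0,1,0,2,0,2,2,0,1,0,1,1,0,2,0,1,0,2,0,1,0,2,2,0,2,0,1])) (Tr.node (Tr.leaf [0,1,1,0,1,1,1,1,1,1,1,1,1,1,1,0,2,2,0,2,2,0,2,2,0,2,0,2,0,1]) (Tr.leaf [2,3,0,1,1,1,0,1,0,2,2,2,2,0,2,2,0,2,0,2,0,2,0,1,1,0,2,2,0,3,1,1,0,2,0,2,0,2,2,0,2,3,2,0,2,0]))) (Tr.node (Tr.node (Tr.leaf [1,1,0,1,1,0,1,1,0,1,1,1,1,1,1,1,1,1,0,2,2,0,2,0,1,0,1,0]) (Tr.leaf [0,2,2,0,1,0,2,0,1,0,1,1,3,1,1,1,1,1,3,0,1,0,2,0,1])) (Tr.node (Tr.leaf [1,0,2,0,1,0,2,2,2,0,2,0,2,0,2,0,2,0,2,2,0,1,0,2,0,2,0,1,1,0,2,0]) (Tr.leaf [])))) (Tr.node (Tr.node (Tr.node (Tr.leaf [0,2,2,0,1,0,1,0,2,0,1,0,2,0,2,0,1,1,0,2,0,1,0,2,0,1]) (Tr.leaf [1,1,0,2,2,2,0,1,0,2,0,1,0,2,0,1,0,2,2,2,0,2,2,0,2,2,0,1,1,1,1,1])) (Tr.node (Tr.leaf [2,0,1,0,2,0,1,1,1,0,2,0,2,2,2,2,0,1,0,2,0,1,1,1,1,0,1,0,2,2]) (Tr.leaf []))) (Tr.node (Tr.node (Tr.leaf [1,0,2,0,1,0,2,0,1,0,2,0,1,0,2,0,1,1,0,1,0,1,0,1,0,1,0,1,0,1]) (Tr.leaf [2,0,1,1,0,3,2,3,0,1,1,1,0,2,0,1,1,0,1,1,1,1,1,1,0,1,0,1,1,0,1,1,0,3,1,3,0])) (Tr.node (Tr.leaf [0,2,0,1,0,2,2,2,0,1,1,1,1,0,2,2,0,1,1,0,1,1,1,0,1,1,0,2,2,2,0,2]) (Tr.leaf []))))) (Tr.node (Tr.node (Tr.node (Tr.node (Tr.leaf [1,1,1,1,0,2,2,2,2,2,0,1,1,1,1,1,0,2,2,2,2,2,0,1]) (Tr.leaf [0,1,0,1,1,1,1,1,1,1,1,0,2,2,0,2,0,1,0,1,1,1,1,1,1,1,1,0,2,2,0,2])) (Tr.node (Tr.leaf [0,2,0,1,0,1,0,1,1,1,0,2,2,0,2,2,2,0,2,2,0,2,2,0,1,1,1,1,0,2]) (Tr.leaf []))) (Tr.node (Tr.node (Tr.leaf [1,0,2,2,2,2,0,2,0,1,0,1,1,1,1,0,2,2,2,2,0,2,0,1,0,1,1,1]) (Tr.leaf [0,1,0,1,0,1,3,1,1,0,2,2,0,2,0,2,0,1,0,1,1,0,1,0,2,2,0,1,3,2,0,1,0,1,0,2,2])) (Tr.node (Tr.leaf [0,1,0,1,0,2,0,2,2,0,2,2,0,2,2,0,2,2,2,2,0,2,2,0,2,0,1,0,1,0,1,1]) (Tr.leaf [])))) (Tr.node (Tr.node (Tr.node (Tr.leaf [2,2,2,2,0,2,0,1,1,1,1,1,0,2,2,2,2,2,0,1,0,1,1,1,1,0]) (Tr.leaf [0,2,0,2,2,2,0,1,0,2,0,2,2,2,0,1,0,2,0,2,2,2,0,1,0,2,0,2,2,2,0,1])) (Tr.node (Tr.leaf [1,1,1,1,0,2,2,2,2,0,1,1,1,0,2,0,2,0,2,0,2,0,2,0,2,0,2,2,2,2,2,0]) (Tr.leaf []))) (Tr.node (Tr.node (Tr.leaf [0,2,2,0,2,2,0,2,0,1,0,1,0,1,1,0,1,0,1,0,1,0,1,1,0,1,1,0,1,1]) (Tr.leaf [3,2,0,1,1,0,2,0,2,0,1,1,1,1,0,2,0,1,1,1,0,1,0,1,1,0,1,3,1,3,0,1,3,1,0,2,2,0,1,1,0,1,1,0,1,0,3,2])) (Tr.node (Tr.leaf [0,2,0,2,0,1,1,0,2,0,2,0,1,1,0,2,0,1,0,2,2,0,1,0,1,0,2,2,0,1,0,1]) (Tr.leaf []))))))) (Tr.node (Tr.node (Tr.node (Tr.node (Tr.node (Tr.node (Tr.leaf [0,2,0,1,0,2,0,1,0,2,0,1,0,2,0,1,0,2,0,1]) (Tr.leaf [2,0,2,2,0,2,0,1,0,2,0,2,2,0,2,2,0,2,2,0,2,2,2,2,2,2,2,2,2,2,2,2])) (Tr.node (Tr.leaf [0,2,0,1,1,0,1,0,2,0,1,0,2,0,2,2,0,1,0,1,0,1,0,2,0,1,0,2,0,2]) (Tr.leaf [0,1,0,2,2,2,2,0,2,2,0,2,0,2,0,2,0,1,1,0,2,2,0,3,1,1,0,2,0,2,0,2,2,0,2,3,2,0,2,0,2,3,0,1,1,1]))) (Tr.node (Tr.node (Tr.leaf [0,2,2,0,2,2,0,2,0,1,0,1,0,1,0,2,0,2,0,2,0,1,0,1,1,0,1,1]) (Tr.leaf [0,2,2,2,0,2,2,2,0,2,2,2,0,2,2,2,0,2,2,2,0,2,2,2,0,2,2,2,0,2,2,2])) (Tr.node (Tr.leaf [1,0,1,1,1,0,2,0,1,0,2,0,1,0,2,2,0,1,0,1,0,2,0,1,1,0,1,0,1,0,1,0]) (Tr.leaf [])))) (Tr.node (Tr.node (Tr.node (Tr.leaf [0,1,0,2,0,2,0,1,1,0,2,0,1,0,2,0,1,0,2,2,0,1,0,1,0,2]) (Tr.leaf [2,0,2,2,2,2,2,0,2,0,1,0,2,0,1,0,1,1,1,1,1,0,1,1,0,2,2,0,1,1,0,2])) (Tr.node (Tr.leaf [0,2,0,2,2,0,1,1,1,0,2,0,1,0,2,0,1,0,2,2,2,0,1,1,0,1,0,2,0,1]) (Tr.leaf []))) (Tr.node (Tr.node (Tr.leaf [2,0,2,0,2,0,2,0,2,0,2,2,0,2,0,2,0,2,0,2,0,2,0,2,0,2,2,0,2,0]) (Tr.leaf [2,2,0,2,2,0,2,0,2,2,2,2,2,2,0,2,2,0,1,0,2,2,2,0,3,1,3,0,2,2,0,1,0,3,2,3,0])) (Tr.node (Tr.leaf [0,1,1,1,0,2,0,1,0,1,0,1,1,1,0,2,2,0,2,2,2,0,2,2,0,1,1,0,2,2,2,2]) (Tr.leaf []))))) (Tr.node (Tr.node (Tr.node (Tr.node (Tr.leaf [0,1,1,0,1,1,0,1,1,0,1,1,0,1,1,0,1,1,0,1,1,0,1,1]) (Tr.leaf [2,2,2,2,2,2,2,2,0,2,0,1,0,1,1,0,2,2,2,2,2,2,2,2,0,2,0,1,0,1,1,0])) (Tr.node (Tr.leaf [1,0,2,2,0,2,2,2,0,2,2,0,2,2,0,1,1,1,1,0,2,0,2,0,1,0,1,0,1,1]) (Tr.leaf [2,1]))) (Tr.node (Tr.node (Tr.leaf [2,2,0,1,1,0,2,0,2,0,1,0,1,0,2,2,0,1,1,0,2,0,2,0,1,0,1,0]) (Tr.leaf [2,0,2,0,1,0,1,0,1,1,0,2,2,3,2,0,2,0,2,0,1,1,0,2,0,2,0,1,3,2,0,1,1,0,2,0,2])) (Tr.node (Tr.leaf [2,0,1,1,1,0,2,0,1,0,2,0,1,0,2,2,2,0,1,0,1,0,1,0,2,0,1,0,2,0,2,0]) (Tr.leaf [])))) (Tr.node (Tr.node (Tr.node (Tr.leaf [1,1,1,1,0,2,2,0,2,0,1,0,2,0,2,2,0,2,2,0,2,2,0,1,1,1]) (Tr.leaf [2,0,1,1,0,2,0,1,0,2,0,2,2,0,2,2,0,2,2,0,1,1,1,0,1,1,1,1,0,2,2,2])) (Tr.node (Tr.leaf [2,0,1,1,1,1,0,2,2,2,2,0,1,1,1,1,1,0,1,0,1,0,1,0,1,0,1,0,1,0,2,2]) (Tr.leaf []))) (Tr.node (Tr.node (Tr.leaf [0,1,0,1,0,2,0,1,0,2,0,2,2,0,2,0,2,0,2,0,2,0,2,2,0,1,0,2,0,2]) (Tr.leaf [2,3,2,0,1,0,1,1,1,1,0,2,0,1,0,2,0,1,1,0,1,0,2,2,3,1,0,1,0,1,1,1,0,2,3,1,0])) (Tr.node (Tr.leaf [2,0,2,0,2,0,2,2,0,1,0,1,1,1,0,2,0,1,0,1,1,1,0,2,0,2,2,2,2,2,2,2]) (Tr.leaf [])))))) (Tr.node (Tr.node (Tr.node (Tr.node (Tr.node (Tr.leaf [2,2,2,2,2,2,2,2,2,2,2,2,2,2,2,2,2,2,2,2]) (Tr.leaf [0,1,1,0,2,2,2,0,2,2,2,2,0,1,1,1,1,0,2,2,0,1,1,0,1,1,0,1,0,2,0,1])) (Tr.node (Tr.leaf [2,0,1,0,1,1,0,1,1,1,1,1,1,1,1,1,1,1,0,2,2,0,2,2,0,2,2,0,2,0]) (Tr.leaf [3,2,2,2,0,2,2,2,0,2,0,2,0,2,0,1,1,1,0,2,2,0,1,0,3,1,0,2,2,2,2,0,2,2,3,1,0,1,0,2,2,0,1,1,1,0,2]))) (Tr.node (Tr.node (Tr.leaf [1,0,2,2,0,2,0,1,0,1,0,1,1,0,1,1,0,1,1,0,1,1,1,1,1,1,1,1]) (Tr.leaf [0,1,0,2,0,3,2,2,2,2,2,3,2,2,0,2,0,1,0,2,0,1,1,0,2])) (Tr.node (Tr.leaf [0,2,0,2,2,0,1,0,1,0,1,0,2,0,1,1,0,1,0,1,0,1,0,1,1,1,0,1,0,2,0,1]) (Tr.leaf [])))) (Tr.node (Tr.node (Tr.node (Tr.leaf [2,2,2,2,2,2,0,1,1,0,1,1,0,1,1,0,1,0,2,0,1,0,1,1,0,2]) (Tr.leaf [2,0,1,0,2,0,1,1,1,0,2,2,2,2,2,2,2,0,1,1,0,1,1,0,1,1,1,0,2,0,1,0])) (Tr.node (Tr.leaf [2,2,2,2,0,1,1,1,1,0,2,2,2,0,1,0,1,0,1,0,1,0,1,0,1,0,1,1,1,1,1,0]) (Tr.leaf []))) (Tr.node (Tr.node (Tr.leaf [1,0,2,0,1,0,2,2,0,2,0,2,0,2,0,2,0,2,0,2,2,0,1,0,2,0,1,0,2,0]) (Tr.leaf [2,2,0,2,0,2,3,1,1,0,2,0,2,2,0,1,0,2,0,1,0,2,2,2,2,0,2,0,1,3,1,0,2,3,1,0,2])) (Tr.node (Tr.leaf [1,0,1,0,1,1,1,1,1,1,1,1,0,1,0,2,2,2,0,2,0,1,0,2,2,2,0,2,0,1,1,0]) (Tr.leaf []))))) (Tr.node (Tr.node (Tr.node (Tr.node (Tr.leaf [1,1,1,0,2,2,2,2,2,0,1,1,1,1,1,0,2,2,2,2,2,0,1,1]) (Tr.leaf [0,2,0,2,2,2,2,0,1,0,1,1,1,0,1,0,2,2,2,2,2,0,1,1,0,1,0,2,0,1,1,1])) (Tr.node (Tr.leaf [0,2,0,1,0,1,0,2,2,2,2,0,1,1,0,1,1,0,1,1,1,0,1,1,0,2,2,2,0,2]) (Tr.leaf []))) (Tr.node (Tr.node (Tr.leaf [0,2,0,1,0,2,0,2,2,0,1,1,0,1,0,2,0,1,0,2,0,2,2,0,1,1,0,1]) (Tr.leaf [1,0,1,0,2,0,1,0,2,2,2,0,1,1,0,2,2,0,1,3,1,3,2,2,2,2,3,2,3,2,0,1])) (Tr.node (Tr.leaf [1,1,0,1,1,1,1,0,1,1,0,1,1,0,1,1,0,1,0,2,0,2,0,2,2,0,2,0,2,0,1,0]) (Tr.leaf [])))) (Tr.node (Tr.node (Tr.node (Tr.leaf [2,2,2,2,0,1,1,1,1,1,0,2,0,2,2,2,2,0,1,1,1,1,0,1,0,2]) (Tr.leaf [2,2,2,0,1,0,2,0,1,1,1,1,1,0,2,2,2,2,2,0,1,0,2,0,1,1,1,1,1,0,2,2])) (Tr.node (Tr.leaf [2,0,2,2,2,2,2,0,1,1,1,1,0,2,2,2,2,0,1,1,1,0,2,0,2,0,2,0,2,0,2,0]) (Tr.leaf []))) (Tr.node (Tr.node (Tr.leaf [0,2,0,2,0,2,0,2,2,0,2,0,2,0,1,0,1,1,0,1,1,0,2,2,0,2,2,0,2,2]) (Tr.leaf [2,0,2,2,0,1,1,0,2,3,2,0,3,2,3,2,0,2,2,0,2,0,2,2,2,0,1,0,2,2,2,2,0,1,0,1,0,2,2,0,1,3,1,3,0,2,0,2])) (Tr.node (Tr.leaf [2,2,2,0,1,0,2,0,1,1,1,1,1,1,0,1,0,1,1,0,1,0,2,0,2,2,0,2,0,2,2,2]) (Tr.leaf []))))))))) (Tr.node (Tr.node (Tr.node (Tr.node (Tr.node (Tr.node (Tr.node (Tr.node (Tr.leaf [0,1,0,1,0,1,0,1,0,1,0,1,0,1,0,1]) (Tr.leaf [2,0,2,2,2,2,2,2,0,1,0,2,0,1,1,1,1,1,1,0,1,0,1,1,0,1,0,2,0,2,2,0])) (Tr.node (Tr.leaf [1,0,2,0,2,0,2,0,1,1,0,1,0,2,0,1,0,2,0,2,2,0,1,0,1,0,1,0,2,0]) (Tr.leaf [0,1,3,1,0,1,1,0,1,0,1,0,2,2,3,0,1,1,0,2,2,0,1,0,1,0,1,0,1,1,0,1,1,1,1,0,2,0,2,2,2,0,3,1,0,1]))) (Tr.node (Tr.node (Tr.leaf [0,1,0,2,2,2,2,2,0,1,1,1,1,1,0,2,0,2,2,2,2,0,1,1,1,1]) (Tr.leaf [0,1,1,1,0,2,2,2,0,2,2,0,1,1,0,2,2,0,2,2,0,1,1,0,1,1,0,2,2,0,1,1])) (Tr.node (Tr.leaf [0,1,1,1,1,1,1,1,1,1,0,2,2,0,2,2,0,2,0,2,0,2,0,2,0,1,0,1,1,0,1,1]) (Tr.leaf [])))) (Tr.node (Tr.node (Tr.node (Tr.leaf [1,1,0,1,1,1,1,0,1,1,1,1,0,1,1,1,1,0,1,1,1,1,0,1,1]) (Tr.leaf [2,2,0,1,1,1,1,1,0,2,0,2,2,2,0,2,0,1,1,1,1,0,1,0,2,2,2,0,1,0,2,0])) (Tr.node (Tr.leaf [1,0,1,0,2,2,0,1,0,1,0,2,0,2,0,1,0,1,0,2,0,2,0,1,1,0,2,0,2,0]) (Tr.leaf []))) (Tr.node (Tr.node (Tr.leaf [2,0,1,0,2,2,0,1,1,0,2,0,1,0,2,0,1,0,2,2,0,1,1,0,2,0,1,0]) (Tr.leaf [1,3,1,1,1,1,3,2,3,2,0,1,1,0,2,2,0,1,1,1,0,2,0,1,0,2,0,2,2,0,1,3])) (Tr.node (Tr.leaf [0,1,0,2,0,2,0,2,2,0,2,0,2,0,1,0,1,1,0,1,1,1,1,0,1,1,0,1,1,0,1,1]) (Tr.leaf []))))) (Tr.node (Tr.node (Tr.node (Tr.node (Tr.leaf [2,0,2,0,1,0,1,0,2,0,1,0,2,0,2,0,1,0,1,0,2,0,1,0]) (Tr.leaf [1,1,0,1,0,2,0,1,0,1,1,0,2,2,2,0,2,2,2,2,0,1,1,1,1,0,2,2,0,1,1,0])) (Tr.node (Tr.leaf [1,1,0,2,2,2,0,2,0,2,0,1,0,1,0,1,1,1,0,2,2,0,2,0,1,0,2,0,1,0]) (Tr.leaf [3,1,0,2,2,2,0,1,1,0,2,0,2,3,1,1,0,1,1,1,1,0,2,3,0,2,0,1,1,0,2,2,2,0,1,0,1,0,1,0,1,1,1,0,1,1,1]))) (Tr.node (Tr.node (Tr.leaf [2,2,2,0,2,2,0,2,2,0,2,2,0,2,0,2,0,1,0,1,1,0,2,2,2,2,2,2]) (Tr.leaf [3,2,0,2,0,2,0,1,1,0,2,0,2,0,1,3,2,0,1,1,0,2,0,2,2,0,2,0,1,0,1,0,1,1,0,2,2])) (Tr.node (Tr.leaf [2,0,1,0,2,0,2,2,2,0,2,0,2,0,2,0,2,2,0,1,0,2,0,2,0,2,0,1,1,0,1,0]) (Tr.leaf [])))) (Tr.node (Tr.node (Tr.node (Tr.leaf [1,1,0,1,0,2,0,1,0,1,1,0,2,2,2,2,2,2,2,0,1,1,0,1,1,0]) (Tr.leaf [2,2,2,0,1,1,0,1,1,0,1,1,0,1,0,2,0,1,0,2,2,0,1,1,1,1,0,2,2,2,2,0])) (Tr.node (Tr.leaf [2,2,2,0,1,1,1,1,0,2,2,2,2,2,0,2,0,2,0,2,0,2,0,2,0,2,0,1,1,1,0,2]) (Tr.leaf []))) (Tr.node (Tr.node (Tr.leaf [0,1,0,1,0,1,0,1,1,0,1,0,2,0,1,0,2,0,2,0,1,0,1,0,2,0,1,1,0,1]) (Tr.leaf [2,0,1,0,1,1,1,1,0,2,0,1,0,2,0,1,1,0,1,0,2,2,3,1,0,1,0,1,1,1,0,2,3,1,0,2,3])) (Tr.node (Tr.leaf [1,0,2,2,2,0,2,0,1,1,0,1,0,1,0,1,1,1,1,1,1,1,1,0,1,0,2,2,2,0,2,0]) (Tr.leaf [])))))) (Tr.node (Tr.node (Tr.node (Tr.node (Tr.node (Tr.leaf [2,0,1,1,1,1,0,2,2,2,2,0,1,1,1,1,0,2,2,2]) (Tr.leaf [1,0,2,2,0,2,0,1,1,0,1,0,2,0,1,0,2,0,2,2,0,1,0,1,1,0,2,0,1,0,2,0])) (Tr.node (Tr.leaf [2,2,2,0,2,2,0,2,0,1,0,1,0,1,1,0,1,1,0,1,1,0,2,2,2,2,2,2,2,2]) (Tr.leaf [2,0,2,0,2,3,0,1,1,1,0,1,0,2,2,2,2,0,2,2,0,2,0,2,0,2,0,1,1,0,2,2,0,3,1,1,0,2,0,2,0,2,2,0,2,3]))) (Tr.node (Tr.node (Tr.leaf [2,0,2,0,1,0,1,1,0,1,1,0,2,2,0,2,2,0,2,0,1,0,1,0,1,0,2,0]) (Tr.leaf [0,2,0,1,0,2,2,0,1,0,2,0,1,0,1,1,3,1,1,1,1,1,3,0,1])) (Tr.node (Tr.leaf [0,1,0,2,0,2,0,1,1,0,2,0,1,0,2,0,1,0,2,2,2,0,2,0,2,0,2,0,2,0,2,2]) (Tr.leaf [])))) (Tr.node (Tr.node (Tr.node (Tr.leaf [0,2,0,1,0,2,2,0,1,0,1,0,2,0,1,0,2,0,2,0,1,1,0,2,0,1]) (Tr.leaf [0,1,1,1,1,1,1,1,0,2,2,2,0,1,0,2,0,1,0,2,0,1,0,2,2,2,0,2,2,0,2,2])) (Tr.node (Tr.leaf [1,1,1,1,0,1,0,2,2,2,0,1,0,2,0,1,1,1,0,2,0,2,2,2,2,0,1,0,2,0]) (Tr.leaf []))) (Tr.node (Tr.node (Tr.leaf [0,1,0,1,0,1,0,1,1,0,2,0,1,0,2,0,1,0,2,0,1,0,2,0,1,1,0,1,0,1]) (Tr.leaf [1,1,0,3,1,3,0,2,0,1,1,0,3,2,3,0,1,1,1,0,2,0,1,1,0,1,1,1,1,1,1,0,1,0,1,1,0])) (Tr.node (Tr.leaf [0,1,1,0,2,2,2,0,2,0,2,0,1,0,2,2,2,0,1,1,1,1,0,2,2,0,1,1,0,1,1,1]) (Tr.leaf []))))) (Tr.node (Tr.node (Tr.node (Tr.node (Tr.leaf [2,2,0,2,2,0,2,2,0,2,2,0,2,2,0,2,2,0,2,2,0,2,2,0]) (Tr.leaf [1,1,1,1,1,1,1,0,2,2,0,2,0,1,0,1,1,1,1,1,1,1,1,0,2,2,0,2,0,1,0,1])) (Tr.node (Tr.leaf [1,1,0,2,0,2,0,1,0,1,0,1,1,1,0,2,2,0,2,2,2,0,2,2,0,2,2,0,1,1]) (Tr.leaf []))) (Tr.node (Tr.node (Tr.leaf [0,2,2,2,2,0,2,0,1,0,1,1,1,1,0,2,2,2,2,0,2,0,1,0,1,1,1,1]) (Tr.leaf [1,0,2,2,0,1,0,1,0,1,3,1,1,0,2,2,0,2,0,2,0,1,0,1,1,0,1,0,2,2,0,1,3,2,0,1,0])) (Tr.node (Tr.leaf [0,1,0,1,1,0,1,0,1,0,2,0,2,2,0,2,2,0,2,2,0,2,2,2,2,0,2,2,0,2,0,1]) (Tr.leaf [])))) (Tr.node (Tr.node (Tr.node (Tr.leaf [1,1,1,1,0,2,2,2,2,0,2,0,1,1,1,1,1,0,2,2,2,2,2,0,1,0]) (Tr.leaf [1,1,0,1,0,2,0,1,1,1,0,1,0,2,0,1,1,1,0,1,0,2,0,1,1,1,0,1,0,2,0,1])) (Tr.node (Tr.leaf [2,2,2,2,0,1,1,1,1,0,2,2,2,2,0,1,1,1,0,2,0,2,0,2,0,2,0,2,0,2,0,2]) (Tr.leaf []))) (Tr.node (Tr.node (Tr.leaf [0,1,0,1,1,0,1,1,0,1,1,0,2,2,0,2,2,0,2,0,1,0,1,0,1,1,0,1,0,1]) (Tr.leaf [1,1,0,1,1,0,1,0,3,2,3,2,0,1,1,0,2,0,2,0,1,1,1,1,0,2,0,1,1,1,0,1,0,1,1,0,1,3,1,3,0,1,3,1,0,2,2,0])) (Tr.node (Tr.leaf [0,1,0,1,0,2,2,0,1,0,1,0,2,0,2,0,1,1,0,2,0,2,0,1,1,0,2,0,1,0,2,2]) (Tr.leaf []))))))) (Tr.node (Tr.node (Tr.node (Tr.node (Tr.node (Tr.node (Tr.leaf [0,1,0,2,0,1,0,2,0,1,0,2,0,1,0,2,0,1,0,2]) (Tr.leaf [2,0,2,2,2,2,2,2,2,2,2,2,2,2,2,0,2,2,0,2,0,1,0,2,0,2,2,0,2,2,0,2])) (Tr.node (Tr.leaf [0,1,0,2,0,2,2,0,1,0,1,0,1,0,2,0,1,0,2,0,2,0,2,0,1,1,0,1,0,2]) (Tr.leaf [0,1,1,1,0,1,0,2,2,2,2,0,2,2,0,2,0,2,0,2,0,1,1,0,2,2,0,3,1,1,0,2,0,2,0,2,2,0,2,3,2,0,2,0,2,3]))) (Tr.node (Tr.node (Tr.leaf [1,0,1,1,0,2,2,0,2,2,0,2,0,1,0,1,0,1,0,2,0,2,0,2,0,1,0,1]) (Tr.leaf [1,1,1,0,1,1,1,0,1,1,1,0,1,1,1,0,1,1,1,0,1,1,1,0,1,1,1,0,1,1,1,0])) (Tr.node (Tr.leaf [1,0,1,0,1,0,1,1,1,0,2,0,1,0,2,0,1,0,2,2,0,1,0,1,0,2,0,1,1,0,1,0]) (Tr.leaf [])))) (Tr.node (Tr.node (Tr.node (Tr.leaf [1,0,1,0,2,0,1,0,2,0,2,0,1,1,0,2,0,1,0,2,0,1,0,2,2,0]) (Tr.leaf [0,1,1,0,2,2,0,2,2,2,2,2,0,2,0,1,0,2,0,1,0,1,1,1,1,1,0,1,1,0,2,2])) (Tr.node (Tr.leaf [1,1,0,2,0,1,0,2,0,1,0,2,2,2,0,1,1,0,1,0,2,0,1,0,2,0,2,2,0,1]) (Tr.leaf []))) (Tr.node (Tr.node (Tr.leaf [0,1,0,1,0,1,0,1,1,0,1,0,1,0,1,0,1,0,1,0,1,0,1,1,0,1,0,1,0,1]) (Tr.leaf [0,3,2,3,0,2,2,0,2,2,0,2,0,2,2,2,2,2,2,0,2,2,0,1,0,2,2,2,0,3,1,3,0,2,2,0,1])) (Tr.node (Tr.leaf [2,2,2,2,0,1,1,1,0,2,0,1,0,1,0,1,1,1,0,2,2,0,2,2,2,0,2,2,0,1,1,0]) (Tr.leaf []))))) (Tr.node (Tr.node (Tr.node (Tr.node (Tr.leaf [0,1,0,1,0,2,0,1,0,2,0,2,0,1,0,1,0,2,0,1,0,2,0,2]) (Tr.leaf [2,2,0,2,0,1,0,2,0,2,2,0,2,2,0,1,1,0,2,2,2,2,0,1,1,1,1,0,1,1,1,0])) (Tr.node (Tr.leaf [1,0,1,0,1,1,1,0,2,2,0,2,2,2,0,2,2,0,2,2,0,1,1,1,1,0,2,0,2,0]) (Tr.leaf [1,0,2,3,0,2,0,1,1,0,2,2,2,0,1,0,1,0,1,0,1,1,1,0,1,1,1,3,1,0,2,2,2,0,1,1,0,2,0,2,3,1,1,0,1,1,1]))) (Tr.node (Tr.node (Tr.leaf [2,0,2,0,1,0,1,0,2,2,0,1,1,0,2,0,2,0,1,0,1,0,2,2,0,1,1,0]) (Tr.leaf [1,0,2,0,2,2,0,2,0,1,0,1,0,1,1,0,2,2,3,2,0,2,0,2,0,1,1,0,2,0,2,0,1,3,2,0,1])) (Tr.node (Tr.leaf [1,0,2,0,2,0,2,0,1,1,1,0,2,0,1,0,2,0,1,0,2,2,2,0,1,0,1,0,1,0,2,0]) (Tr.leaf [])))) (Tr.node (Tr.node (Tr.node (Tr.leaf [0,1,1,1,1,1,1,1,0,2,2,0,2,0,1,0,2,0,2,2,0,2,2,0,2,2]) (Tr.leaf [0,2,2,2,2,0,1,1,0,2,0,1,0,2,0,2,2,0,2,2,0,2,2,0,1,1,1,0,1,1,1,1])) (Tr.node (Tr.leaf [0,1,0,1,0,1,0,1,0,1,0,2,2,2,0,1,1,1,1,0,2,2,2,2,0,1,1,1,1,1,0,1]) (Tr.leaf []))) (Tr.node (Tr.node (Tr.leaf [1,0,2,0,2,0,1,0,1,0,2,0,1,0,2,0,2,2,0,2,0,2,0,2,0,2,0,2,2,0]) (Tr.leaf [2,3,1,0,2,3,2,0,1,0,1,1,1,1,0,2,0,1,0,2,0,1,1,0,1,0,2,2,3,1,0,1,0,1,1,1,0])) (Tr.node (Tr.leaf [2,2,2,2,2,2,2,2,0,2,0,2,0,2,2,0,1,0,1,1,1,0,2,0,1,0,1,1,1,0,2,0]) (Tr.leaf [])))))) (Tr.node (Tr.node (Tr.node (Tr.node (Tr.node (Tr.leaf [1,1,1,1,1,1,1,1,1,1,1,1,1,1,1,1,1,1,1,1]) (Tr.leaf [1,1,0,2,2,0,2,0,1,0,1,1,0,2,2,0,1,1,0,2,2,0,2,0,1,0,1,1,0,2,2,0])) (Tr.node (Tr.leaf [2,0,2,2,0,2,2,0,2,0,2,0,1,0,1,1,0,1,1,1,1,1,1,1,1,1,1,1,0,2]) (Tr.leaf [0,1,0,2,2,0,1,1,1,0,2,3,2,2,2,0,2,2,2,0,2,0,2,0,2,0,1,1,1,0,2,2,0,1,0,3,1,0,2,2,2,2,0,2,2,3,1]))) (Tr.node (Tr.node (Tr.leaf [1,1,1,1,1,0,2,2,0,2,0,1,0,1,0,1,1,0,1,1,0,1,1,0,1,1,1,1]) (Tr.leaf [0,1,0,2,0,1,1,0,2,0,1,0,2,0,3,2,2,2,2,2,3,2,2,0,2])) (Tr.node (Tr.leaf [0,1,1,1,0,1,0,2,0,1,0,2,0,2,2,0,1,0,1,0,1,0,2,0,1,1,0,1,0,1,0,1]) (Tr.leaf [])))) (Tr.node (Tr.node (Tr.node (Tr.leaf [1,1,0,2,2,2,2,2,2,2,0,1,1,0,1,1,0,1,1,0,1,0,2,0,1,0]) (Tr.leaf [1,1,0,2,0,1,0,2,0,1,0,2,0,1,1,1,0,2,2,2,2,2,2,2,0,1,1,0,1,1,0,1])) (Tr.node (Tr.leaf [1,0,1,1,1,1,1,0,2,2,2,2,0,1,1,1,1,0,2,2,2,0,1,0,1,0,1,0,1,0,1,0]) (Tr.leaf []))) (Tr.node (Tr.node (Tr.leaf [0,2,0,1,0,2,0,1,0,2,0,1,0,2,2,0,2,0,2,0,2,0,2,0,2,0,2,2,0,1]) (Tr.leaf [3,1,0,2,2,2,0,2,0,2,3,1,1,0,2,0,2,2,0,1,0,2,0,1,0,2,2,2,2,0,2,0,1,3,1,0,2])) (Tr.node (Tr.leaf [2,2,2,0,2,0,2,0,1,0,1,0,1,1,1,0,2,2,2,0,1,0,2,0,1,0,2,0,1,1,1,0]) (Tr.leaf []))))) (Tr.node (Tr.node (Tr.node (Tr.node (Tr.leaf [1,0,2,2,2,2,2,0,1,1,1,1,1,0,2,2,2,2,2,0,1,1,1,1]) (Tr.leaf [0,1,0,2,0,1,1,1,0,2,0,2,2,2,2,0,1,0,1,1,1,0,1,0,2,2,2,2,2,0,1,1])) (Tr.node (Tr.leaf [1,0,2,2,2,0,2,0,2,0,1,0,1,0,2,2,2,2,0,1,1,0,1,1,0,1,1,1,0,1]) (Tr.leaf []))) (Tr.node (Tr.node (Tr.leaf [2,0,1,1,0,1,0,2,0,1,0,2,0,2,2,0,1,1,0,1,0,2,0,1,0,2,0,2]) (Tr.leaf [3,2,0,1,1,0,1,0,2,0,1,0,2,2,2,0,1,1,0,2,2,0,1,3,1,3,2,2,2,2,3,2])) (Tr.node (Tr.leaf [2,2,0,2,0,1,0,1,0,1,1,0,1,0,1,0,2,0,2,2,0,2,2,0,2,2,0,2,2,2,2,0]) (Tr.leaf [])))) (Tr.node (Tr.node (Tr.node (Tr.leaf [1,1,0,2,2,2,2,2,0,1,0,1,1,1,1,0,2,2,2,2,0,2,0,1,1,1]) (Tr.leaf [1,1,1,0,2,2,2,2,2,0,1,0,2,0,1,1,1,1,1,0,2,2,2,2,2,0,1,0,2,0,1,1])) (Tr.node (Tr.leaf [2,0,2,0,2,0,2,2,2,2,2,0,1,1,1,1,0,2,2,2,2,0,1,1,1,0,2,0,2,0,2,0]) (Tr.leaf []))) (Tr.node (Tr.node (Tr.leaf [1,0,2,2,0,2,2,0,2,2,0,2,0,2,0,2,0,2,2,0,2,0,2,0,1,0,1,1,0,1]) (Tr.leaf [0,2,0,2,2,0,2,2,0,1,1,0,2,3,2,0,3,2,3,2,0,2,2,0,2,0,2,2,2,0,1,0,2,2,2,2,0,1,0,1,0,2,2,0,1,3,1,3])) (Tr.node (Tr.leaf [2,0,2,2,2,2,2,2,0,1,0,2,0,1,1,1,1,1,1,0,1,0,1,1,0,1,0,2,0,2,2,0]) (Tr.leaf [])))))))) (Tr.node (Tr.node (Tr.node (Tr.node (Tr.node (Tr.node (Tr.node (Tr.leaf [0,2,0,2,0,2,0,2,0,2,0,2,0,2,0,2]) (Tr.leaf [1,1,1,1,0,1,1,0,1,1,0,1,1,0,1,0,2,0,1,0,1,1,0,1,1,1,1,1,1,1,1,1])) (Tr.node (Tr.leaf [1,0,1,0,2,0,1,0,2,0,2,2,0,1,0,1,0,1,0,2,0,1,0,2,0,2,0,2,0,1]) (Tr.leaf [3,0,1,1,0,2,2,0,1,0,1,0,1,0,1,1,0,1,1,1,1,0,2,0,2,2,2,0,3,1,0,1,0,1,3,1,0,1,1,0,1,0,1,0,2,2]))) (Tr.node (Tr.node (Tr.leaf [0,2,0,2,0,2,0,1,0,1,1,0,1,1,0,2,2,0,2,2,0,2,0,1,0,1,0,1]) (Tr.leaf [0,2,2,0,2,2,0,1,1,0,1,1,0,2,2,0,1,1,0,1,1,1,0,2,2,2,0,2,2,0,1,1])) (Tr.node (Tr.leaf [2,2,0,2,0,2,0,2,0,2,0,1,0,1,1,0,1,1,0,1,1,1,1,1,1,1,1,1,0,2,2,0]) (Tr.leaf [])))) (Tr.node (Tr.node (Tr.node (Tr.leaf [2,0,2,2,2,2,0,2,2,2,2,0,2,2,2,2,0,2,2,2,2,0,2,2,2]) (Tr.leaf [1,0,1,1,1,1,1,0,1,1,0,2,2,0,1,1,0,2,2,0,2,2,2,2,2,0,2,0,1,0,2,0])) (Tr.node (Tr.leaf [2,0,1,1,1,0,2,0,1,0,2,0,1,0,2,2,2,0,1,1,0,1,0,2,0,1,0,2,0,2]) (Tr.leaf []))) (Tr.node (Tr.node (Tr.leaf [2,2,2,2,0,1,1,1,1,0,1,0,2,0,2,2,2,2,0,1,1,1,1,0,1,0,2,0]) (Tr.leaf [3,2,0,1,1,0,2,2,0,1,1,1,0,2,0,1,0,2,0,2,2,0,1,3,1,3,1,1,1,1,3,2])) (Tr.node (Tr.leaf [0,2,2,2,0,2,2,0,1,1,0,2,2,2,2,0,1,1,1,0,2,0,1,0,1,0,1,1,1,0,2,2]) (Tr.leaf []))))) (Tr.node (Tr.node (Tr.node (Tr.node (Tr.leaf [1,0,2,0,2,0,1,0,1,0,2,0,1,0,2,0,2,0,1,0,1,0,2,0]) (Tr.leaf [1,1,0,2,2,2,2,0,1,1,1,1,0,1,1,1,0,2,2,0,2,0,1,0,2,0,2,2,0,2,2,0])) (Tr.node (Tr.leaf [1,1,0,2,2,0,2,0,1,0,2,0,1,0,1,1,0,2,2,2,0,2,0,2,0,1,0,1,0,1]) (Tr.leaf [2,3,1,1,0,1,1,1,1,0,2,3,0,2,0,1,1,0,2,2,2,0,1,0,1,0,1,0,1,1,1,0,1,1,1,3,1,0,2,2,2,0,1,1,0,2,0]))) (Tr.node (Tr.node (Tr.leaf [2,2,0,2,0,2,0,1,0,1,1,0,2,2,2,2,2,2,2,2,2,0,2,2,0,2,2,0]) (Tr.leaf [0,2,0,2,0,1,3,2,0,1,1,0,2,0,2,2,0,2,0,1,0,1,0,1,1,0,2,2,3,2,0,2,0,2,0,1,1])) (Tr.node (Tr.leaf [0,2,0,2,0,1,0,1,0,1,0,2,0,1,0,2,0,2,0,2,0,1,0,1,0,1,0,2,0,1,0,2]) (Tr.leaf [])))) (Tr.node (Tr.node (Tr.node (Tr.leaf [0,2,2,0,2,2,0,2,2,0,1,1,1,1,1,1,1,0,2,2,0,2,0,1,0,2]) (Tr.leaf [2,2,0,2,2,0,2,2,0,1,1,1,0,1,1,1,1,0,2,2,2,2,0,1,1,0,2,0,1,0,2,0])) (Tr.node (Tr.leaf [0,2,0,2,0,2,0,2,0,2,0,2,0,1,1,1,0,2,2,2,2,0,1,1,1,1,0,2,2,2,2,2]) (Tr.leaf []))) (Tr.node (Tr.node (Tr.leaf [1,0,2,0,2,0,1,0,1,0,2,0,1,1,0,1,0,1,0,1,0,1,0,1,1,0,1,0,2,0]) (Tr.leaf [3,1,0,1,0,1,1,1,0,2,3,1,0,2,3,2,0,1,0,1,1,1,1,0,2,0,1,0,2,0,1,1,0,1,0,2,2])) (Tr.node (Tr.leaf [1,1,0,2,0,1,0,1,1,1,0,2,0,2,2,2,2,2,2,2,2,0,2,0,2,0,2,2,0,1,0,1]) (Tr.leaf [])))))) (Tr.node (Tr.node (Tr.node (Tr.node (Tr.node (Tr.leaf [2,0,1,1,1,1,0,2,2,2,2,0,1,1,1,1,0,2,2,2]) (Tr.leaf [0,1,0,1,1,0,2,2,0,1,1,0,2,2,0,2,0,1,0,1,1,0,2,2,0,1,1,0,2,2,0,2])) (Tr.node (Tr.leaf [1,1,1,1,1,1,1,1,1,0,2,2,0,2,2,0,2,2,0,2,0,2,0,1,0,1,1,0,1,1]) (Tr.leaf [0,2,2,2,2,0,2,2,3,1,0,1,0,2,2,0,1,1,1,0,2,3,2,2,2,0,2,2,2,0,2,0,2,0,2,0,1,1,1,0,2,2,0,1,0,3,1]))) (Tr.node (Tr.node (Tr.leaf [1,0,1,1,0,1,1,1,1,1,1,1,1,1,0,2,2,0,2,0,1,0,1,0,1,1,0,1]) (Tr.leaf [0,1,0,1,1,3,1,1,1,1,1,3,0,1,0,2,0,1,0,2,2,0,1,0,2])) (Tr.node (Tr.leaf [0,2,0,2,0,2,0,2,2,0,1,0,2,0,2,0,1,1,0,2,0,1,0,2,0,1,0,2,2,2,0,2]) (Tr.leaf [])))) (Tr.node (Tr.node (Tr.node (Tr.leaf [0,1,0,2,0,1,0,2,2,0,1,0,1,0,2,0,1,0,2,0,2,0,1,1,0,2]) (Tr.leaf [1,1,1,0,2,2,2,2,2,2,2,0,1,1,0,1,1,0,1,1,1,0,2,0,1,0,2,0,1,0,2,0])) (Tr.node (Tr.leaf [0,2,2,2,2,0,1,0,2,0,1,1,1,1,0,1,0,2,2,2,0,1,0,2,0,1,1,1,0,2]) (Tr.leaf []))) (Tr.node (Tr.node (Tr.leaf [0,1,0,2,0,1,0,2,0,1,1,0,1,0,1,0,1,0,1,0,1,0,1,1,0,2,0,1,0,2]) (Tr.leaf [0,3,2,3,0,1,1,1,0,2,0,1,1,0,1,1,1,1,1,1,0,1,0,1,1,0,1,1,0,3,1,3,0,2,0,1,1])) (Tr.node (Tr.leaf [2,0,1,0,2,0,1,0,2,0,1,1,1,0,2,2,2,0,2,0,2,0,1,0,1,0,1,1,1,0,2,2]) (Tr.leaf []))))) (Tr.node (Tr.node (Tr.node (Tr.node (Tr.leaf [0,2,2,2,2,2,0,1,1,1,1,1,0,2,2,2,2,2,0,1,1,1,1,1]) (Tr.leaf [1,0,1,0,2,2,2,2,2,0,1,1,0,1,0,2,0,1,1,1,0,2,0,2,2,2,2,0,1,0,1,1])) (Tr.node (Tr.leaf [2,2,2,0,1,1,0,1,1,0,1,1,1,0,1,1,0,2,2,2,0,2,0,2,0,1,0,1,0,2]) (Tr.leaf []))) (Tr.node (Tr.node (Tr.leaf [1,0,1,1,1,1,0,2,2,2,2,0,2,0,1,0,1,1,1,1,0,2,2,2,2,0,2,0]) (Tr.leaf [1,3,2,2,2,2,3,2,3,2,0,1,1,0,1,0,2,0,1,0,2,2,2,0,1,1,0,2,2,0,1,3])) (Tr.node (Tr.leaf [2,2,0,2,2,0,2,2,0,2,2,2,2,0,2,2,0,2,0,1,0,1,0,1,1,0,1,0,1,0,2,0]) (Tr.leaf [])))) (Tr.node (Tr.node (Tr.node (Tr.leaf [2,0,1,1,1,1,1,0,2,2,2,2,2,0,1,0,1,1,1,1,0,2,2,2,2,0]) (Tr.leaf [2,0,1,0,2,0,2,2,2,0,1,0,2,0,2,2,2,0,1,0,2,0,2,2,2,0,1,0,2,0,2,2])) (Tr.node (Tr.leaf [2,2,2,0,1,1,1,0,2,0,2,0,2,0,2,0,2,0,2,0,2,2,2,2,2,0,1,1,1,1,0,2]) (Tr.leaf []))) (Tr.node (Tr.node (Tr.leaf [2,0,2,0,1,0,1,0,1,1,0,1,0,1,0,1,0,1,1,0,1,1,0,1,1,0,2,2,0,2]) (Tr.leaf [2,0,2,0,1,1,1,1,0,2,0,1,1,1,0,1,0,1,1,0,1,3,1,3,0,1,3,1,0,2,2,0,1,1,0,1,1,0,1,0,3,2,3,2,0,1,1,0])) (Tr.node (Tr.leaf [0,1,1,0,1,0,2,0,2,2,0,2,0,2,2,2,2,2,2,0,1,0,2,0,1,1,1,1,1,1,0,1]) (Tr.leaf []))))))) (Tr.node (Tr.node (Tr.node (Tr.node (Tr.node (Tr.node (Tr.leaf [1,1,1,1,0,2,2,2,2,0,1,1,1,1,0,2,2,2,2,0]) (Tr.leaf [0,1,0,2,0,2,2,0,2,2,0,2,2,0,2,2,2,2,2,2,2,2,2,2,2,2,2,0,2,2,0,2])) (Tr.node (Tr.leaf [1,1,0,1,1,0,2,2,2,2,2,2,2,2,2,2,2,0,2,2,0,2,0,1,0,1,0,1,1,0]) (Tr.leaf [1,1,0,2,0,2,0,2,2,0,2,3,2,0,2,0,2,3,0,1,1,1,0,1,0,2,2,2,2,0,2,2,0,2,0,2,0,2,0,1,1,0,2,2,0,3]))) (Tr.node (Tr.node (Tr.leaf [2,2,0,2,0,1,0,1,0,1,0,2,0,2,0,2,0,1,0,1,1,0,1,1,0,2,2,0]) (Tr.leaf [1,1,1,1,1,3,0,1,0,2,0,1,0,2,2,0,1,0,2,0,1,0,1,1,3])) (Tr.node (Tr.leaf [1,0,2,0,1,0,2,2,0,1,0,1,0,2,0,1,1,0,1,0,1,0,1,0,1,0,1,1,1,0,2,0]) (Tr.leaf [])))) (Tr.node (Tr.node (Tr.node (Tr.leaf [2,0,1,1,0,2,0,1,0,2,0,1,0,2,2,0,1,0,1,0,2,0,1,0,2,0]) (Tr.leaf [2,2,0,2,0,1,0,2,0,1,0,1,1,1,1,1,0,1,1,0,2,2,0,1,1,0,2,2,0,2,2,2])) (Tr.node (Tr.leaf [1,1,0,2,0,2,2,2,2,0,1,0,2,0,1,1,1,1,0,1,0,2,2,2,0,1,0,2,0,1]) (Tr.leaf []))) (Tr.node (Tr.node (Tr.leaf [0,2,0,2,0,2,0,2,0,2,2,0,2,0,2,0,2,0,2,0,2,0,2,0,2,2,0,2,0,2]) (Tr.leaf [0,2,0,2,2,2,2,2,2,0,2,2,0,1,0,2,2,2,0,3,1,3,0,2,2,0,1,0,3,2,3,0,2,2,0,2,2])) (Tr.node (Tr.leaf [1,0,2,2,2,0,1,1,1,1,0,2,2,0,1,1,0,1,1,1,0,1,1,0,2,2,2,0,2,0,2,0]) (Tr.leaf []))))) (Tr.node (Tr.node (Tr.node (Tr.node (Tr.leaf [2,2,0,2,2,0,2,2,0,2,2,0,2,2,0,2,2,0,2,2,0,2,2,0]) (Tr.leaf [1,0,1,1,0,2,2,2,2,2,2,2,2,0,2,0,1,0,1,1,0,2,2,2,2,2,2,2,2,0,2,0])) (Tr.node (Tr.leaf [2,0,2,2,0,2,2,0,1,1,1,1,0,2,0,2,0,1,0,1,0,1,1,1,0,2,2,0,2,2]) (Tr.leaf []))) (Tr.node (Tr.node (Tr.leaf [2,0,1,0,1,0,2,2,0,1,1,0,2,0,2,0,1,0,1,0,2,2,0,1,1,0,2,0]) (Tr.leaf [1,0,2,2,0,2,0,2,0,1,0,1,1,0,1,0,2,2,0,1,3,2,0,1,0,1,0,2,2,0,1,0,1,0,1,3,1])) (Tr.node (Tr.leaf [0,2,0,1,0,2,2,2,0,1,0,1,0,1,0,2,0,1,0,2,0,2,0,2,0,1,1,1,0,2,0,1]) (Tr.leaf [])))) (Tr.node (Tr.node (Tr.node (Tr.leaf [2,2,0,2,0,1,0,2,0,2,2,0,2,2,0,2,2,0,1,1,1,1,1,1,1,0]) (Tr.leaf [0,1,1,1,0,2,0,1,0,2,0,1,0,2,2,2,0,1,1,1,0,2,0,1,0,2,0,1,0,2,2,2])) (Tr.node (Tr.leaf [1,1,0,2,2,2,2,0,1,1,1,1,1,0,1,0,1,0,1,0,1,0,1,0,1,0,2,2,2,0,1,1]) (Tr.leaf []))) (Tr.node (Tr.node (Tr.leaf [2,2,0,2,0,2,0,2,0,2,0,2,2,0,1,0,2,0,2,0,1,0,1,0,2,0,1,0,2,0]) (Tr.leaf [0,1,3,1,0,2,2,0,1,1,0,1,1,0,1,0,3,2,3,2,0,1,1,0,2,0,2,0,1,1,1,1,0,2,0,1,1,1,0,1,0,1,1,0,1,3,1,3])) (Tr.node (Tr.leaf [2,0,1,0,1,0,2,0,2,0,1,0,1,0,2,0,2,0,1,0,1,0,2,0,2,0,1,0,1,0,2,0]) (Tr.leaf [])))))) (Tr.node (Tr.node (Tr.node (Tr.node (Tr.node (Tr.leaf [0,1,0,1,0,2,0,1,0,2,0,2,0,1,0,1,0,2,0,1,0,2,0,2]) (Tr.leaf [2,2,0,1,1,1,1,0,2,2,0,1,1,0,1,1,0,1,0,2,0,1,0,1,1,0,2,2,2,0,2,2])) (Tr.node (Tr.leaf [1,1,0,2,2,0,2,0,1,0,2,0,1,0,1,1,0,2,2,2,0,2,0,2,0,1,0,1,0,1]) (Tr.leaf [0,2,2,2,0,2,0,2,0,2,0,1,1,1,0,2,2,0,1,0,3,1,0,2,2,2,2,0,2,2,3,1,0,1,0,2,2,0,1,1,1,0,2,3,2,2,2]))) (Tr.node (Tr.node (Tr.leaf [0,1,1,0,2,2,2,2,2,2,2,2,2,0,2,2,0,2,2,0,2,2,0,2,0,2,0,1]) (Tr.leaf [0,3,2,2,2,2,2,3,2,2,0,2,0,1,0,2,0,1,1,0,2,0,1,0,2])) (Tr.node (Tr.leaf [0,2,0,1,1,0,1,0,1,0,1,0,1,1,1,0,1,0,2,0,1,0,2,0,2,2,0,1,0,1,0,1]) (Tr.leaf [])))) (Tr.node (Tr.node (Tr.node (Tr.leaf [2,2,0,1,1,0,1,1,0,1,1,0,1,0,2,0,1,0,1,1,0,2,2,2,2,2]) (Tr.leaf [1,0,2,2,0,1,1,1,1,0,2,2,2,2,0,2,2,2,0,1,1,0,1,1,0,1,1,0,1,0,2,0])) (Tr.node (Tr.leaf [0,1,1,1,1,0,2,2,2,0,1,0,1,0,1,0,1,0,1,0,1,0,1,1,1,1,1,0,2,2,2,2]) (Tr.leaf []))) (Tr.node (Tr.node (Tr.leaf [2,2,0,2,0,2,0,2,0,2,0,2,0,2,2,0,1,0,2,0,1,0,2,0,1,0,2,0,1,0]) (Tr.leaf [1,1,0,2,0,2,2,0,1,0,2,0,1,0,2,2,2,2,0,2,0,1,3,1,0,2,3,1,0,2,2,2,0,2,0,2,3])) (Tr.node (Tr.leaf [1,1,1,1,0,1,0,2,2,2,0,2,0,1,0,2,2,2,0,2,0,1,1,0,1,0,1,0,1,1,1,1]) (Tr.leaf []))))) (Tr.node (Tr.node (Tr.node (Tr.node (Tr.leaf [1,1,0,1,1,1,1,0,1,1,1,1,0,1,1,1,1,0,1,1,1,1,0,1,1]) (Tr.leaf [2,2,0,1,0,1,1,1,0,1,0,2,2,2,2,2,0,1,1,0,1,0,2,0,1,1,1,0,2,0,2,2])) (Tr.node (Tr.leaf [0,2,0,1,0,1,0,2,0,2,0,1,1,0,2,0,2,0,1,0,1,0,2,2,0,1,0,1,0,2]) (Tr.leaf []))) (Tr.node (Tr.node (Tr.leaf [1,0,2,0,1,0,2,0,2,2,0,1,1,0,1,0,2,0,1,0,2,0,2,2,0,1,1,0]) (Tr.leaf [1,3,1,3,2,2,2,2,3,2,3,2,0,1,1,0,1,0,2,0,1,0,2,2,2,0,1,1,0,2,2,0])) (Tr.node (Tr.leaf [1,1,1,0,1,1,0,1,1,0,1,1,0,1,0,2,0,2,0,2,2,0,2,0,2,0,1,0,1,1,0,1]) (Tr.leaf [])))) (Tr.node (Tr.node (Tr.node (Tr.leaf [1,1,1,0,2,0,2,2,2,2,0,1,1,1,1,0,1,0,2,2,2,2,2,0,1,1]) (Tr.leaf [1,1,1,0,2,0,1,0,2,2,2,2,2,0,1,1,1,1,1,0,2,0,1,0,2,2,2,2,2,0,1,1])) (Tr.node (Tr.leaf [0,1,1,0,1,1,0,2,2,2,2,2,2,2,2,2,0,2,2,0,2,2,0,2,0,1,0,1,0,1,0,1]) (Tr.leaf []))) (Tr.node (Tr.node (Tr.leaf [0,2,2,0,2,0,2,0,1,0,1,1,0,1,1,0,2,2,0,2,2,0,2,2,0,2,0,2,0,2]) (Tr.leaf [0,3,2,3,2,0,2,2,0,2,0,2,2,2,0,1,0,2,2,2,2,0,1,0,1,0,2,2,0,1,3,1,3,0,2,0,2,2,0,2,2,0,1,1,0,2,3,2])) (Tr.node (Tr.leaf [1,1,1,1,1,0,1,0,1,1,0,1,0,2,0,2,2,0,2,0,2,2,2,2,2,2,0,1,0,2,0,1]) (Tr.leaf [])))))))))) (Tr.node (Tr.node (Tr.node (Tr.node (Tr.node (Tr.node (Tr.node (Tr.node (Tr.node (Tr.leaf [1,0,1,0,1,0,1,0,1,0,1,0,1,0,1,0]) (Tr.leaf [0,2,0,2,2,0,2,0,2,2,2,2,2,2,0,1,0,2,0,1,1,1,1,1,1,0,1,0,1,1,0,1])) (Tr.node (Tr.leaf [2,0,1,0,2,0,2,0,2,0,1,1,0,1,0,2,0,1,0,2,0,2,2,0,1,0,1,0,1,0]) (Tr.leaf [0,1,0,1,3,1,0,1,1,0,1,0,1,0,2,2,3,0,1,1,0,2,2,0,1,0,1,0,1,0,1,1,0,1,1,1,1,0,2,0,2,2,2,0,3,1]))) (Tr.node (Tr.node (Tr.leaf [2,0,1,1,1,1,0,1,0,2,2,2,2,2,0,1,1,1,1,1,0,2,0,2,2,2]) (Tr.leaf [2,2,0,1,1,0,1,1,1,0,2,2,2,0,2,2,0,1,1,0,2,2,0,2,2,0,1,1,0,1,1,0])) (Tr.node (Tr.leaf [0,1,1,0,1,1,1,1,1,1,1,1,1,0,2,2,0,2,2,0,2,0,2,0,2,0,2,0,1,0,1,1]) (Tr.leaf [])))) (Tr.node (Tr.node (Tr.node (Tr.leaf [0,1,1,1,1,0,1,1,1,1,0,1,1,1,1,0,1,1,1,1,0,1,1,1,1]) (Tr.leaf [1,0,2,0,2,2,0,1,1,1,1,1,0,2,0,2,2,2,0,2,0,1,1,1,1,0,1,0,2,2,2,0])) (Tr.node (Tr.leaf [2,0,2,0,1,0,1,0,2,2,0,1,0,1,0,2,0,2,0,1,0,1,0,2,0,2,0,1,1,0]) (Tr.leaf []))) (Tr.node (Tr.node (Tr.leaf [0,1,0,2,0,1,0,2,2,0,1,1,0,2,0,1,0,2,0,1,0,2,2,0,1,1,0,2]) (Tr.leaf [1,3,1,3,1,1,1,1,3,2,3,2,0,1,1,0,2,2,0,1,1,1,0,2,0,1,0,2,0,2,2,0])) (Tr.node (Tr.leaf [1,0,1,1,0,1,0,2,0,2,0,2,2,0,2,0,2,0,1,0,1,1,0,1,1,1,1,0,1,1,0,1]) (Tr.leaf []))))) (Tr.node (Tr.node (Tr.node (Tr.node (Tr.leaf [1,0,2,0,2,0,1,0,1,0,2,0,1,0,2,0,2,0,1,0,1,0,2,0]) (Tr.leaf [1,0,1,1,0,1,0,2,0,1,0,1,1,0,2,2,2,0,2,2,2,2,0,1,1,1,1,0,2,2,0,1])) (Tr.node (Tr.leaf [0,1,0,1,1,0,2,2,2,0,2,0,2,0,1,0,1,0,1,1,1,0,2,2,0,2,0,1,0,2]) (Tr.leaf [1,0,2,2,2,0,1,0,1,0,1,0,1,1,1,0,1,1,1,3,1,0,2,2,2,0,1,1,0,2,0,2,3,1,1,0,1,1,1,1,0,2,3,0,2,0,1]))) (Tr.node (Tr.node (Tr.leaf [2,2,2,2,2,0,2,2,0,2,2,0,2,2,0,2,0,2,0,1,0,1,1,0,2,2,2,2]) (Tr.leaf [2,3,2,2,0,2,0,1,0,2,0,1,1,0,2,0,1,0,2,0,3,2,2,2,2])) (Tr.node (Tr.leaf [2,0,2,0,2,0,1,1,0,1,0,2,0,1,0,2,0,2,2,2,0,2,0,2,0,2,0,2,2,0,1,0]) (Tr.leaf [])))) (Tr.node (Tr.node (Tr.node (Tr.leaf [1,1,0,1,1,0,1,0,2,0,1,0,1,1,0,2,2,2,2,2,2,2,0,1,1,0]) (Tr.leaf [2,2,2,0,2,2,2,0,1,1,0,1,1,0,1,1,0,1,0,2,0,1,0,2,2,0,1,1,1,1,0,2])) (Tr.node (Tr.leaf [0,2,2,2,2,0,1,1,1,1,0,2,2,2,2,2,0,2,0,2,0,2,0,2,0,2,0,2,0,1,1,1]) (Tr.leaf []))) (Tr.node (Tr.node (Tr.leaf [0,2,2,0,1,0,2,0,1,0,2,0,1,0,2,0,1,0,2,2,0,2,0,2,0,2,0,2,0,2]) (Tr.leaf [0,1,3,1,0,2,3,1,0,2,2,2,0,2,0,2,3,1,1,0,2,0,2,2,0,1,0,2,0,1,0,2,2,2,2,0,2])) (Tr.node (Tr.leaf [2,0,2,0,1,0,2,2,2,0,2,0,1,1,0,1,0,1,0,1,1,1,1,1,1,1,1,0,1,0,2,2]) (Tr.leaf [])))))) (Tr.node (Tr.node (Tr.node (Tr.node (Tr.node (Tr.leaf [2,2,2,0,1,1,1,1,0,2,2,2,2,0,1,1,1,1,0,2]) (Tr.leaf [0,2,0,1,0,2,2,0,2,0,1,1,0,1,0,2,0,1,0,2,0,2,2,0,1,0,1,1,0,2,0,1])) (Tr.node (Tr.leaf [2,2,2,2,2,0,2,2,0,2,0,1,0,1,0,1,1,0,1,1,0,1,1,0,2,2,2,2,2,2]) (Tr.leaf [0,2,2,0,2,3,2,0,2,0,2,3,0,1,1,1,0,1,0,2,2,2,2,0,2,2,0,2,0,2,0,2,0,1,1,0,2,2,0,3,1,1,0,2,0,2]))) (Tr.node (Tr.node (Tr.leaf [0,1,0,2,0,2,0,2,0,1,0,1,1,0,1,1,0,2,2,0,2,2,0,2,0,1,0,1]) (Tr.leaf [0,1,0,2,0,1,0,2,2,0,1,0,2,0,1,0,1,1,3,1,1,1,1,1,3])) (Tr.node (Tr.leaf [2,2,0,1,0,2,0,2,0,1,1,0,2,0,1,0,2,0,1,0,2,2,2,0,2,0,2,0,2,0,2,0]) (Tr.leaf [])))) (Tr.node (Tr.node (Tr.node (Tr.leaf [0,1,0,2,0,1,0,2,2,0,1,0,1,0,2,0,1,0,2,0,2,0,1,1,0,2]) (Tr.leaf [0,1,0,2,2,2,0,2,2,0,2,2,0,1,1,1,1,1,1,1,0,2,2,2,0,1,0,2,0,1,0,2])) (Tr.node (Tr.leaf [1,0,2,0,1,1,1,1,0,1,0,2,2,2,0,1,0,2,0,1,1,1,0,2,0,2,2,2,2,0]) (Tr.leaf []))) (Tr.node (Tr.node (Tr.leaf [0,1,0,1,0,1,0,1,0,1,1,0,2,0,1,0,2,0,1,0,2,0,1,0,2,0,1,1,0,1]) (Tr.leaf [0,2,0,1,1,0,1,1,1,1,1,1,0,1,0,1,1,0,1,1,0,3,1,3,0,2,0,1,1,0,3,2,3,0,1,1,1])) (Tr.node (Tr.leaf [1,1,1,0,1,1,0,2,2,2,0,2,0,2,0,1,0,2,2,2,0,1,1,1,1,0,2,2,0,1,1,0]) (Tr.leaf []))))) (Tr.node (Tr.node (Tr.node (Tr.node (Tr.leaf [2,0,2,2,0,2,2,0,2,2,0,2,2,0,2,2,0,2,2,0,2,2,0,2]) (Tr.leaf [2,0,2,0,1,0,1,1,0,2,2,2,2,2,2,2,2,0,2,0,1,0,1,1,0,2,2,2,2,2,2,2])) (Tr.node (Tr.leaf [1,1,1,1,0,2,0,2,0,1,0,1,0,1,1,1,0,2,2,0,2,2,2,0,2,2,0,2,2,0]) (Tr.leaf []))) (Tr.node (Tr.node (Tr.leaf [0,2,0,1,0,1,0,2,2,0,1,1,0,2,0,2,0,1,0,1,0,2,2,0,1,1,0,2]) (Tr.leaf [1,0,1,0,2,2,0,1,0,1,0,1,3,1,1,0,2,2,0,2,0,2,0,1,0,1,1,0,1,0,2,2,0,1,3,2,0])) (Tr.node (Tr.leaf [0,1,0,1,0,1,1,0,1,0,1,0,2,0,2,2,0,2,2,0,2,2,0,2,2,2,2,0,2,2,0,2]) (Tr.leaf [])))) (Tr.node (Tr.node (Tr.node (Tr.leaf [1,0,1,1,1,1,0,2,2,2,2,0,2,0,1,1,1,1,1,0,2,2,2,2,2,0]) (Tr.leaf [2,0,1,1,1,0,1,0,2,0,1,1,1,0,1,0,2,0,1,1,1,0,1,0,2,0,1,1,1,0,1,0])) (Tr.node (Tr.leaf [1,0,1,0,1,0,1,0,1,0,1,0,1,0,2,2,2,0,1,1,1,1,0,2,2,2,2,0,1,1,1,1]) (Tr.leaf []))) (Tr.node (Tr.node (Tr.leaf [0,1,0,1,0,1,0,1,1,0,1,1,0,1,1,0,2,2,0,2,2,0,2,0,1,0,1,0,1,1]) (Tr.leaf [2,0,1,1,0,1,1,0,1,0,3,2,3,2,0,1,1,0,2,0,2,0,1,1,1,1,0,2,0,1,1,1,0,1,0,1,1,0,1,3,1,3,0,1,3,1,0,2])) (Tr.node (Tr.leaf [0,1,0,2,2,0,1,0,1,0,2,2,0,1,0,1,0,2,0,2,0,1,1,0,2,0,2,0,1,1,0,2]) (Tr.leaf []))))))) (Tr.node (Tr.node (Tr.node (Tr.node (Tr.node (Tr.node (Tr.leaf [2,0,1,0,2,0,1,0,2,0,1,0,2,0,1,0,2,0,1,0]) (Tr.leaf [2,0,1,0,1,1,0,1,1,1,1,1,1,1,1,1,1,1,1,1,0,1,1,0,1,1,0,1,1,0,1,0])) (Tr.node (Tr.leaf [2,0,1,0,1,0,1,0,2,0,1,0,2,0,2,0,2,0,1,1,0,1,0,2,0,1,0,2,0,2]) (Tr.leaf [2,0,1,0,1,0,1,0,1,1,0,1,1,1,1,0,2,0,2,2,2,0,3,1,0,1,0,1,3,1,0,1,1,0,1,0,1,0,2,2,3,0,1,1,0,2]))) (Tr.node (Tr.node (Tr.leaf [1,0,1,1,0,1,1,0,2,2,0,2,2,0,2,0,1,0,1,0,1,0,2,0,2,0,2,0]) (Tr.leaf [2,0,1,1,0,2,2,0,2,2,0,1,1,0,1,1,0,2,2,0,1,1,0,1,1,1,0,2,2,2,0,2])) (Tr.node (Tr.leaf [0,1,0,1,0,1,0,1,0,1,1,1,0,2,0,1,0,2,0,1,0,2,2,0,1,0,1,0,2,0,1,1]) (Tr.leaf [])))) (Tr.node (Tr.node (Tr.node (Tr.leaf [0,2,2,2,2,0,2,2,2,2,0,2,2,2,2,0,2,2,2,2,0,2,2,2,2]) (Tr.leaf [2,2,0,1,1,0,2,2,0,2,2,2,2,2,0,2,0,1,0,2,0,1,0,1,1,1,1,1,0,1,1,0])) (Tr.node (Tr.leaf [2,2,0,1,1,0,1,0,2,0,1,0,2,0,2,2,0,1,1,1,0,2,0,1,0,2,0,1,0,2]) (Tr.leaf []))) (Tr.node (Tr.node (Tr.leaf [0,1,0,1,0,1,0,1,0,1,0,1,1,0,1,0,1,0,1,0,1,0,1,0,1,0,1,1,0,1]) (Tr.leaf [2,0,1,0,3,2,3,0,2,2,0,2,2,0,2,0,2,2,2,2,2,2,0,2,2,0,1,0,2,2,2,0,3,1,3,0,2])) (Tr.node (Tr.leaf [1,0,2,2,2,2,0,1,1,1,0,2,0,1,0,1,0,1,1,1,0,2,2,0,2,2,2,0,2,2,0,1]) (Tr.leaf []))))) (Tr.node (Tr.node (Tr.node (Tr.node (Tr.leaf [0,1,0,2,0,2,0,1,0,1,0,2,0,1,0,2,0,2,0,1,0,1,0,2]) (Tr.leaf [1,0,2,2,0,2,0,1,0,2,0,2,2,0,2,2,0,1,1,0,2,2,2,2,0,1,1,1,1,0,1,1])) (Tr.node (Tr.leaf [2,2,2,0,2,0,2,0,1,0,1,0,1,1,1,0,2,2,0,2,0,1,0,2,0,1,0,1,1,0]) (Tr.leaf [1,1,1,0,2,3,0,2,0,1,1,0,2,2,2,0,1,0,1,0,1,0,1,1,1,0,1,1,1,3,1,0,2,2,2,0,1,1,0,2,0,2,3,1,1,0,1]))) (Tr.node (Tr.node (Tr.leaf [0,1,1,0,2,0,2,0,1,0,1,0,2,2,0,1,1,0,2,0,2,0,1,0,1,0,2,2]) (Tr.leaf [0,1,1,0,2,0,2,2,0,2,0,1,0,1,0,1,1,0,2,2,3,2,0,2,0,2,0,1,1,0,2,0,2,0,1,3,2])) (Tr.node (Tr.leaf [0,2,0,1,0,2,0,2,0,2,0,1,1,1,0,2,0,1,0,2,0,1,0,2,2,2,0,1,0,1,0,1]) (Tr.leaf [])))) (Tr.node (Tr.node (Tr.node (Tr.leaf [2,2,0,1,1,1,1,1,1,1,0,2,2,0,2,0,1,0,2,0,2,2,0,2,2,0]) (Tr.leaf [1,1,1,0,2,2,2,2,0,1,1,0,2,0,1,0,2,0,2,2,0,2,2,0,2,2,0,1,1,1,0,1])) (Tr.node (Tr.leaf [2,0,1,1,1,0,2,2,2,2,0,1,1,1,1,0,2,2,2,2,2,0,2,0,2,0,2,0,2,0,2,0]) (Tr.leaf []))) (Tr.node (Tr.node (Tr.leaf [2,2,0,1,0,2,0,2,0,1,0,1,0,2,0,1,0,2,0,2,2,0,2,0,2,0,2,0,2,0]) (Tr.leaf [1,1,0,2,3,1,0,2,3,2,0,1,0,1,1,1,1,0,2,0,1,0,2,0,1,1,0,1,0,2,2,3,1,0,1,0,1])) (Tr.node (Tr.leaf [0,2,0,2,2,2,2,2,2,2,2,0,2,0,2,0,2,2,0,1,0,1,1,1,0,2,0,1,0,1,1,1]) (Tr.leaf [])))))) (Tr.node (Tr.node (Tr.node (Tr.node (Tr.node (Tr.leaf [1,1,1,1,1,1,1,1,1,1,1,1,1,1,1,1,1,1,1,1]) (Tr.leaf [2,0,1,1,0,2,2,0,2,0,1,0,1,1,0,2,2,0,1,1,0,2,2,0,2,0,1,0,1,1,0,2])) (Tr.node (Tr.leaf [0,2,2,0,2,2,0,2,2,0,2,0,2,0,1,0,1,1,0,1,1,1,1,1,1,1,1,1,1,1]) (Tr.leaf [3,1,0,1,0,2,2,0,1,1,1,0,2,3,2,2,2,0,2,2,2,0,2,0,2,0,2,0,1,1,1,0,2,2,0,1,0,3,1,0,2,2,2,2,0,2,2]))) (Tr.node (Tr.node (Tr.leaf [1,1,1,1,1,1,1,0,2,2,0,2,0,1,0,1,0,1,1,0,1,1,0,1,1,0,1,1]) (Tr.leaf [0,2,0,1,0,2,0,1,1,0,2,0,1,0,2,0,3,2,2,2,2,2,3,2,2])) (Tr.node (Tr.leaf [0,1,0,1,1,1,0,1,0,2,0,1,0,2,0,2,2,0,1,0,1,0,1,0,2,0,1,1,0,1,0,1]) (Tr.leaf [])))) (Tr.node (Tr.node (Tr.node (Tr.leaf [0,1,0,1,1,0,2,2,2,2,2,2,2,0,1,1,0,1,1,0,1,1,0,1,0,2]) (Tr.leaf [1,1,0,1,1,0,1,1,1,0,2,0,1,0,2,0,1,0,2,0,1,1,1,0,2,2,2,2,2,2,2,0])) (Tr.node (Tr.leaf [1,0,1,0,1,0,1,0,1,1,1,1,1,0,2,2,2,2,0,1,1,1,1,0,2,2,2,0,1,0,1,0]) (Tr.leaf []))) (Tr.node (Tr.node (Tr.leaf [2,2,0,1,0,2,0,1,0,2,0,1,0,2,0,1,0,2,2,0,2,0,2,0,2,0,2,0,2,0]) (Tr.leaf [0,2,3,1,0,2,2,2,0,2,0,2,3,1,1,0,2,0,2,2,0,1,0,2,0,1,0,2,2,2,2,0,2,0,1,3,1])) (Tr.node (Tr.leaf [2,0,1,1,1,0,2,2,2,0,2,0,2,0,1,0,1,0,1,1,1,0,2,2,2,0,1,0,2,0,1,0]) (Tr.leaf []))))) (Tr.node (Tr.node (Tr.node (Tr.node (Tr.leaf [1,1,1,1,1,0,2,2,2,2,2,0,1,1,1,1,1,0,2,2,2,2,2,0]) (Tr.leaf [2,2,0,1,1,0,1,0,2,0,1,1,1,0,2,0,2,2,2,2,0,1,0,1,1,1,0,1,0,2,2,2])) (Tr.node (Tr.leaf [0,1,1,0,2,2,2,0,2,0,2,0,1,0,1,0,2,2,2,2,0,1,1,0,1,1,0,1,1,1]) (Tr.leaf []))) (Tr.node (Tr.node (Tr.leaf [1,0,2,0,2,2,0,1,1,0,1,0,2,0,1,0,2,0,2,2,0,1,1,0,1,0,2,0]) (Tr.leaf [3,2,3,2,0,1,1,0,1,0,2,0,1,0,2,2,2,0,1,1,0,2,2,0,1,3,1,3,2,2,2,2])) (Tr.node (Tr.leaf [2,2,2,0,2,2,0,2,0,1,0,1,0,1,1,0,1,0,1,0,2,0,2,2,0,2,2,0,2,2,0,2]) (Tr.leaf [])))) (Tr.node (Tr.node (Tr.node (Tr.leaf [2,2,0,1,0,1,1,1,1,0,2,2,2,2,0,2,0,1,1,1,1,1,0,2,2,2]) (Tr.leaf [0,2,2,2,2,2,0,1,0,2,0,1,1,1,1,1,0,2,2,2,2,2,0,1,0,2,0,1,1,1,1,1])) (Tr.node (Tr.leaf [0,2,0,2,0,2,0,2,0,2,2,2,2,2,0,1,1,1,1,0,2,2,2,2,0,1,1,1,0,2,0,2]) (Tr.leaf []))) (Tr.node (Tr.node (Tr.leaf [1,1,0,1,1,0,2,2,0,2,2,0,2,2,0,2,0,2,0,2,0,2,2,0,2,0,2,0,1,0]) (Tr.leaf [1,3,0,2,0,2,2,0,2,2,0,1,1,0,2,3,2,0,3,2,3,2,0,2,2,0,2,0,2,2,2,0,1,0,2,2,2,2,0,1,0,1,0,2,2,0,1,3])) (Tr.node (Tr.leaf [2,0,2,0,2,2,2,2,2,2,0,1,0,2,0,1,1,1,1,1,1,0,1,0,1,1,0,1,0,2,0,2]) (Tr.leaf [])))))))) (Tr.node (Tr.node (Tr.node (Tr.node (Tr.node (Tr.node (Tr.node (Tr.leaf [2,0,2,0,2,0,2,0,2,0,2,0,2,0,2,0]) (Tr.leaf [1,1,1,1,1,1,1,1,1,0,1,1,0,1,1,0,1,1,0,1,0,2,0,1,0,1,1,0,1,1,1,1])) (Tr.node (Tr.leaf [0,1,1,0,1,0,2,0,1,0,2,0,2,2,0,1,0,1,0,1,0,2,0,1,0,2,0,2,0,2]) (Tr.leaf [1,0,1,0,1,0,2,2,3,0,1,1,0,2,2,0,1,0,1,0,1,0,1,1,0,1,1,1,1,0,2,0,2,2,2,0,3,1,0,1,0,1,3,1,0,1]))) (Tr.node (Tr.node (Tr.leaf [0,1,0,2,0,2,0,2,0,1,0,1,1,0,1,1,0,2,2,0,2,2,0,2,0,1,0,1]) (Tr.leaf [1,1,0,2,2,0,2,2,0,1,1,0,1,1,0,2,2,0,1,1,0,1,1,1,0,2,2,2,0,2,2,0])) (Tr.node (Tr.leaf [1,1,0,2,2,0,2,2,0,2,0,2,0,2,0,2,0,1,0,1,1,0,1,1,0,1,1,1,1,1,1,1]) (Tr.leaf [])))) (Tr.node (Tr.node (Tr.node (Tr.leaf [2,2,0,2,2,2,2,0,2,2,2,2,0,2,2,2,2,0,2,2,2,2,0,2,2]) (Tr.leaf [0,2,0,1,1,1,1,0,1,0,2,2,2,0,1,0,2,0,2,2,0,1,1,1,1,1,0,2,0,2,2,2])) (Tr.node (Tr.leaf [0,2,0,1,0,2,0,2,2,0,1,1,1,0,2,0,1,0,2,0,1,0,2,2,2,0,1,1,0,1]) (Tr.leaf []))) (Tr.node (Tr.node (Tr.leaf [1,1,0,2,0,1,0,2,0,1,0,2,2,0,1,1,0,2,0,1,0,2,0,1,0,2,2,0]) (Tr.leaf [3,2,3,2,0,1,1,0,2,2,0,1,1,1,0,2,0,1,0,2,0,2,2,0,1,3,1,3,1,1,1,1])) (Tr.node (Tr.leaf [1,1,0,2,2,0,2,2,2,0,2,2,0,1,1,0,2,2,2,2,0,1,1,1,0,2,0,1,0,1,0,1]) (Tr.leaf []))))) (Tr.node (Tr.node (Tr.node (Tr.node (Tr.leaf [0,2,0,1,0,2,0,2,0,1,0,1,0,2,0,1,0,2,0,2,0,1,0,1]) (Tr.leaf [2,0,1,1,0,2,2,2,2,0,1,1,1,1,0,1,1,1,0,2,2,0,2,0,1,0,2,0,2,2,0,2])) (Tr.node (Tr.leaf [2,0,1,0,1,0,1,1,1,0,2,2,0,2,0,1,0,2,0,1,0,1,1,0,2,2,2,0,2,0]) (Tr.leaf [0,1,1,0,2,0,2,3,1,1,0,1,1,1,1,0,2,3,0,2,0,1,1,0,2,2,2,0,1,0,1,0,1,0,1,1,1,0,1,1,1,3,1,0,2,2,2]))) (Tr.node (Tr.node (Tr.leaf [2,0,2,2,0,2,0,2,0,1,0,1,1,0,2,2,2,2,2,2,2,2,2,0,2,2,0,2]) (Tr.leaf [0,1,1,0,2,0,2,0,1,3,2,0,1,1,0,2,0,2,2,0,2,0,1,0,1,0,1,1,0,2,2,3,2,0,2,0,2])) (Tr.node (Tr.leaf [0,2,0,2,2,0,1,0,2,0,2,0,2,0,1,1,0,1,0,2,0,1,0,2,0,2,2,2,0,2,0,2]) (Tr.leaf [])))) (Tr.node (Tr.node (Tr.node (Tr.leaf [1,0,2,0,2,2,0,2,2,0,2,2,0,1,1,1,1,1,1,1,0,2,2,0,2,0]) (Tr.leaf [0,1,1,0,1,0,2,0,1,0,2,2,0,1,1,1,1,0,2,2,2,2,0,2,2,2,0,1,1,0,1,1])) (Tr.node (Tr.leaf [2,2,2,0,2,0,2,0,2,0,2,0,2,0,2,0,1,1,1,0,2,2,2,2,0,1,1,1,1,0,2,2]) (Tr.leaf []))) (Tr.node (Tr.node (Tr.leaf [2,0,1,0,2,0,2,0,1,0,1,0,2,0,1,1,0,1,0,1,0,1,0,1,0,1,1,0,1,0]) (Tr.leaf [2,0,1,0,2,0,1,1,0,1,0,2,2,3,1,0,1,0,1,1,1,0,2,3,1,0,2,3,2,0,1,0,1,1,1,1,0])) (Tr.node (Tr.leaf [0,1,1,1,0,2,0,1,0,1,1,1,0,2,0,2,2,2,2,2,2,2,2,0,2,0,2,0,2,2,0,1]) (Tr.leaf [])))))) (Tr.node (Tr.node (Tr.node (Tr.node (Tr.node (Tr.leaf [2,0,1,1,1,1,0,2,2,2,2,0,1,1,1,1,0,2,2,2]) (Tr.leaf [1,0,2,0,2,2,0,1,0,1,1,0,2,0,1,0,2,0,1,0,2,2,0,2,0,1,1,0,1,0,2,0])) (Tr.node (Tr.leaf [0,1,1,1,1,1,1,1,1,1,1,1,0,2,2,0,2,2,0,2,2,0,2,0,2,0,1,0,1,1]) (Tr.leaf [3,1,0,2,2,2,2,0,2,2,3,1,0,1,0,2,2,0,1,1,1,0,2,3,2,2,2,0,2,2,2,0,2,0,2,0,2,0,1,1,1,0,2,2,0,1,0]))) (Tr.node (Tr.node (Tr.leaf [0,1,1,0,1,1,0,1,1,1,1,1,1,1,1,1,0,2,2,0,2,0,1,0,1,0,1,1]) (Tr.leaf [2,0,1,0,2,0,1,0,1,1,3,1,1,1,1,1,3,0,1,0,2,0,1,0,2])) (Tr.node (Tr.leaf [1,0,2,2,2,0,2,0,2,0,2,0,2,0,2,2,0,1,0,2,0,2,0,1,1,0,2,0,1,0,2,0]) (Tr.leaf [])))) (Tr.node (Tr.node (Tr.node (Tr.leaf [2,0,1,0,1,0,2,0,1,0,2,0,2,0,1,1,0,2,0,1,0,2,0,1,0,2]) (Tr.leaf [2,2,0,1,0,2,0,1,0,2,0,1,0,2,2,2,0,2,2,0,2,2,0,1,1,1,1,1,1,1,0,2])) (Tr.node (Tr.leaf [0,2,0,2,2,2,2,0,1,0,2,0,1,1,1,1,0,1,0,2,2,2,0,1,0,2,0,1,1,1]) (Tr.leaf []))) (Tr.node (Tr.node (Tr.leaf [1,0,2,0,1,0,2,0,1,0,2,0,1,1,0,1,0,1,0,1,0,1,0,1,0,1,1,0,2,0]) (Tr.leaf [1,1,0,3,2,3,0,1,1,1,0,2,0,1,1,0,1,1,1,1,1,1,0,1,0,1,1,0,1,1,0,3,1,3,0,2,0])) (Tr.node (Tr.leaf [0,1,1,1,0,2,2,2,0,1,0,2,0,1,0,2,0,1,1,1,0,2,2,2,0,2,0,2,0,1,0,1]) (Tr.leaf []))))) (Tr.node (Tr.node (Tr.node (Tr.node (Tr.leaf [1,1,0,2,2,2,2,2,0,1,1,1,1,1,0,2,2,2,2,2,0,1,1,1]) (Tr.leaf [1,1,1,0,1,0,2,2,2,2,2,0,1,1,0,1,0,2,0,1,1,1,0,2,0,2,2,2,2,0,1,0])) (Tr.node (Tr.leaf [0,2,2,2,2,0,1,1,0,1,1,0,1,1,1,0,1,1,0,2,2,2,0,2,0,2,0,1,0,1]) (Tr.leaf []))) (Tr.node (Tr.node (Tr.leaf [2,2,2,0,2,0,1,0,1,1,1,1,0,2,2,2,2,0,2,0,1,0,1,1,1,1,0,2]) (Tr.leaf [0,1,3,1,1,0,2,2,0,2,0,2,0,1,0,1,1,0,1,0,2,2,0,1,3,2,0,1,0,1,0,2,2,0,1,0,1])) (Tr.node (Tr.leaf [2,0,2,2,0,2,2,0,2,2,0,2,2,2,2,0,2,2,0,2,0,1,0,1,0,1,1,0,1,0,1,0]) (Tr.leaf [])))) (Tr.node (Tr.node (Tr.node (Tr.leaf [2,2,0,2,0,1,1,1,1,1,0,2,2,2,2,2,0,1,0,1,1,1,1,0,2,2]) (Tr.leaf [2,2,2,0,1,0,2,0,2,2,2,0,1,0,2,0,2,2,2,0,1,0,2,0,2,2,2,0,1,0,2,0])) (Tr.node (Tr.leaf [0,2,2,2,2,0,1,1,1,0,2,0,2,0,2,0,2,0,2,0,2,0,2,2,2,2,2,0,1,1,1,1]) (Tr.leaf []))) (Tr.node (Tr.node (Tr.leaf [0,2,2,0,2,0,1,0,1,0,1,1,0,1,0,1,0,1,0,1,1,0,1,1,0,1,1,0,2,2]) (Tr.leaf [1,1,0,2,0,2,0,1,1,1,1,0,2,0,1,1,1,0,1,0,1,1,0,1,3,1,3,0,1,3,1,0,2,2,0,1,1,0,1,1,0,1,0,3,2,3,2,0])) (Tr.node (Tr.leaf [0,1,0,1,1,0,1,0,2,0,2,2,0,2,0,2,2,2,2,2,2,0,1,0,2,0,1,1,1,1,1,1]) (Tr.leaf []))))))) (Tr.node (Tr.node (Tr.node (Tr.node (Tr.node (Tr.node (Tr.leaf [0,2,0,1,0,2,0,1,0,2,0,1,0,2,0,1,0,2,0,1]) (Tr.leaf [2,0,2,0,1,0,2,0,2,2,0,2,2,0,2,2,0,2,2,2,2,2,2,2,2,2,2,2,2,2,0,2])) (Tr.node (Tr.leaf [0,1,1,0,1,1,0,1,1,0,2,2,2,2,2,2,2,2,2,2,2,0,2,2,0,2,0,1,0,1]) (Tr.leaf [2,0,2,0,2,0,2,0,1,1,0,2,2,0,3,1,1,0,2,0,2,0,2,2,0,2,3,2,0,2,0,2,3,0,1,1,1,0,1,0,2,2,2,2,0,2]))) (Tr.node (Tr.node (Tr.leaf [2,0,2,2,0,2,0,1,0,1,0,1,0,2,0,2,0,2,0,1,0,1,1,0,1,1,0,2]) (Tr.leaf [2,0,2,2,2,0,2,2,2,0,2,2,2,0,2,2,2,0,2,2,2,0,2,2,2,0,2,2,2,0,2,2])) (Tr.node (Tr.leaf [1,0,2,0,1,0,2,0,1,0,2,2,0,1,0,1,0,2,0,1,1,0,1,0,1,0,1,0,1,0,1,1]) (Tr.leaf [])))) (Tr.node (Tr.node (Tr.node (Tr.leaf [0,2,0,2,0,1,1,0,2,0,1,0,2,0,1,0,2,2,0,1,0,1,0,2,0,1]) (Tr.leaf [2,2,2,2,2,0,2,0,1,0,2,0,1,0,1,1,1,1,1,0,1,1,0,2,2,0,1,1,0,2,2,0])) (Tr.node (Tr.leaf [0,2,0,1,1,1,0,2,0,2,2,2,2,0,1,0,2,0,1,1,1,1,0,1,0,2,2,2,0,1]) (Tr.leaf []))) (Tr.node (Tr.node (Tr.leaf [2,0,2,0,2,0,2,0,2,0,2,0,2,2,0,2,0,2,0,2,0,2,0,2,0,2,0,2,2,0]) (Tr.leaf [0,2,2,0,2,0,2,2,2,2,2,2,0,2,2,0,1,0,2,2,2,0,3,1,3,0,2,2,0,1,0,3,2,3,0,2,2])) (Tr.node (Tr.leaf [1,0,2,0,1,0,1,0,1,1,1,0,2,2,0,2,2,2,0,2,2,0,1,1,0,2,2,2,2,0,1,1]) (Tr.leaf []))))) (Tr.node (Tr.node (Tr.node (Tr.node (Tr.leaf [1,1,0,1,1,0,1,1,0,1,1,0,1,1,0,1,1,0,1,1,0,1,1,0]) (Tr.leaf [2,2,0,2,0,1,0,1,1,0,2,2,2,2,2,2,2,2,0,2,0,1,0,1,1,0,2,2,2,2,2,2])) (Tr.node (Tr.leaf [0,2,2,2,0,2,2,0,2,2,0,1,1,1,1,0,2,0,2,0,1,0,1,0,1,1,1,0,2,2]) (Tr.leaf []))) (Tr.node (Tr.node (Tr.leaf [2,0,2,0,1,0,1,0,2,2,0,1,1,0,2,0,2,0,1,0,1,0,2,2,0,1,1,0]) (Tr.leaf [1,0,1,1,0,2,2,3,2,0,2,0,2,0,1,1,0,2,0,2,0,1,3,2,0,1,1,0,2,0,2,2,0,2,0,1,0])) (Tr.node (Tr.leaf [0,2,0,1,0,2,0,1,0,2,2,2,0,1,0,1,0,1,0,2,0,1,0,2,0,2,0,2,0,1,1,1]) (Tr.leaf [])))) (Tr.node (Tr.node (Tr.node (Tr.leaf [1,1,0,2,2,0,2,0,1,0,2,0,2,2,0,2,2,0,2,2,0,1,1,1,1,1]) (Tr.leaf [1,0,2,0,1,0,2,0,2,2,0,2,2,0,2,2,0,1,1,1,0,1,1,1,1,0,2,2,2,2,0,1])) (Tr.node (Tr.leaf [1,1,1,1,0,2,2,2,2,0,1,1,1,1,1,0,1,0,1,0,1,0,1,0,1,0,1,0,2,2,2,0]) (Tr.leaf []))) (Tr.node (Tr.node (Tr.leaf [0,1,0,2,0,2,2,0,2,0,2,0,2,0,2,0,2,2,0,1,0,2,0,2,0,1,0,1,0,2]) (Tr.leaf [1,3,0,1,3,1,0,2,2,0,1,1,0,1,1,0,1,0,3,2,3,2,0,1,1,0,2,0,2,0,1,1,1,1,0,2,0,1,1,1,0,1,0,1,1,0,1,3])) (Tr.node (Tr.leaf [2,0,1,0,1,0,2,0,2,0,1,0,1,0,2,0,2,0,1,0,1,0,2,0,2,0,1,0,1,0,2,0]) (Tr.leaf [])))))) (Tr.node (Tr.node (Tr.node (Tr.node (Tr.node (Tr.leaf [2,2,2,2,2,2,2,2,2,2,2,2,2,2,2,2,2,2,2,2]) (Tr.leaf [2,2,0,2,2,2,2,0,1,1,1,1,0,2,2,0,1,1,0,1,1,0,1,0,2,0,1,0,1,1,0,2])) (Tr.node (Tr.leaf [0,1,1,1,0,2,2,0,2,0,1,0,2,0,1,0,1,1,0,2,2,2,0,2,0,2,0,1,0,1]) (Tr.leaf [2,2,0,2,2,2,0,2,0,2,0,2,0,1,1,1,0,2,2,0,1,0,3,1,0,2,2,2,2,0,2,2,3,1,0,1,0,2,2,0,1,1,1,0,2,3,2]))) (Tr.node (Tr.node (Tr.leaf [2,0,2,0,1,0,1,0,1,1,0,1,1,0,1,1,0,1,1,1,1,1,1,1,1,1,0,2]) (Tr.leaf [0,2,0,3,2,2,2,2,2,3,2,2,0,2,0,1,0,2,0,1,1,0,2,0,1])) (Tr.node (Tr.leaf [0,1,0,1,0,2,0,1,1,0,1,0,1,0,1,0,1,1,1,0,1,0,2,0,1,0,2,0,2,2,0,1]) (Tr.leaf [])))) (Tr.node (Tr.node (Tr.node (Tr.leaf [2,2,2,2,0,1,1,0,1,1,0,1,1,0,1,0,2,0,1,0,1,1,0,2,2,2]) (Tr.leaf [2,0,1,1,1,0,2,2,2,2,2,2,2,0,1,1,0,1,1,0,1,1,1,0,2,0,1,0,2,0,1,0])) (Tr.node (Tr.leaf [2,2,0,1,1,1,1,0,2,2,2,0,1,0,1,0,1,0,1,0,1,0,1,0,1,1,1,1,1,0,2,2]) (Tr.leaf []))) (Tr.node (Tr.node (Tr.leaf [2,0,1,0,2,2,0,2,0,2,0,2,0,2,0,2,0,2,2,0,1,0,2,0,1,0,2,0,1,0]) (Tr.leaf [0,2,0,2,3,1,1,0,2,0,2,2,0,1,0,2,0,1,0,2,2,2,2,0,2,0,1,3,1,0,2,3,1,0,2,2,2])) (Tr.node (Tr.leaf [1,1,1,1,1,1,1,0,1,0,2,2,2,0,2,0,1,0,2,2,2,0,2,0,1,1,0,1,0,1,0,1]) (Tr.leaf []))))) (Tr.node (Tr.node (Tr.node (Tr.node (Tr.leaf [0,1,1,1,1,0,1,1,1,1,0,1,1,1,1,0,1,1,1,1,0,1,1,1,1]) (Tr.leaf [2,2,2,2,0,1,0,1,1,1,0,1,0,2,2,2,2,2,0,1,1,0,1,0,2,0,1,1,1,0,2,0])) (Tr.node (Tr.leaf [0,2,0,2,0,1,0,1,0,2,0,2,0,1,1,0,2,0,2,0,1,0,1,0,2,2,0,1,0,1]) (Tr.leaf []))) (Tr.node (Tr.node (Tr.leaf [2,0,2,2,0,1,1,0,1,0,2,0,1,0,2,0,2,2,0,1,1,0,1,0,2,0,1,0]) (Tr.leaf [1,0,2,2,2,0,1,1,0,2,2,0,1,3,1,3,2,2,2,2,3,2,3,2,0,1,1,0,1,0,2,0])) (Tr.node (Tr.leaf [0,1,1,1,1,0,1,1,0,1,1,0,1,1,0,1,0,2,0,2,0,2,2,0,2,0,2,0,1,0,1,1]) (Tr.leaf [])))) (Tr.node (Tr.node (Tr.node (Tr.leaf [0,1,1,1,1,1,0,2,0,2,2,2,2,0,1,1,1,1,0,1,0,2,2,2,2,2]) (Tr.leaf [0,2,2,2,2,2,0,1,1,1,1,1,0,2,0,1,0,2,2,2,2,2,0,1,1,1,1,1,0,2,0,1])) (Tr.node (Tr.leaf [1,0,1,0,1,0,1,0,1,1,0,1,1,0,2,2,2,2,2,2,2,2,2,0,2,2,0,2,2,0,2,0]) (Tr.leaf []))) (Tr.node (Tr.node (Tr.leaf [0,2,0,2,0,2,2,0,2,0,2,0,1,0,1,1,0,1,1,0,2,2,0,2,2,0,2,2,0,2]) (Tr.leaf [1,1,0,2,3,2,0,3,2,3,2,0,2,2,0,2,0,2,2,2,0,1,0,2,2,2,2,0,1,0,1,0,2,2,0,1,3,1,3,0,2,0,2,2,0,2,2,0])) (Tr.node (Tr.leaf [0,2,0,1,1,1,1,1,1,0,1,0,1,1,0,1,0,2,0,2,2,0,2,0,2,2,2,2,2,2,0,1]) (Tr.leaf []))))))))) (Tr.node (Tr.node (Tr.node (Tr.node (Tr.node (Tr.node (Tr.node (Tr.node (Tr.leaf [0,1,0,1,0,1,0,1,0,1,0,1,0,1,0,1]) (Tr.leaf [1,1,0,1,1,1,1,1,1,1,1,1,1,1,1,1,0,1,1,0,1,1,0,1,1,0,1,0,2,0,1,0])) (Tr.node (Tr.leaf [2,0,2,0,2,0,1,1,0,1,0,2,0,1,0,2,0,2,2,0,1,0,1,0,1,0,2,0,1,0]) (Tr.leaf [3,1,0,1,1,0,1,0,1,0,2,2,3,0,1,1,0,2,2,0,1,0,1,0,1,0,1,1,0,1,1,1,1,0,2,0,2,2,2,0,3,1,0,1,0,1]))) (Tr.node (Tr.node (Tr.leaf [2,0,2,2,2,2,0,1,1,1,1,0,1,0,2,2,2,2,2,0,1,1,1,1,1,0]) (Tr.leaf [1,0,2,2,2,0,2,2,0,1,1,0,2,2,0,2,2,0,1,1,0,1,1,0,2,2,0,1,1,0,1,1])) (Tr.node (Tr.leaf [1,1,1,1,1,1,1,0,2,2,0,2,2,0,2,0,2,0,2,0,2,0,1,0,1,1,0,1,1,0,1,1]) (Tr.leaf [])))) (Tr.node (Tr.node (Tr.node (Tr.leaf [2,2,2,2,0,2,2,2,2,0,2,2,2,2,0,2,2,2,2,0,2,2,2,2,0]) (Tr.leaf [1,1,1,1,1,0,2,0,2,2,2,0,2,0,1,1,1,1,0,1,0,2,2,2,0,1,0,2,0,2,2,0])) (Tr.node (Tr.leaf [2,2,0,1,0,1,0,2,0,2,0,1,0,1,0,2,0,2,0,1,1,0,2,0,2,0,1,0,1,0]) (Tr.leaf []))) (Tr.node (Tr.node (Tr.leaf [0,2,2,0,1,1,0,2,0,1,0,2,0,1,0,2,2,0,1,1,0,2,0,1,0,2,0,1]) (Tr.leaf [1,1,1,1,3,2,3,2,0,1,1,0,2,2,0,1,1,1,0,2,0,1,0,2,0,2,2,0,1,3,1,3])) (Tr.node (Tr.leaf [2,0,2,0,2,2,0,2,0,2,0,1,0,1,1,0,1,1,1,1,0,1,1,0,1,1,0,1,1,0,1,0]) (Tr.leaf []))))) (Tr.node (Tr.node (Tr.node (Tr.node (Tr.leaf [2,0,1,0,1,0,2,0,1,0,2,0,2,0,1,0,1,0,2,0,1,0,2,0]) (Tr.leaf [2,0,1,0,1,1,0,2,2,2,0,2,2,2,2,0,1,1,1,1,0,2,2,0,1,1,0,1,1,0,1,0])) (Tr.node (Tr.leaf [2,2,2,0,2,0,2,0,1,0,1,0,1,1,1,0,2,2,0,2,0,1,0,2,0,1,0,1,1,0]) (Tr.leaf [0,2,2,2,0,1,1,0,2,0,2,3,1,1,0,1,1,1,1,0,2,3,0,2,0,1,1,0,2,2,2,0,1,0,1,0,1,0,1,1,1,0,1,1,1,3,1]))) (Tr.node (Tr.node (Tr.leaf [2,0,2,2,0,2,2,0,2,2,0,2,0,2,0,1,0,1,1,0,2,2,2,2,2,2,2,2]) (Tr.leaf [0,2,0,2,0,1,1,0,2,0,2,0,1,3,2,0,1,1,0,2,0,2,2,0,2,0,1,0,1,0,1,1,0,2,2,3,2])) (Tr.node (Tr.leaf [0,2,0,2,2,2,0,2,0,2,0,2,0,2,2,0,1,0,2,0,2,0,2,0,1,1,0,1,0,2,0,1]) (Tr.leaf [])))) (Tr.node (Tr.node (Tr.node (Tr.leaf [0,1,0,2,0,1,0,1,1,0,2,2,2,2,2,2,2,0,1,1,0,1,1,0,1,1]) (Tr.leaf [1,0,1,1,0,1,1,0,1,0,2,0,1,0,2,2,0,1,1,1,1,0,2,2,2,2,0,2,2,2,0,1])) (Tr.node (Tr.leaf [2,0,1,1,1,1,0,2,2,2,2,2,0,2,0,2,0,2,0,2,0,2,0,2,0,1,1,1,0,2,2,2]) (Tr.leaf []))) (Tr.node (Tr.node (Tr.leaf [0,1,0,1,0,1,1,0,1,0,2,0,1,0,2,0,2,0,1,0,1,0,2,0,1,1,0,1,0,1]) (Tr.leaf [1,0,1,1,1,1,0,2,0,1,0,2,0,1,1,0,1,0,2,2,3,1,0,1,0,1,1,1,0,2,3,1,0,2,3,2,0])) (Tr.node (Tr.leaf [1,0,1,0,1,0,1,1,1,1,1,1,1,1,0,1,0,2,2,2,0,2,0,1,0,2,2,2,0,2,0,1]) (Tr.leaf [])))))) (Tr.node (Tr.node (Tr.node (Tr.node (Tr.node (Tr.leaf [1,1,1,1,0,2,2,2,2,0,1,1,1,1,0,2,2,2,2,0]) (Tr.leaf [2,2,0,2,0,1,1,0,1,0,2,0,1,0,2,0,2,2,0,1,0,1,1,0,2,0,1,0,2,0,1,0])) (Tr.node (Tr.leaf [2,0,2,0,1,0,1,0,1,1,0,1,1,0,1,1,0,2,2,2,2,2,2,2,2,2,2,2,0,2]) (Tr.leaf [2,0,2,3,0,1,1,1,0,1,0,2,2,2,2,0,2,2,0,2,0,2,0,2,0,1,1,0,2,2,0,3,1,1,0,2,0,2,0,2,2,0,2,3,2,0]))) (Tr.node (Tr.node (Tr.leaf [0,1,0,1,1,0,1,1,0,1,1,0,1,1,1,1,1,1,1,1,1,0,2,2,0,2,0,1]) (Tr.leaf [0,1,0,2,2,0,1,0,2,0,1,0,1,1,3,1,1,1,1,1,3,0,1,0,2])) (Tr.node (Tr.leaf [2,0,1,1,0,2,0,1,0,2,0,1,0,2,2,2,0,2,0,2,0,2,0,2,0,2,2,0,1,0,2,0]) (Tr.leaf [])))) (Tr.node (Tr.node (Tr.node (Tr.leaf [0,1,0,2,2,0,1,0,1,0,2,0,1,0,2,0,2,0,1,1,0,2,0,1,0,2]) (Tr.leaf [1,1,1,1,1,1,0,2,2,2,0,1,0,2,0,1,0,2,0,1,0,2,2,2,0,2,2,0,2,2,0,1])) (Tr.node (Tr.leaf [0,1,0,2,2,2,0,1,0,2,0,1,1,1,0,2,0,2,2,2,2,0,1,0,2,0,1,1,1,1]) (Tr.leaf []))) (Tr.node (Tr.node (Tr.leaf [1,0,1,1,0,2,0,1,0,2,0,1,0,2,0,1,0,2,0,1,1,0,1,0,1,0,1,0,1,0]) (Tr.leaf [3,0,2,0,1,1,0,3,2,3,0,1,1,1,0,2,0,1,1,0,1,1,1,1,1,1,0,1,0,1,1,0,1,1,0,3,1])) (Tr.node (Tr.leaf [2,0,2,0,2,0,1,0,2,2,2,0,1,1,1,1,0,2,2,0,1,1,0,1,1,1,0,1,1,0,2,2]) (Tr.leaf []))))) (Tr.node (Tr.node (Tr.node (Tr.node (Tr.leaf [0,1,1,1,1,1,0,2,2,2,2,2,0,1,1,1,1,1,0,2,2,2,2,2]) (Tr.leaf [2,2,0,2,0,1,0,1,1,1,1,1,1,1,1,0,2,2,0,2,0,1,0,1,1,1,1,1,1,1,1,0])) (Tr.node (Tr.leaf [0,2,0,2,0,1,0,1,0,1,1,1,0,2,2,0,2,2,2,0,2,2,0,2,2,0,1,1,1,1]) (Tr.leaf []))) (Tr.node (Tr.node (Tr.leaf [1,1,1,0,2,2,2,2,0,2,0,1,0,1,1,1,1,0,2,2,2,2,0,2,0,1,0,1]) (Tr.leaf [2,2,0,1,0,1,0,1,3,1,1,0,2,2,0,2,0,2,0,1,0,1,1,0,1,0,2,2,0,1,3,2,0,1,0,1,0])) (Tr.node (Tr.leaf [0,1,1,0,1,0,1,0,2,0,2,2,0,2,2,0,2,2,0,2,2,2,2,0,2,2,0,2,0,1,0,1]) (Tr.leaf [])))) (Tr.node (Tr.node (Tr.node (Tr.leaf [1,0,2,2,2,2,0,2,0,1,1,1,1,1,0,2,2,2,2,2,0,1,0,1,1,1]) (Tr.leaf [2,0,1,1,1,0,1,0,2,0,1,1,1,0,1,0,2,0,1,1,1,0,1,0,2,0,1,1,1,0,1,0])) (Tr.node (Tr.leaf [2,2,0,1,1,1,1,0,2,2,2,2,0,1,1,1,0,2,0,2,0,2,0,2,0,2,0,2,0,2,2,2]) (Tr.leaf []))) (Tr.node (Tr.node (Tr.leaf [1,1,0,1,1,0,2,2,0,2,2,0,2,0,1,0,1,0,1,1,0,1,0,1,0,1,0,1,1,0]) (Tr.leaf [3,2,3,2,0,1,1,0,2,0,2,0,1,1,1,1,0,2,0,1,1,1,0,1,0,1,1,0,1,3,1,3,0,1,3,1,0,2,2,0,1,1,0,1,1,0,1,0])) (Tr.node (Tr.leaf [2,0,1,0,1,0,2,0,2,0,1,1,0,2,0,2,0,1,1,0,2,0,1,0,2,2,0,1,0,1,0,2]) (Tr.leaf []))))))) (Tr.node (Tr.node (Tr.node (Tr.node (Tr.node (Tr.node (Tr.leaf [0,2,0,1,0,2,0,1,0,2,0,1,0,2,0,1,0,2,0,1]) (Tr.leaf [2,2,2,2,2,2,2,2,2,2,0,2,2,0,2,0,1,0,2,0,2,2,0,2,2,0,2,2,0,2,2,2])) (Tr.node (Tr.leaf [1,0,2,0,1,0,2,0,2,0,2,0,1,1,0,1,0,2,0,1,0,2,0,2,2,0,1,0,1,0]) (Tr.leaf [1,1,0,1,0,2,2,2,2,0,2,2,0,2,0,2,0,2,0,1,1,0,2,2,0,3,1,1,0,2,0,2,0,2,2,0,2,3,2,0,2,0,2,3,0,1]))) (Tr.node (Tr.node (Tr.leaf [1,1,0,2,2,0,2,2,0,2,0,1,0,1,0,1,0,2,0,2,0,2,0,1,0,1,1,0]) (Tr.leaf [0,2,2,2,0,2,2,2,0,2,2,2,0,2,2,2,0,2,2,2,0,2,2,2,0,2,2,2,0,2,2,2])) (Tr.node (Tr.leaf [1,0,1,0,1,1,1,0,2,0,1,0,2,0,1,0,2,2,0,1,0,1,0,2,0,1,1,0,1,0,1,0]) (Tr.leaf [])))) (Tr.node (Tr.node (Tr.node (Tr.leaf [1,0,2,0,1,0,2,0,2,0,1,1,0,2,0,1,0,2,0,1,0,2,2,0,1,0]) (Tr.leaf [0,2,2,0,2,2,2,2,2,0,2,0,1,0,2,0,1,0,1,1,1,1,1,0,1,1,0,2,2,0,1,1])) (Tr.node (Tr.leaf [0,1,0,2,0,1,0,2,0,2,2,0,1,1,1,0,2,0,1,0,2,0,1,0,2,2,2,0,1,1]) (Tr.leaf []))) (Tr.node (Tr.node (Tr.leaf [0,1,0,1,0,1,1,0,1,0,1,0,1,0,1,0,1,0,1,0,1,1,0,1,0,1,0,1,0,1]) (Tr.leaf [3,0,2,2,0,2,2,0,2,0,2,2,2,2,2,2,0,2,2,0,1,0,2,2,2,0,3,1,3,0,2,2,0,1,0,3,2])) (Tr.node (Tr.leaf [2,2,0,1,1,1,0,2,0,1,0,1,0,1,1,1,0,2,2,0,2,2,2,0,2,2,0,1,1,0,2,2]) (Tr.leaf []))))) (Tr.node (Tr.node (Tr.node (Tr.node (Tr.leaf [1,1,0,1,1,0,1,1,0,1,1,0,1,1,0,1,1,0,1,1,0,1,1,0]) (Tr.leaf [0,2,0,1,0,2,0,2,2,0,2,2,0,1,1,0,2,2,2,2,0,1,1,1,1,0,1,1,1,0,2,2])) (Tr.node (Tr.leaf [0,1,1,1,0,2,2,0,2,2,2,0,2,2,0,2,2,0,1,1,1,1,0,2,0,2,0,1,0,1]) (Tr.leaf [0,0]))) (Tr.node (Tr.node (Tr.leaf [0,1,0,1,0,2,2,0,1,1,0,2,0,2,0,1,0,1,0,2,2,0,1,1,0,2,0,2]) (Tr.leaf [2,0,2,2,0,2,0,1,0,1,0,1,1,0,2,2,3,2,0,2,0,2,0,1,1,0,2,0,2,0,1,3,2,0,1,1,0])) (Tr.node (Tr.leaf [2,0,2,0,1,1,1,0,2,0,1,0,2,0,1,0,2,2,2,0,1,0,1,0,1,0,2,0,1,0,2,0]) (Tr.leaf [])))) (Tr.node (Tr.node (Tr.node (Tr.leaf [1,1,1,1,1,1,0,2,2,0,2,0,1,0,2,0,2,2,0,2,2,0,2,2,0,1]) (Tr.leaf [2,2,2,0,1,1,0,2,0,1,0,2,0,2,2,0,2,2,0,2,2,0,1,1,1,0,1,1,1,1,0,2])) (Tr.node (Tr.leaf [1,0,1,0,2,2,2,0,1,1,1,1,0,2,2,2,2,0,1,1,1,1,1,0,1,0,1,0,1,0,1,0]) (Tr.leaf []))) (Tr.node (Tr.node (Tr.leaf [0,2,0,1,0,1,0,2,0,1,0,2,0,2,2,0,2,0,2,0,2,0,2,0,2,2,0,1,0,2]) (Tr.leaf [1,0,2,3,2,0,1,0,1,1,1,1,0,2,0,1,0,2,0,1,1,0,1,0,2,2,3,1,0,1,0,1,1,1,0,2,3])) (Tr.node (Tr.leaf [2,2,2,2,2,0,2,0,2,0,2,2,0,1,0,1,1,1,0,2,0,1,0,1,1,1,0,2,0,2,2,2]) (Tr.leaf [])))))) (Tr.node (Tr.node (Tr.node (Tr.node (Tr.node (Tr.leaf [1,1,1,1,1,1,1,1,1,1,1,1,1,1,1,1,1,1,1,1]) (Tr.leaf [0,1,0,1,1,0,2,2,2,0,2,2,2,2,0,1,1,1,1,0,2,2,0,1,1,0,1,1,0,1,0,2])) (Tr.node (Tr.leaf [0,2,2,0,2,0,2,0,1,0,1,1,0,1,1,1,1,1,1,1,1,1,1,1,0,2,2,0,2,2]) (Tr.leaf [0,2,2,0,1,1,1,0,2,3,2,2,2,0,2,2,2,0,2,0,2,0,2,0,1,1,1,0,2,2,0,1,0,3,1,0,2,2,2,2,0,2,2,3,1,0,1]))) (Tr.node (Tr.node (Tr.leaf [1,1,1,0,2,2,0,2,0,1,0,1,0,1,1,0,1,1,0,1,1,0,1,1,1,1,1,1]) (Tr.leaf [2,0,1,1,0,2,0,1,0,2,0,3,2,2,2,2,2,3,2,2,0,2,0,1,0])) (Tr.node (Tr.leaf [0,2,0,1,0,2,0,2,2,0,1,0,1,0,1,0,2,0,1,1,0,1,0,1,0,1,0,1,1,1,0,1]) (Tr.leaf [])))) (Tr.node (Tr.node (Tr.node (Tr.leaf [0,2,2,2,2,2,2,2,0,1,1,0,1,1,0,1,1,0,1,0,2,0,1,0,1,1]) (Tr.leaf [0,1,0,2,0,1,0,2,0,1,1,1,0,2,2,2,2,2,2,2,0,1,1,0,1,1,0,1,1,1,0,2])) (Tr.node (Tr.leaf [1,0,2,2,2,2,0,1,1,1,1,0,2,2,2,0,1,0,1,0,1,0,1,0,1,0,1,0,1,1,1,1]) (Tr.leaf []))) (Tr.node (Tr.node (Tr.leaf [2,0,1,0,2,0,1,0,2,2,0,2,0,2,0,2,0,2,0,2,0,2,2,0,1,0,2,0,1,0]) (Tr.leaf [0,2,2,2,0,2,0,2,3,1,1,0,2,0,2,2,0,1,0,2,0,1,0,2,2,2,2,0,2,0,1,3,1,0,2,3,1])) (Tr.node (Tr.leaf [0,2,0,1,1,1,0,2,2,2,0,2,0,2,0,1,0,1,0,1,1,1,0,2,2,2,0,1,0,2,0,1]) (Tr.leaf []))))) (Tr.node (Tr.node (Tr.node (Tr.node (Tr.leaf [2,2,2,0,1,1,1,1,1,0,2,2,2,2,2,0,1,1,1,1,1,0,2,2]) (Tr.leaf [0,1,1,1,0,2,0,2,2,2,2,0,1,0,1,1,1,0,1,0,2,2,2,2,2,0,1,1,0,1,0,2])) (Tr.node (Tr.leaf [2,2,2,0,2,0,2,0,1,0,1,0,2,2,2,2,0,1,1,0,1,1,0,1,1,1,0,1,1,0]) (Tr.leaf []))) (Tr.node (Tr.node (Tr.leaf [0,1,0,2,0,1,0,2,0,2,2,0,1,1,0,1,0,2,0,1,0,2,0,2,2,0,1,1]) (Tr.leaf [0,1,1,0,1,0,2,0,1,0,2,2,2,0,1,1,0,2,2,0,1,3,1,3,2,2,2,2,3,2,3,2])) (Tr.node (Tr.leaf [2,0,1,0,1,0,1,1,0,1,0,1,0,2,0,2,2,0,2,2,0,2,2,0,2,2,2,2,0,2,2,0]) (Tr.leaf [])))) (Tr.node (Tr.node (Tr.node (Tr.leaf [0,2,2,2,2,2,0,1,1,1,1,1,0,2,0,2,2,2,2,0,1,1,1,1,0,1]) (Tr.leaf [0,2,2,2,2,2,0,1,0,2,0,1,1,1,1,1,0,2,2,2,2,2,0,1,0,2,0,1,1,1,1,1])) (Tr.node (Tr.leaf [2,0,2,0,2,2,2,2,2,0,1,1,1,1,0,2,2,2,2,0,1,1,1,0,2,0,2,0,2,0,2,0]) (Tr.leaf []))) (Tr.node (Tr.node (Tr.leaf [0,2,2,0,2,2,0,2,0,2,0,2,0,2,2,0,2,0,2,0,1,0,1,1,0,1,1,0,2,2]) (Tr.leaf [0,2,2,0,2,2,0,1,1,0,2,3,2,0,3,2,3,2,0,2,2,0,2,0,2,2,2,0,1,0,2,2,2,2,0,1,0,1,0,2,2,0,1,3,1,3,0,2])) (Tr.node (Tr.leaf [2,2,2,2,2,0,1,0,2,0,1,1,1,1,1,1,0,1,0,1,1,0,1,0,2,0,2,2,0,2,0,2]) (Tr.leaf [])))))))) (Tr.node (Tr.node (Tr.node (Tr.node (Tr.node (Tr.node (Tr.node (Tr.leaf [0,2,0,2,0,2,0,2,0,2,0,2,0,2,0,2]) (Tr.leaf [0,1,1,0,1,1,0,1,1,0,1,0,2,0,1,0,1,1,0,1,1,1,1,1,1,1,1,1,1,1,1,1])) (Tr.node (Tr.leaf [2,0,1,0,2,0,2,2,0,1,0,1,0,1,0,2,0,1,0,2,0,2,0,2,0,1,1,0,1,0]) (Tr.leaf [1,1,0,2,2,0,1,0,1,0,1,0,1,1,0,1,1,1,1,0,2,0,2,2,2,0,3,1,0,1,0,1,3,1,0,1,1,0,1,0,1,0,2,2,3,0]))) (Tr.node (Tr.node (Tr.leaf [2,0,2,0,1,0,1,1,0,1,1,0,2,2,0,2,2,0,2,0,1,0,1,0,1,0,2,0]) (Tr.leaf [2,0,2,2,0,1,1,0,1,1,0,2,2,0,1,1,0,1,1,1,0,2,2,2,0,2,2,0,1,1,0,2])) (Tr.node (Tr.leaf [0,2,0,2,0,2,0,2,0,1,0,1,1,0,1,1,0,1,1,1,1,1,1,1,1,1,0,2,2,0,2,2]) (Tr.leaf [])))) (Tr.node (Tr.node (Tr.node (Tr.leaf [2,2,2,0,2,2,2,2,0,2,2,2,2,0,2,2,2,2,0,2,2,2,2,0,2]) (Tr.leaf [1,1,0,1,1,0,2,2,0,1,1,0,2,2,0,2,2,2,2,2,0,2,0,1,0,2,0,1,0,1,1,1])) (Tr.node (Tr.leaf [1,0,2,0,1,0,2,0,1,0,2,2,2,0,1,1,0,1,0,2,0,1,0,2,0,2,2,0,1,1]) (Tr.leaf []))) (Tr.node (Tr.node (Tr.leaf [0,1,1,1,1,0,1,0,2,0,2,2,2,2,0,1,1,1,1,0,1,0,2,0,2,2,2,2]) (Tr.leaf [1,3,0,2,2,0,1,0,3,2,3,0,2,2,0,2,2,0,2,0,2,2,2,2,2,2,0,2,2,0,1,0,2,2,2,0,3])) (Tr.node (Tr.leaf [2,2,0,2,2,0,1,1,0,2,2,2,2,0,1,1,1,0,2,0,1,0,1,0,1,1,1,0,2,2,0,2]) (Tr.leaf []))))) (Tr.node (Tr.node (Tr.node (Tr.node (Tr.leaf [2,0,1,0,1,0,2,0,1,0,2,0,2,0,1,0,1,0,2,0,1,0,2,0]) (Tr.leaf [2,2,2,2,0,1,1,1,1,0,1,1,1,0,2,2,0,2,0,1,0,2,0,2,2,0,2,2,0,1,1,0])) (Tr.node (Tr.leaf [0,2,0,1,0,2,0,1,0,1,1,0,2,2,2,0,2,0,2,0,1,0,1,0,1,1,1,0,2,2]) (Tr.leaf [1,1,0,1,1,1,1,0,2,3,0,2,0,1,1,0,2,2,2,0,1,0,1,0,1,0,1,1,1,0,1,1,1,3,1,0,2,2,2,0,1,1,0,2,0,2,3]))) (Tr.node (Tr.node (Tr.leaf [0,2,0,1,0,1,1,0,2,2,2,2,2,2,2,2,2,0,2,2,0,2,2,0,2,2,0,2]) (Tr.leaf [0,1,3,2,0,1,1,0,2,0,2,2,0,2,0,1,0,1,0,1,1,0,2,2,3,2,0,2,0,2,0,1,1,0,2,0,2])) (Tr.node (Tr.leaf [0,1,0,2,0,1,0,2,0,2,0,2,0,1,0,1,0,1,0,2,0,1,0,2,0,2,0,2,0,1,0,1]) (Tr.leaf [])))) (Tr.node (Tr.node (Tr.node (Tr.leaf [2,0,2,2,0,2,2,0,1,1,1,1,1,1,1,0,2,2,0,2,0,1,0,2,0,2]) (Tr.leaf [0,2,2,0,1,1,1,0,1,1,1,1,0,2,2,2,2,0,1,1,0,2,0,1,0,2,0,2,2,0,2,2])) (Tr.node (Tr.leaf [0,2,0,2,0,2,0,2,0,1,1,1,0,2,2,2,2,0,1,1,1,1,0,2,2,2,2,2,0,2,0,2]) (Tr.leaf []))) (Tr.node (Tr.node (Tr.leaf [2,0,2,0,1,0,1,0,2,0,1,1,0,1,0,1,0,1,0,1,0,1,1,0,1,0,2,0,1,0]) (Tr.leaf [0,1,0,1,1,1,0,2,3,1,0,2,3,2,0,1,0,1,1,1,1,0,2,0,1,0,2,0,1,1,0,1,0,2,2,3,1])) (Tr.node (Tr.leaf [0,2,0,1,0,1,1,1,0,2,0,2,2,2,2,2,2,2,2,0,2,0,2,0,2,2,0,1,0,1,1,1]) (Tr.leaf [])))))) (Tr.node (Tr.node (Tr.node (Tr.node (Tr.node (Tr.leaf [1,1,1,0,2,2,2,2,0,1,1,1,1,0,2,2,2,2,0,1]) (Tr.leaf [2,0,1,1,0,2,2,0,2,0,1,0,1,1,0,2,2,0,1,1,0,2,2,0,2,0,1,0,1,1,0,2])) (Tr.node (Tr.leaf [1,1,1,1,1,1,1,0,2,2,0,2,2,0,2,2,0,2,0,2,0,1,0,1,1,0,1,1,1,1]) (Tr.leaf [2,2,2,0,2,2,3,1,0,1,0,2,2,0,1,1,1,0,2,3,2,2,2,0,2,2,2,0,2,0,2,0,2,0,1,1,1,0,2,2,0,1,0,3,1,0,2]))) (Tr.node (Tr.node (Tr.leaf [1,1,0,1,1,1,1,1,1,1,1,1,0,2,2,0,2,0,1,0,1,0,1,1,0,1,1,0]) (Tr.leaf [1,1,3,1,1,1,1,1,3,0,1,0,2,0,1,0,2,2,0,1,0,2,0,1,0])) (Tr.node (Tr.leaf [0,2,0,2,2,0,1,0,2,0,2,0,1,1,0,2,0,1,0,2,0,1,0,2,2,2,0,2,0,2,0,2]) (Tr.leaf [])))) (Tr.node (Tr.node (Tr.node (Tr.leaf [2,2,0,1,0,1,0,2,0,1,0,2,0,2,0,1,1,0,2,0,1,0,2,0,1,0]) (Tr.leaf [2,2,2,2,2,2,2,0,1,1,0,1,1,0,1,1,1,0,2,0,1,0,2,0,1,0,2,0,1,1,1,0])) (Tr.node (Tr.leaf [0,2,2,0,1,1,0,2,2,0,1,1,0,2,2,0,1,1,0,2,2,0,1,1,0,2,2,0,1,1]) (Tr.leaf []))) (Tr.node (Tr.node (Tr.leaf [2,0,1,0,2,0,1,1,0,1,0,1,0,1,0,1,0,1,0,1,1,0,2,0,1,0,2,0,1,0]) (Tr.leaf [2,3,0,1,1,1,0,2,0,1,1,0,1,1,1,1,1,1,0,1,0,1,1,0,1,1,0,3,1,3,0,2,0,1,1,0,3])) (Tr.node (Tr.leaf [1,0,2,0,1,0,2,0,1,1,1,0,2,2,2,0,2,0,2,0,1,0,1,0,1,1,1,0,2,2,2,0]) (Tr.leaf []))))) (Tr.node (Tr.node (Tr.node (Tr.node (Tr.leaf [2,2,2,2,0,1,1,1,1,1,0,2,2,2,2,2,0,1,1,1,1,1,0,2]) (Tr.leaf [1,0,2,2,2,2,2,0,1,1,0,1,0,2,0,1,1,1,0,2,0,2,2,2,2,0,1,0,1,1,1,0])) (Tr.node (Tr.leaf [1,0,1,1,0,1,1,1,0,1,1,0,2,2,2,0,2,0,2,0,1,0,1,0,2,2,2,2,0,1]) (Tr.leaf []))) (Tr.node (Tr.node (Tr.leaf [0,1,0,2,0,1,0,2,0,2,2,0,1,1,0,1,0,2,0,1,0,2,0,2,2,0,1,1]) (Tr.leaf [2,2,2,2,3,2,3,2,0,1,1,0,1,0,2,0,1,0,2,2,2,0,1,1,0,2,2,0,1,3,1,3])) (Tr.node (Tr.leaf [2,2,0,2,2,0,2,2,2,2,0,2,2,0,2,0,1,0,1,0,1,1,0,1,0,1,0,2,0,2,2,0]) (Tr.leaf [])))) (Tr.node (Tr.node (Tr.node (Tr.leaf [1,1,1,1,1,0,2,2,2,2,2,0,1,0,1,1,1,1,0,2,2,2,2,0,2,0]) (Tr.leaf [2,0,1,1,1,1,1,0,2,2,2,2,2,0,1,0,2,0,1,1,1,1,1,0,2,2,2,2,2,0,1,0])) (Tr.node (Tr.leaf [1,0,2,0,2,0,2,0,2,0,2,0,2,0,2,2,2,2,2,0,1,1,1,1,0,2,2,2,2,0,1,1]) (Tr.leaf []))) (Tr.node (Tr.node (Tr.leaf [2,2,0,2,0,2,0,1,0,1,1,0,1,1,0,2,2,0,2,2,0,2,2,0,2,0,2,0,2,0]) (Tr.leaf [2,0,2,2,0,2,0,2,2,2,0,1,0,2,2,2,2,0,1,0,1,0,2,2,0,1,3,1,3,0,2,0,2,2,0,2,2,0,1,1,0,2,3,2,0,3,2,3])) (Tr.node (Tr.leaf [1,0,1,0,2,0,2,2,0,2,0,2,2,2,2,2,2,0,1,0,2,0,1,1,1,1,1,1,0,1,0,1]) (Tr.leaf []))))))) (Tr.node (Tr.node (Tr.node (Tr.node (Tr.node (Tr.node (Tr.leaf [1,1,0,2,2,2,2,0,1,1,1,1,0,2,2,2,2,0,1,1]) (Tr.leaf [0,2,0,1,0,2,0,1,0,2,2,0,2,0,1,1,0,1,0,2,0,1,0,2,0,2,2,0,1,0,1,1])) (Tr.node (Tr.leaf [1,1,0,2,2,2,2,2,2,2,2,2,2,2,0,2,2,0,2,0,1,0,1,0,1,1,0,1,1,0]) (Tr.leaf [0,2,0,2,0,2,2,0,2,3,2,0,2,0,2,3,0,1,1,1,0,1,0,2,2,2,2,0,2,2,0,2,0,2,0,2,0,1,1,0,2,2,0,3,1,1]))) (Tr.node (Tr.node (Tr.leaf [0,2,0,1,0,1,0,1,0,2,0,2,0,2,0,1,0,1,1,0,1,1,0,2,2,0,2,2]) (Tr.leaf [1,1,1,3,0,1,0,2,0,1,0,2,2,0,1,0,2,0,1,0,1,1,3,1,1])) (Tr.node (Tr.leaf [1,0,2,0,1,1,0,1,0,1,0,1,0,1,0,1,1,1,0,2,0,1,0,2,0,1,0,2,2,0,1,0]) (Tr.leaf [])))) (Tr.node (Tr.node (Tr.node (Tr.leaf [1,1,0,2,0,1,0,2,0,1,0,2,2,0,1,0,1,0,2,0,1,0,2,0,2,0]) (Tr.leaf [0,2,2,0,1,1,0,2,2,0,2,2,2,2,2,0,2,0,1,0,2,0,1,0,1,1,1,1,1,0,1,1])) (Tr.node (Tr.leaf [0,2,2,2,2,0,1,0,2,0,1,1,1,1,0,1,0,2,2,2,0,1,0,2,0,1,1,1,0,2]) (Tr.leaf []))) (Tr.node (Tr.node (Tr.leaf [2,0,2,0,2,2,0,2,0,2,0,2,0,2,0,2,0,2,0,2,2,0,2,0,2,0,2,0,2,0]) (Tr.leaf [0,1,1,1,0,2,0,1,1,0,1,1,1,1,1,1,0,1,0,1,1,0,1,1,0,3,1,3,0,2,0,1,1,0,3,2,3])) (Tr.node (Tr.leaf [0,1,1,1,1,0,2,2,0,1,1,0,1,1,1,0,1,1,0,2,2,2,0,2,0,2,0,1,0,2,2,2]) (Tr.leaf []))))) (Tr.node (Tr.node (Tr.node (Tr.node (Tr.leaf [2,2,0,2,2,0,2,2,0,2,2,0,2,2,0,2,2,0,2,2,0,2,2,0]) (Tr.leaf [1,1,0,2,2,2,2,2,2,2,2,0,2,0,1,0,1,1,0,2,2,2,2,2,2,2,2,0,2,0,1,0])) (Tr.node (Tr.leaf [2,0,2,2,0,1,1,1,1,0,2,0,2,0,1,0,1,0,1,1,1,0,2,2,0,2,2,2,0,2]) (Tr.leaf []))) (Tr.node (Tr.node (Tr.leaf [2,0,1,1,0,2,0,2,0,1,0,1,0,2,2,0,1,1,0,2,0,2,0,1,0,1,0,2]) (Tr.leaf [2,2,0,2,0,2,0,1,0,1,1,0,1,0,2,2,0,1,3,2,0,1,0,1,0,2,2,0,1,0,1,0,1,3,1,1,0])) (Tr.node (Tr.leaf [0,1,0,2,2,2,0,1,0,1,0,1,0,2,0,1,0,2,0,2,0,2,0,1,1,1,0,2,0,1,0,2]) (Tr.leaf [])))) (Tr.node (Tr.node (Tr.node (Tr.leaf [0,2,0,1,0,2,0,2,2,0,2,2,0,2,2,0,1,1,1,1,1,1,1,0,2,2]) (Tr.leaf [2,2,2,0,1,1,1,0,2,0,1,0,2,0,1,0,2,2,2,0,1,1,1,0,2,0,1,0,2,0,1,0])) (Tr.node (Tr.leaf [0,2,2,2,2,0,1,1,1,1,1,0,1,0,1,0,1,0,1,0,1,0,1,0,2,2,2,0,1,1,1,1]) (Tr.leaf []))) (Tr.node (Tr.node (Tr.leaf [2,0,2,0,2,0,2,2,0,1,0,2,0,2,0,1,0,1,0,2,0,1,0,2,0,2,2,0,2,0]) (Tr.leaf [3,1,0,2,2,0,1,1,0,1,1,0,1,0,3,2,3,2,0,1,1,0,2,0,2,0,1,1,1,1,0,2,0,1,1,1,0,1,0,1,1,0,1,3,1,3,0,1])) (Tr.node (Tr.leaf [0,2,0,1,1,0,2,0,2,0,1,1,0,2,0,1,0,2,2,0,1,0,1,0,2,2,0,1,0,1,0,2]) (Tr.leaf [])))))) (Tr.node (Tr.node (Tr.node (Tr.node (Tr.node (Tr.leaf [0,1,0,2,0,1,0,2,0,2,0,1,0,1,0,2,0,1,0,2,0,2,0,1]) (Tr.leaf [0,1,1,1,1,0,2,2,0,1,1,0,1,1,0,1,0,2,0,1,0,1,1,0,2,2,2,0,2,2,2,2])) (Tr.node (Tr.leaf [2,2,0,2,0,1,0,2,0,1,0,1,1,0,2,2,2,0,2,0,2,0,1,0,1,0,1,1,1,0]) (Tr.leaf [0,2,0,1,1,0,2,2,2,0,1,0,1,0,1,0,1,1,1,0,1,1,1,3,1,0,2,2,2,0,1,1,0,2,0,2,3,1,1,0,1,1,1,1,0,2,3]))) (Tr.node (Tr.node (Tr.leaf [2,2,2,2,2,2,2,2,2,0,2,2,0,2,2,0,2,2,0,2,0,2,0,1,0,1,1,0]) (Tr.leaf [2,2,2,2,2,3,2,2,0,2,0,1,0,2,0,1,1,0,2,0,1,0,2,0,3])) (Tr.node (Tr.leaf [1,1,0,1,0,1,0,1,0,1,1,1,0,1,0,2,0,1,0,2,0,2,2,0,1,0,1,0,1,0,2,0]) (Tr.leaf [])))) (Tr.node (Tr.node (Tr.node (Tr.leaf [0,1,1,0,1,1,0,1,1,0,1,0,2,0,1,0,1,1,0,2,2,2,2,2,2,2]) (Tr.leaf [0,1,1,1,1,0,2,2,2,2,0,2,2,2,0,1,1,0,1,1,0,1,1,0,1,0,2,0,1,0,2,2])) (Tr.node (Tr.leaf [1,1,0,2,2,2,0,1,0,1,0,1,0,1,0,1,0,1,0,1,1,1,1,1,0,2,2,2,2,0,1,1]) (Tr.leaf []))) (Tr.node (Tr.node (Tr.leaf [2,0,2,0,2,0,2,2,0,1,0,2,0,1,0,2,0,1,0,2,0,1,0,2,2,0,2,0,2,0]) (Tr.leaf [0,2,0,2,2,0,1,0,2,0,1,0,2,2,2,2,0,2,0,1,3,1,0,2,3,1,0,2,2,2,0,2,0,2,3,1,1])) (Tr.node (Tr.leaf [1,1,0,1,0,2,2,2,0,2,0,1,0,2,2,2,0,2,0,1,1,0,1,0,1,0,1,1,1,1,1,1]) (Tr.leaf []))))) (Tr.node (Tr.node (Tr.node (Tr.node (Tr.leaf [1,1,1,0,1,1,1,1,0,1,1,1,1,0,1,1,1,1,0,1,1,1,1,0,1]) (Tr.leaf [1,0,1,0,2,2,2,0,1,0,2,0,2,2,0,1,1,1,1,1,0,2,0,2,2,2,0,2,0,1,1,1])) (Tr.node (Tr.leaf [0,2,0,2,0,1,1,0,2,0,2,0,1,0,1,0,2,2,0,1,0,1,0,2,0,2,0,1,0,1]) (Tr.leaf []))) (Tr.node (Tr.node (Tr.leaf [2,0,1,1,0,2,0,1,0,2,0,1,0,2,2,0,1,1,0,2,0,1,0,2,0,1,0,2]) (Tr.leaf [0,1,1,0,2,2,0,1,1,1,0,2,0,1,0,2,0,2,2,0,1,3,1,3,1,1,1,1,3,2,3,2])) (Tr.node (Tr.leaf [0,1,1,0,1,1,0,1,1,0,1,0,2,0,2,0,2,2,0,2,0,2,0,1,0,1,1,0,1,1,1,1]) (Tr.leaf [])))) (Tr.node (Tr.node (Tr.node (Tr.leaf [0,2,0,2,2,2,2,0,1,1,1,1,0,1,0,2,2,2,2,2,0,1,1,1,1,1]) (Tr.leaf [2,0,1,0,2,2,2,2,2,0,1,1,1,1,1,0,2,0,1,0,2,2,2,2,2,0,1,1,1,1,1,0])) (Tr.node (Tr.leaf [2,2,0,2,2,0,2,2,0,2,0,1,0,1,0,1,0,1,0,1,1,0,1,1,0,2,2,2,2,2,2,2]) (Tr.leaf []))) (Tr.node (Tr.node (Tr.leaf [1,0,1,0,1,0,2,0,1,0,2,0,2,0,2,0,1,1,0,1,0,2,0,1,0,2,0,2,2,0]) (Tr.leaf [2,3,2,0,2,2,0,2,0,2,2,2,0,1,0,2,2,2,2,0,1,0,1,0,2,2,0,1,3,1,3,0,2,0,2,2,0,2,2,0,1,1,0,2,3,2,0,3])) (Tr.node (Tr.leaf [1,0,1,0,1,1,0,1,0,2,0,2,2,0,2,0,2,2,2,2,2,2,0,1,0,2,0,1,1,1,1,1]) (Tr.leaf []))))))))))) (Tr.node (Tr.node (Tr.node (Tr.node (Tr.node (Tr.node (Tr.node (Tr.node (Tr.node (Tr.node (Tr.leaf [0,1,0,1,0,1,0,1,0,1,0,1,0,1,0,1]) (Tr.leaf [0,2,0,1,1,1,1,1,1,0,1,0,1,1,0,1,0,2,0,2,2,0,2,0,2,2,2,2,2,2,0,1])) (Tr.node (Tr.leaf [0,2,0,1,0,2,0,2,0,2,0,1,1,0,1,0,2,0,1,0,2,0,2,2,0,1,0,1,0,1]) (Tr.leaf [1,0,1,0,1,3,1,0,1,1,0,1,0,1,0,2,2,3,0,1,1,0,2,2,0,1,0,1,0,1,0,1,1,0,1,1,1,1,0,2,0,2,2,2,0,3]))) (Tr.node (Tr.node (Tr.leaf [2,2,0,1,1,1,1,0,1,0,2,2,2,2,2,0,1,1,1,1,1,0,2,0,2,2]) (Tr.leaf [0,2,2,0,1,1,0,1,1,1,0,2,2,2,0,2,2,0,1,1,0,2,2,0,2,2,0,1,1,0,1,1])) (Tr.node (Tr.leaf [1,0,1,1,0,1,1,0,1,1,1,1,1,1,1,1,1,0,2,2,0,2,2,0,2,0,2,0,2,0,2,0]) (Tr.leaf [])))) (Tr.node (Tr.node (Tr.node (Tr.leaf [1,1,0,1,1,1,1,0,1,1,1,1,0,1,1,1,1,0,1,1,1,1,0,1,1]) (Tr.leaf [0,1,0,2,0,2,2,0,1,1,1,1,1,0,2,0,2,2,2,0,2,0,1,1,1,1,0,1,0,2,2,2])) (Tr.node (Tr.leaf [1,0,2,0,2,0,1,0,1,0,2,2,0,1,0,1,0,2,0,2,0,1,0,1,0,2,0,2,0,1]) (Tr.leaf []))) (Tr.node (Tr.node (Tr.leaf [1,0,2,0,1,0,2,0,1,0,2,2,0,1,1,0,2,0,1,0,2,0,1,0,2,2,0,1]) (Tr.leaf [0,1,3,1,3,1,1,1,1,3,2,3,2,0,1,1,0,2,2,0,1,1,1,0,2,0,1,0,2,0,2,2])) (Tr.node (Tr.leaf [1,1,0,1,1,0,1,0,2,0,2,0,2,2,0,2,0,2,0,1,0,1,1,0,1,1,1,1,0,1,1,0]) (Tr.leaf []))))) (Tr.node (Tr.node (Tr.node (Tr.node (Tr.leaf [0,1,0,2,0,2,0,1,0,1,0,2,0,1,0,2,0,2,0,1,0,1,0,2]) (Tr.leaf [0,1,1,0,1,1,0,1,0,2,0,1,0,1,1,0,2,2,2,0,2,2,2,2,0,1,1,1,1,0,2,2])) (Tr.node (Tr.leaf [2,0,1,0,1,1,0,2,2,2,0,2,0,2,0,1,0,1,0,1,1,1,0,2,2,0,2,0,1,0]) (Tr.leaf [1,1,0,2,2,2,0,1,0,1,0,1,0,1,1,1,0,1,1,1,3,1,0,2,2,2,0,1,1,0,2,0,2,3,1,1,0,1,1,1,1,0,2,3,0,2,0]))) (Tr.node (Tr.node (Tr.leaf [2,2,2,2,2,2,0,2,2,0,2,2,0,2,2,0,2,0,2,0,1,0,1,1,0,2,2,2]) (Tr.leaf [2,2,3,2,2,0,2,0,1,0,2,0,1,1,0,2,0,1,0,2,0,3,2,2,2])) (Tr.node (Tr.leaf [1,0,2,0,2,0,2,0,1,1,0,1,0,2,0,1,0,2,0,2,2,2,0,2,0,2,0,2,0,2,2,0]) (Tr.leaf [])))) (Tr.node (Tr.node (Tr.node (Tr.leaf [0,1,1,0,1,1,0,1,0,2,0,1,0,1,1,0,2,2,2,2,2,2,2,0,1,1]) (Tr.leaf [2,2,2,2,0,2,2,2,0,1,1,0,1,1,0,1,1,0,1,0,2,0,1,0,2,2,0,1,1,1,1,0])) (Tr.node (Tr.leaf [1,1,1,0,2,2,2,2,0,1,1,1,1,0,2,2,2,2,2,0,2,0,2,0,2,0,2,0,2,0,2,0]) (Tr.leaf []))) (Tr.node (Tr.node (Tr.leaf [2,0,2,2,0,1,0,2,0,1,0,2,0,1,0,2,0,1,0,2,2,0,2,0,2,0,2,0,2,0]) (Tr.leaf [2,2,2,0,2,0,1,3,1,0,2,3,1,0,2,2,2,0,2,0,2,3,1,1,0,2,0,2,2,0,1,0,2,0,1,0,2])) (Tr.node (Tr.leaf [2,2,0,2,0,1,0,2,2,2,0,2,0,1,1,0,1,0,1,0,1,1,1,1,1,1,1,1,0,1,0,2]) (Tr.leaf [])))))) (Tr.node (Tr.node (Tr.node (Tr.node (Tr.node (Tr.leaf [2,2,2,2,0,1,1,1,1,0,2,2,2,2,0,1,1,1,1,0]) (Tr.leaf [1,0,2,0,1,0,2,2,0,2,0,1,1,0,1,0,2,0,1,0,2,0,2,2,0,1,0,1,1,0,2,0])) (Tr.node (Tr.leaf [2,2,2,2,2,2,2,0,2,2,0,2,0,1,0,1,0,1,1,0,1,1,0,1,1,0,2,2,2,2]) (Tr.leaf [2,0,2,2,0,2,3,2,0,2,0,2,3,0,1,1,1,0,1,0,2,2,2,2,0,2,2,0,2,0,2,0,2,0,1,1,0,2,2,0,3,1,1,0,2,0]))) (Tr.node (Tr.node (Tr.leaf [1,1,0,2,2,0,2,2,0,2,0,1,0,1,0,1,0,2,0,2,0,2,0,1,0,1,1,0]) (Tr.leaf [3,0,1,0,2,0,1,0,2,2,0,1,0,2,0,1,0,1,1,3,1,1,1,1,1])) (Tr.node (Tr.leaf [1,1,0,1,0,1,0,1,0,1,0,1,1,1,0,2,0,1,0,2,0,1,0,2,2,0,1,0,1,0,2,0]) (Tr.leaf [])))) (Tr.node (Tr.node (Tr.node (Tr.leaf [2,0,1,0,2,0,1,0,2,2,0,1,0,1,0,2,0,1,0,2,0,2,0,1,1,0]) (Tr.leaf [2,0,1,0,2,2,2,0,2,2,0,2,2,0,1,1,1,1,1,1,1,0,2,2,2,0,1,0,2,0,1,0])) (Tr.node (Tr.leaf [2,0,1,0,2,0,1,1,1,1,0,1,0,2,2,2,0,1,0,2,0,1,1,1,0,2,0,2,2,2]) (Tr.leaf []))) (Tr.node (Tr.node (Tr.leaf [1,0,1,0,1,0,1,0,1,0,1,1,0,2,0,1,0,2,0,1,0,2,0,1,0,2,0,1,1,0]) (Tr.leaf [1,0,2,0,1,1,0,1,1,1,1,1,1,0,1,0,1,1,0,1,1,0,3,1,3,0,2,0,1,1,0,3,2,3,0,1,1])) (Tr.node (Tr.leaf [2,0,1,1,0,1,1,1,0,1,1,0,2,2,2,0,2,0,2,0,1,0,2,2,2,0,1,1,1,1,0,2]) (Tr.leaf []))))) (Tr.node (Tr.node (Tr.node (Tr.node (Tr.leaf [0,2,2,0,2,2,0,2,2,0,2,2,0,2,2,0,2,2,0,2,2,0,2,2]) (Tr.leaf [2,2,2,2,2,0,2,0,1,0,1,1,0,2,2,2,2,2,2,2,2,0,2,0,1,0,1,1,0,2,2,2])) (Tr.node (Tr.leaf [0,1,1,1,1,0,2,0,2,0,1,0,1,0,1,1,1,0,2,2,0,2,2,2,0,2,2,0,2,2]) (Tr.leaf []))) (Tr.node (Tr.node (Tr.leaf [2,0,2,0,1,0,1,0,2,2,0,1,1,0,2,0,2,0,1,0,1,0,2,2,0,1,1,0]) (Tr.leaf [0,1,0,1,0,2,2,0,1,0,1,0,1,3,1,1,0,2,2,0,2,0,2,0,1,0,1,1,0,1,0,2,2,0,1,3,2])) (Tr.node (Tr.leaf [0,2,0,1,0,2,0,2,0,2,0,1,1,1,0,2,0,1,0,2,0,1,0,2,2,2,0,1,0,1,0,1]) (Tr.leaf [])))) (Tr.node (Tr.node (Tr.node (Tr.leaf [0,1,0,1,1,1,1,0,2,2,2,2,0,2,0,1,1,1,1,1,0,2,2,2,2,2]) (Tr.leaf [0,1,1,1,0,1,0,2,0,1,1,1,0,1,0,2,0,1,1,1,0,1,0,2,0,1,1,1,0,1,0,2])) (Tr.node (Tr.leaf [1,1,1,0,1,0,1,0,1,0,1,0,1,0,1,0,2,2,2,0,1,1,1,1,0,2,2,2,2,0,1,1]) (Tr.leaf []))) (Tr.node (Tr.node (Tr.leaf [2,0,2,2,0,1,0,2,0,2,0,1,0,1,0,2,0,1,0,2,0,2,2,0,2,0,2,0,2,0]) (Tr.leaf [2,2,0,1,1,0,1,1,0,1,0,3,2,3,2,0,1,1,0,2,0,2,0,1,1,1,1,0,2,0,1,1,1,0,1,0,1,1,0,1,3,1,3,0,1,3,1,0])) (Tr.node (Tr.leaf [1,0,2,0,1,0,2,2,0,1,0,1,0,2,2,0,1,0,1,0,2,0,2,0,1,1,0,2,0,2,0,1]) (Tr.leaf []))))))) (Tr.node (Tr.node (Tr.node (Tr.node (Tr.node (Tr.node (Tr.leaf [0,2,0,1,0,2,0,1,0,2,0,1,0,2,0,1,0,2,0,1]) (Tr.leaf [1,0,1,1,0,1,0,2,0,1,0,1,1,0,1,1,1,1,1,1,1,1,1,1,1,1,1,0,1,1,0,1])) (Tr.node (Tr.leaf [0,2,0,2,2,0,1,0,1,0,1,0,2,0,1,0,2,0,2,0,2,0,1,1,0,1,0,2,0,1]) (Tr.leaf [2,2,0,1,0,1,0,1,0,1,1,0,1,1,1,1,0,2,0,2,2,2,0,3,1,0,1,0,1,3,1,0,1,1,0,1,0,1,0,2,2,3,0,1,1,0]))) (Tr.node (Tr.node (Tr.leaf [0,1,0,1,1,0,1,1,0,2,2,0,2,2,0,2,0,1,0,1,0,1,0,2,0,2,0,2]) (Tr.leaf [2,2,0,2,2,0,1,1,0,2,2,0,2,2,0,1,1,0,1,1,0,2,2,0,1,1,0,1,1,1,0,2])) (Tr.node (Tr.leaf [0,1,0,1,1,0,1,1,0,1,1,1,1,1,1,1,1,1,0,2,2,0,2,2,0,2,0,2,0,2,0,2]) (Tr.leaf [])))) (Tr.node (Tr.node (Tr.node (Tr.leaf [2,0,2,2,2,2,0,2,2,2,2,0,2,2,2,2,0,2,2,2,2,0,2,2,2]) (Tr.leaf [0,2,2,0,1,1,0,2,2,0,2,2,2,2,2,0,2,0,1,0,2,0,1,0,1,1,1,1,1,0,1,1])) (Tr.node (Tr.leaf [0,2,0,1,0,2,2,2,0,1,1,0,1,0,2,0,1,0,2,0,2,2,0,1,1,1,0,2,0,1]) (Tr.leaf []))) (Tr.node (Tr.node (Tr.leaf [0,1,0,1,1,0,1,0,1,0,1,0,1,0,1,0,1,0,1,1,0,1,0,1,0,1,0,1,0,1]) (Tr.leaf [2,2,0,1,0,3,2,3,0,2,2,0,2,2,0,2,0,2,2,2,2,2,2,0,2,2,0,1,0,2,2,2,0,3,1,3,0])) (Tr.node (Tr.leaf [0,1,1,0,2,2,2,2,0,1,1,1,0,2,0,1,0,1,0,1,1,1,0,2,2,0,2,2,2,0,2,2]) (Tr.leaf []))))) (Tr.node (Tr.node (Tr.node (Tr.node (Tr.leaf [2,0,1,0,2,0,2,0,1,0,1,0,2,0,1,0,2,0,2,0,1,0,1,0]) (Tr.leaf [1,1,1,0,2,2,0,2,0,1,0,2,0,2,2,0,2,2,0,1,1,0,2,2,2,2,0,1,1,1,1,0])) (Tr.node (Tr.leaf [0,2,2,2,0,2,0,2,0,1,0,1,0,1,1,1,0,2,2,0,2,0,1,0,2,0,1,0,1,1]) (Tr.leaf [1,1,1,1,0,2,3,0,2,0,1,1,0,2,2,2,0,1,0,1,0,1,0,1,1,1,0,1,1,1,3,1,0,2,2,2,0,1,1,0,2,0,2,3,1,1,0]))) (Tr.node (Tr.node (Tr.leaf [1,0,2,2,0,1,1,0,2,0,2,0,1,0,1,0,2,2,0,1,1,0,2,0,2,0,1,0]) (Tr.leaf [2,0,1,1,0,2,0,2,2,0,2,0,1,0,1,0,1,1,0,2,2,3,2,0,2,0,2,0,1,1,0,2,0,2,0,1,3])) (Tr.node (Tr.leaf [2,0,2,0,2,0,1,0,1,0,1,0,2,0,1,0,2,0,2,0,2,0,1,0,1,0,1,0,2,0,1,0]) (Tr.leaf [])))) (Tr.node (Tr.node (Tr.node (Tr.leaf [0,2,2,0,1,1,1,1,1,1,1,0,2,2,0,2,0,1,0,2,0,2,2,0,2,2]) (Tr.leaf [1,1,1,0,1,1,1,1,0,2,2,2,2,0,1,1,0,2,0,1,0,2,0,2,2,0,2,2,0,2,2,0])) (Tr.node (Tr.leaf [2,0,2,0,1,1,1,0,2,2,2,2,0,1,1,1,1,0,2,2,2,2,2,0,2,0,2,0,2,0,2,0]) (Tr.leaf []))) (Tr.node (Tr.node (Tr.leaf [1,1,0,1,0,1,0,1,0,1,0,1,1,0,1,0,2,0,1,0,2,0,2,0,1,0,1,0,2,0]) (Tr.leaf [1,1,1,0,2,3,1,0,2,3,2,0,1,0,1,1,1,1,0,2,0,1,0,2,0,1,1,0,1,0,2,2,3,1,0,1,0])) (Tr.node (Tr.leaf [1,1,0,2,0,2,2,2,2,2,2,2,2,0,2,0,2,0,2,2,0,1,0,1,1,1,0,2,0,1,0,1]) (Tr.leaf [])))))) (Tr.node (Tr.node (Tr.node (Tr.node (Tr.node (Tr.leaf [1,1,1,1,1,1,1,1,1,1,1,1,1,1,1,1,1,1,1,1]) (Tr.leaf [0,2,2,0,1,1,0,2,2,0,2,0,1,0,1,1,0,2,2,0,1,1,0,2,2,0,2,0,1,0,1,1])) (Tr.node (Tr.leaf [1,0,2,2,0,2,2,0,2,2,0,2,0,2,0,1,0,1,1,0,1,1,1,1,1,1,1,1,1,1]) (Tr.leaf [2,3,1,0,1,0,2,2,0,1,1,1,0,2,3,2,2,2,0,2,2,2,0,2,0,2,0,2,0,1,1,1,0,2,2,0,1,0,3,1,0,2,2,2,2,0,2]))) (Tr.node (Tr.node (Tr.leaf [1,1,1,1,1,1,1,1,1,0,2,2,0,2,0,1,0,1,0,1,1,0,1,1,0,1,1,0]) (Tr.leaf [2,0,2,0,1,0,2,0,1,1,0,2,0,1,0,2,0,3,2,2,2,2,2,3,2])) (Tr.node (Tr.leaf [1,0,1,0,1,1,1,0,1,0,2,0,1,0,2,0,2,2,0,1,0,1,0,1,0,2,0,1,1,0,1,0]) (Tr.leaf [])))) (Tr.node (Tr.node (Tr.node (Tr.leaf [2,0,1,1,0,2,0,1,0,2,0,1,0,2,2,0,1,0,1,0,2,0,1,0,2,0]) (Tr.leaf [0,1,1,0,1,1,0,1,1,1,0,2,0,1,0,2,0,1,0,2,0,1,1,1,0,2,2,2,2,2,2,2])) (Tr.node (Tr.leaf [0,1,0,1,0,1,0,1,0,1,0,1,1,1,1,1,0,2,2,2,2,0,1,1,1,1,0,2,2,2,0,1]) (Tr.leaf []))) (Tr.node (Tr.node (Tr.leaf [0,1,1,0,1,0,1,0,1,0,1,0,1,0,1,1,0,2,0,1,0,2,0,1,0,2,0,1,0,2]) (Tr.leaf [1,0,2,3,1,0,2,2,2,0,2,0,2,3,1,1,0,2,0,2,2,0,1,0,2,0,1,0,2,2,2,2,0,2,0,1,3])) (Tr.node (Tr.leaf [1,0,2,0,1,1,1,0,2,2,2,0,2,0,2,0,1,0,1,0,1,1,1,0,2,2,2,0,1,0,2,0]) (Tr.leaf []))))) (Tr.node (Tr.node (Tr.node (Tr.node (Tr.leaf [2,0,1,1,1,1,1,0,2,2,2,2,2,0,1,1,1,1,1,0,2,2,2,2]) (Tr.leaf [2,2,2,0,1,1,0,1,0,2,0,1,1,1,0,2,0,2,2,2,2,0,1,0,1,1,1,0,1,0,2,2])) (Tr.node (Tr.leaf [1,0,1,1,0,2,2,2,0,2,0,2,0,1,0,1,0,2,2,2,2,0,1,1,0,1,1,0,1,1]) (Tr.leaf []))) (Tr.node (Tr.node (Tr.leaf [0,1,0,2,0,2,2,0,1,1,0,1,0,2,0,1,0,2,0,2,2,0,1,1,0,1,0,2]) (Tr.leaf [2,3,2,3,2,0,1,1,0,1,0,2,0,1,0,2,2,2,0,1,1,0,2,2,0,1,3,1,3,2,2,2])) (Tr.node (Tr.leaf [2,2,2,2,0,2,2,0,2,0,1,0,1,0,1,1,0,1,0,1,0,2,0,2,2,0,2,2,0,2,2,0]) (Tr.leaf [])))) (Tr.node (Tr.node (Tr.node (Tr.leaf [2,2,2,2,2,0,1,0,1,1,1,1,0,2,2,2,2,0,2,0,1,1,1,1,1,0]) (Tr.leaf [1,1,1,0,2,2,2,2,2,0,1,0,2,0,1,1,1,1,1,0,2,2,2,2,2,0,1,0,2,0,1,1])) (Tr.node (Tr.leaf [0,2,0,2,0,2,0,2,0,2,0,2,2,2,2,2,0,1,1,1,1,0,2,2,2,2,0,1,1,1,0,2]) (Tr.leaf []))) (Tr.node (Tr.node (Tr.leaf [0,1,1,0,1,1,0,2,2,0,2,2,0,2,2,0,2,0,2,0,2,0,2,2,0,2,0,2,0,1]) (Tr.leaf [3,1,3,0,2,0,2,2,0,2,2,0,1,1,0,2,3,2,0,3,2,3,2,0,2,2,0,2,0,2,2,2,0,1,0,2,2,2,2,0,1,0,1,0,2,2,0,1])) (Tr.node (Tr.leaf [2,2,0,2,0,2,2,2,2,2,2,0,1,0,2,0,1,1,1,1,1,1,0,1,0,1,1,0,1,0,2,0]) (Tr.leaf [])))))))) (Tr.node (Tr.node (Tr.node (Tr.node (Tr.node (Tr.node (Tr.node (Tr.leaf [0,2,0,2,0,2,0,2,0,2,0,2,0,2,0,2]) (Tr.leaf [1,1,1,1,1,1,1,1,1,1,0,1,1,0,1,1,0,1,1,0,1,0,2,0,1,0,1,1,0,1,1,1])) (Tr.node (Tr.leaf [0,2,0,1,1,0,1,0,2,0,1,0,2,0,2,2,0,1,0,1,0,1,0,2,0,1,0,2,0,2]) (Tr.leaf [1,1,0,1,0,1,0,2,2,3,0,1,1,0,2,2,0,1,0,1,0,1,0,1,1,0,1,1,1,1,0,2,0,2,2,2,0,3,1,0,1,0,1,3,1,0]))) (Tr.node (Tr.node (Tr.leaf [1,0,1,0,2,0,2,0,2,0,1,0,1,1,0,1,1,0,2,2,0,2,2,0,2,0,1,0]) (Tr.leaf [2,0,1,1,0,2,2,0,2,2,0,1,1,0,1,1,0,2,2,0,1,1,0,1,1,1,0,2,2,2,0,2])) (Tr.node (Tr.leaf [1,1,1,0,2,2,0,2,2,0,2,0,2,0,2,0,2,0,1,0,1,1,0,1,1,0,1,1,1,1,1,1]) (Tr.leaf [])))) (Tr.node (Tr.node (Tr.node (Tr.leaf [2,2,2,0,2,2,2,2,0,2,2,2,2,0,2,2,2,2,0,2,2,2,2,0,2]) (Tr.leaf [2,0,2,0,1,1,1,1,0,1,0,2,2,2,0,1,0,2,0,2,2,0,1,1,1,1,1,0,2,0,2,2])) (Tr.node (Tr.leaf [0,1,0,2,0,1,0,2,0,2,2,0,1,1,1,0,2,0,1,0,2,0,1,0,2,2,2,0,1,1]) (Tr.leaf []))) (Tr.node (Tr.node (Tr.leaf [2,0,1,0,2,0,1,0,2,2,0,1,1,0,2,0,1,0,2,0,1,0,2,2,0,1,1,0]) (Tr.leaf [1,3,2,3,2,0,1,1,0,2,2,0,1,1,1,0,2,0,1,0,2,0,2,2,0,1,3,1,3,1,1,1])) (Tr.node (Tr.leaf [0,2,0,1,0,1,1,0,1,1,1,1,0,1,1,0,1,1,0,1,1,0,1,0,2,0,2,0,2,2,0,2]) (Tr.leaf []))))) (Tr.node (Tr.node (Tr.node (Tr.node (Tr.leaf [1,0,2,0,1,0,2,0,2,0,1,0,1,0,2,0,1,0,2,0,2,0,1,0]) (Tr.leaf [2,2,0,2,2,0,1,1,0,2,2,2,2,0,1,1,1,1,0,1,1,1,0,2,2,0,2,0,1,0,2,0])) (Tr.node (Tr.leaf [0,2,0,1,0,1,0,1,1,1,0,2,2,0,2,0,1,0,2,0,1,0,1,1,0,2,2,2,0,2]) (Tr.leaf [2,0,1,1,0,2,0,2,3,1,1,0,1,1,1,1,0,2,3,0,2,0,1,1,0,2,2,2,0,1,0,1,0,1,0,1,1,1,0,1,1,1,3,1,0,2,2]))) (Tr.node (Tr.node (Tr.leaf [2,2,0,2,2,0,2,0,2,0,1,0,1,1,0,2,2,2,2,2,2,2,2,2,0,2,2,0]) (Tr.leaf [2,0,1,1,0,2,0,2,0,1,3,2,0,1,1,0,2,0,2,2,0,2,0,1,0,1,0,1,1,0,2,2,3,2,0,2,0])) (Tr.node (Tr.leaf [0,2,0,2,0,2,2,0,1,0,2,0,2,0,2,0,1,1,0,1,0,2,0,1,0,2,0,2,2,2,0,2]) (Tr.leaf [])))) (Tr.node (Tr.node (Tr.node (Tr.leaf [2,0,1,0,1,1,0,2,2,2,2,2,2,2,0,1,1,0,1,1,0,1,1,0,1,0]) (Tr.leaf [1,0,1,1,0,1,0,2,0,1,0,2,2,0,1,1,1,1,0,2,2,2,2,0,2,2,2,0,1,1,0,1])) (Tr.node (Tr.leaf [2,2,2,2,0,2,0,2,0,2,0,2,0,2,0,2,0,1,1,1,0,2,2,2,2,0,1,1,1,1,0,2]) (Tr.leaf []))) (Tr.node (Tr.node (Tr.leaf [1,0,1,1,0,1,0,2,0,1,0,2,0,2,0,1,0,1,0,2,0,1,1,0,1,0,1,0,1,0]) (Tr.leaf [1,1,1,0,2,0,1,0,2,0,1,1,0,1,0,2,2,3,1,0,1,0,1,1,1,0,2,3,1,0,2,3,2,0,1,0,1])) (Tr.node (Tr.leaf [1,0,1,1,1,0,2,0,1,0,1,1,1,0,2,0,2,2,2,2,2,2,2,2,0,2,0,2,0,2,2,0]) (Tr.leaf [])))))) (Tr.node (Tr.node (Tr.node (Tr.node (Tr.node (Tr.leaf [2,2,0,1,1,1,1,0,2,2,2,2,0,1,1,1,1,0,2,2]) (Tr.leaf [2,0,1,0,2,0,2,2,0,1,0,1,1,0,2,0,1,0,2,0,1,0,2,2,0,2,0,1,1,0,1,0])) (Tr.node (Tr.leaf [1,0,1,1,1,1,1,1,1,1,1,1,1,0,2,2,0,2,2,0,2,2,0,2,0,2,0,1,0,1]) (Tr.leaf [3,0,1,1,1,0,1,0,2,2,2,2,0,2,2,0,2,0,2,0,2,0,1,1,0,2,2,0,3,1,1,0,2,0,2,0,2,2,0,2,3,2,0,2,0,2]))) (Tr.node (Tr.node (Tr.leaf [1,0,1,1,0,1,1,0,1,1,1,1,1,1,1,1,1,0,2,2,0,2,0,1,0,1,0,1]) (Tr.leaf [2,2,0,1,0,2,0,1,0,1,1,3,1,1,1,1,1,3,0,1,0,2,0,1,0])) (Tr.node (Tr.leaf [0,1,0,2,2,2,0,2,0,2,0,2,0,2,0,2,2,0,1,0,2,0,2,0,1,1,0,2,0,1,0,2]) (Tr.leaf [])))) (Tr.node (Tr.node (Tr.node (Tr.leaf [2,2,0,1,0,1,0,2,0,1,0,2,0,2,0,1,1,0,2,0,1,0,2,0,1,0]) (Tr.leaf [2,2,2,0,1,0,2,0,1,0,2,0,1,0,2,2,2,0,2,2,0,2,2,0,1,1,1,1,1,1,1,0])) (Tr.node (Tr.leaf [1,1,1,0,2,0,2,2,2,2,0,1,0,2,0,1,1,1,1,0,1,0,2,2,2,0,1,0,2,0]) (Tr.leaf []))) (Tr.node (Tr.node (Tr.leaf [0,1,0,2,0,1,0,2,0,1,0,2,0,1,1,0,1,0,1,0,1,0,1,0,1,0,1,1,0,2]) (Tr.leaf [0,1,1,0,3,2,3,0,1,1,1,0,2,0,1,1,0,1,1,1,1,1,1,0,1,0,1,1,0,1,1,0,3,1,3,0,2])) (Tr.node (Tr.leaf [2,0,1,0,2,2,2,0,1,1,1,1,0,2,2,0,1,1,0,1,1,1,0,1,1,0,2,2,2,0,2,0]) (Tr.leaf []))))) (Tr.node (Tr.node (Tr.node (Tr.node (Tr.leaf [1,1,1,0,2,2,2,2,2,0,1,1,1,1,1,0,2,2,2,2,2,0,1,1]) (Tr.leaf [0,1,1,1,0,1,0,2,2,2,2,2,0,1,1,0,1,0,2,0,1,1,1,0,2,0,2,2,2,2,0,1])) (Tr.node (Tr.leaf [1,0,1,0,2,2,2,2,0,1,1,0,1,1,0,1,1,1,0,1,1,0,2,2,2,0,2,0,2,0]) (Tr.leaf []))) (Tr.node (Tr.node (Tr.leaf [0,2,2,2,2,0,2,0,1,0,1,1,1,1,0,2,2,2,2,0,2,0,1,0,1,1,1,1]) (Tr.leaf [1,0,1,0,1,3,1,1,0,2,2,0,2,0,2,0,1,0,1,1,0,1,0,2,2,0,1,3,2,0,1,0,1,0,2,2,0])) (Tr.node (Tr.leaf [1,0,2,0,2,2,0,2,2,0,2,2,0,2,2,2,2,0,2,2,0,2,0,1,0,1,0,1,1,0,1,0]) (Tr.leaf [])))) (Tr.node (Tr.node (Tr.node (Tr.leaf [2,2,2,0,2,0,1,1,1,1,1,0,2,2,2,2,2,0,1,0,1,1,1,1,0,2]) (Tr.leaf [0,2,2,2,0,1,0,2,0,2,2,2,0,1,0,2,0,2,2,2,0,1,0,2,0,2,2,2,0,1,0,2])) (Tr.node (Tr.leaf [1,0,2,2,2,2,0,1,1,1,0,2,0,2,0,2,0,2,0,2,0,2,0,2,2,2,2,2,0,1,1,1]) (Tr.leaf []))) (Tr.node (Tr.node (Tr.leaf [2,2,0,2,2,0,2,0,1,0,1,0,1,1,0,1,0,1,0,1,0,1,1,0,1,1,0,1,1,0]) (Tr.leaf [0,1,1,0,2,0,2,0,1,1,1,1,0,2,0,1,1,1,0,1,0,1,1,0,1,3,1,3,0,1,3,1,0,2,2,0,1,1,0,1,1,0,1,0,3,2,3,2])) (Tr.node (Tr.leaf [0,2,0,1,1,0,2,0,2,0,1,1,0,2,0,1,0,2,2,0,1,0,1,0,2,2,0,1,0,1,0,2]) (Tr.leaf []))))))) (Tr.node (Tr.node (Tr.node (Tr.node (Tr.node (Tr.node (Tr.leaf [2,0,1,0,2,0,1,0,2,0,1,0,2,0,1,0,2,0,1,0]) (Tr.leaf [2,2,0,2,0,1,0,2,0,2,2,0,2,2,0,2,2,0,2,2,2,2,2,2,2,2,2,2,2,2,2,0])) (Tr.node (Tr.leaf [0,1,0,1,1,0,1,1,0,1,1,0,2,2,2,2,2,2,2,2,2,2,2,0,2,2,0,2,0,1]) (Tr.leaf [1,0,2,2,2,2,0,2,2,0,2,0,2,0,2,0,1,1,0,2,2,0,3,1,1,0,2,0,2,0,2,2,0,2,3,2,0,2,0,2,3,0,1,1,1,0]))) (Tr.node (Tr.node (Tr.leaf [2,2,0,2,2,0,2,0,1,0,1,0,1,0,2,0,2,0,2,0,1,0,1,1,0,1,1,0]) (Tr.leaf [2,2,0,2,2,2,0,2,2,2,0,2,2,2,0,2,2,2,0,2,2,2,0,2,2,2,0,2,2,2,0,2])) (Tr.node (Tr.leaf [0,1,1,1,0,2,0,1,0,2,0,1,0,2,2,0,1,0,1,0,2,0,1,1,0,1,0,1,0,1,0,1]) (Tr.leaf [])))) (Tr.node (Tr.node (Tr.node (Tr.leaf [1,0,2,0,2,0,1,1,0,2,0,1,0,2,0,1,0,2,2,0,1,0,1,0,2,0]) (Tr.leaf [0,2,2,2,2,2,0,2,0,1,0,2,0,1,0,1,1,1,1,1,0,1,1,0,2,2,0,1,1,0,2,2])) (Tr.node (Tr.leaf [1,0,2,0,1,1,1,0,2,0,2,2,2,2,0,1,0,2,0,1,1,1,1,0,1,0,2,2,2,0]) (Tr.leaf []))) (Tr.node (Tr.node (Tr.leaf [0,2,0,2,2,0,2,0,2,0,2,0,2,0,2,0,2,0,2,2,0,2,0,2,0,2,0,2,0,2]) (Tr.leaf [2,0,2,2,0,2,0,2,2,2,2,2,2,0,2,2,0,1,0,2,2,2,0,3,1,3,0,2,2,0,1,0,3,2,3,0,2])) (Tr.node (Tr.leaf [1,1,0,2,0,1,0,1,0,1,1,1,0,2,2,0,2,2,2,0,2,2,0,1,1,0,2,2,2,2,0,1]) (Tr.leaf []))))) (Tr.node (Tr.node (Tr.node (Tr.node (Tr.leaf [0,1,1,0,1,1,0,1,1,0,1,1,0,1,1,0,1,1,0,1,1,0,1,1]) (Tr.leaf [2,2,2,2,2,0,2,0,1,0,1,1,0,2,2,2,2,2,2,2,2,0,2,0,1,0,1,1,0,2,2,2])) (Tr.node (Tr.leaf [0,2,2,0,2,2,2,0,2,2,0,2,2,0,1,1,1,1,0,2,0,2,0,1,0,1,0,1,1,1]) (Tr.leaf [3,3]))) (Tr.node (Tr.node (Tr.leaf [0,2,0,2,0,1,0,1,0,2,2,0,1,1,0,2,0,2,0,1,0,1,0,2,2,0,1,1]) (Tr.leaf [2,0,1,0,1,0,1,1,0,2,2,3,2,0,2,0,2,0,1,1,0,2,0,2,0,1,3,2,0,1,1,0,2,0,2,2,0])) (Tr.node (Tr.leaf [0,1,1,1,0,2,0,1,0,2,0,1,0,2,2,2,0,1,0,1,0,1,0,2,0,1,0,2,0,2,0,2]) (Tr.leaf [])))) (Tr.node (Tr.node (Tr.node (Tr.leaf [1,1,1,0,2,2,0,2,0,1,0,2,0,2,2,0,2,2,0,2,2,0,1,1,1,1]) (Tr.leaf [1,1,0,2,0,1,0,2,0,2,2,0,2,2,0,2,2,0,1,1,1,0,1,1,1,1,0,2,2,2,2,0])) (Tr.node (Tr.leaf [0,1,1,1,1,0,2,2,2,2,0,1,1,1,1,1,0,1,0,1,0,1,0,1,0,1,0,1,0,2,2,2]) (Tr.leaf []))) (Tr.node (Tr.node (Tr.leaf [1,0,2,0,1,0,2,0,2,2,0,2,0,2,0,2,0,2,0,2,2,0,1,0,2,0,2,0,1,0]) (Tr.leaf [3,2,0,1,0,1,1,1,1,0,2,0,1,0,2,0,1,1,0,1,0,2,2,3,1,0,1,0,1,1,1,0,2,3,1,0,2])) (Tr.node (Tr.leaf [0,2,2,0,1,0,1,1,1,0,2,0,1,0,1,1,1,0,2,0,2,2,2,2,2,2,2,2,0,2,0,2]) (Tr.leaf [])))))) (Tr.node (Tr.node (Tr.node (Tr.node (Tr.node (Tr.leaf [2,2,2,2,2,2,2,2,2,2,2,2,2,2,2,2,2,2,2,2]) (Tr.leaf [2,2,2,0,2,2,2,2,0,1,1,1,1,0,2,2,0,1,1,0,1,1,0,1,0,2,0,1,0,1,1,0])) (Tr.node (Tr.leaf [1,0,1,1,1,0,2,2,0,2,0,1,0,2,0,1,0,1,1,0,2,2,2,0,2,0,2,0,1,0]) (Tr.leaf [2,2,2,0,2,2,2,0,2,0,2,0,2,0,1,1,1,0,2,2,0,1,0,3,1,0,2,2,2,2,0,2,2,3,1,0,1,0,2,2,0,1,1,1,0,2,3]))) (Tr.node (Tr.node (Tr.leaf [2,2,0,2,0,1,0,1,0,1,1,0,1,1,0,1,1,0,1,1,1,1,1,1,1,1,1,0]) (Tr.leaf [1,0,2,0,3,2,2,2,2,2,3,2,2,0,2,0,1,0,2,0,1,1,0,2,0])) (Tr.node (Tr.leaf [0,1,0,1,0,1,0,2,0,1,1,0,1,0,1,0,1,0,1,1,1,0,1,0,2,0,1,0,2,0,2,2]) (Tr.leaf [])))) (Tr.node (Tr.node (Tr.node (Tr.leaf [2,2,2,2,2,0,1,1,0,1,1,0,1,1,0,1,0,2,0,1,0,1,1,0,2,2]) (Tr.leaf [1,0,2,0,1,1,1,0,2,2,2,2,2,2,2,0,1,1,0,1,1,0,1,1,1,0,2,0,1,0,2,0])) (Tr.node (Tr.leaf [2,2,2,0,1,1,1,1,0,2,2,2,0,1,0,1,0,1,0,1,0,1,0,1,0,1,1,1,1,1,0,2]) (Tr.leaf []))) (Tr.node (Tr.node (Tr.leaf [0,2,0,1,0,2,2,0,2,0,2,0,2,0,2,0,2,0,2,2,0,1,0,2,0,1,0,2,0,1]) (Tr.leaf [2,0,2,0,2,3,1,1,0,2,0,2,2,0,1,0,2,0,1,0,2,2,2,2,0,2,0,1,3,1,0,2,3,1,0,2,2])) (Tr.node (Tr.leaf [0,1,0,1,1,1,1,1,1,1,1,0,1,0,2,2,2,0,2,0,1,0,2,2,2,0,2,0,1,1,0,1]) (Tr.leaf []))))) (Tr.node (Tr.node (Tr.node (Tr.node (Tr.leaf [2,2,2,0,1,1,1,1,1,0,2,2,2,2,2,0,1,1,1,1,1,0,2,2]) (Tr.leaf [2,0,2,2,2,2,0,1,0,1,1,1,0,1,0,2,2,2,2,2,0,1,1,0,1,0,2,0,1,1,1,0])) (Tr.node (Tr.leaf [2,0,1,0,1,0,2,2,2,2,0,1,1,0,1,1,0,1,1,1,0,1,1,0,2,2,2,0,2,0]) (Tr.leaf []))) (Tr.node (Tr.node (Tr.leaf [1,0,2,0,2,2,0,1,1,0,1,0,2,0,1,0,2,0,2,2,0,1,1,0,1,0,2,0]) (Tr.leaf [0,1,0,2,0,1,0,2,2,2,0,1,1,0,2,2,0,1,3,1,3,2,2,2,2,3,2,3,2,0,1,1])) (Tr.node (Tr.leaf [1,0,1,1,1,1,0,1,1,0,1,1,0,1,1,0,1,0,2,0,2,0,2,2,0,2,0,2,0,1,0,1]) (Tr.leaf [])))) (Tr.node (Tr.node (Tr.node (Tr.leaf [2,2,0,1,1,1,1,1,0,2,0,2,2,2,2,0,1,1,1,1,0,1,0,2,2,2]) (Tr.leaf [1,1,0,2,2,2,2,2,0,1,0,2,0,1,1,1,1,1,0,2,2,2,2,2,0,1,0,2,0,1,1,1])) (Tr.node (Tr.leaf [0,2,2,2,2,2,0,1,1,1,1,0,2,2,2,2,0,1,1,1,0,2,0,2,0,2,0,2,0,2,0,2]) (Tr.leaf []))) (Tr.node (Tr.node (Tr.leaf [2,0,2,0,2,0,2,2,0,2,0,2,0,1,0,1,1,0,1,1,0,2,2,0,2,2,0,2,2,0]) (Tr.leaf [2,0,1,1,0,2,3,2,0,3,2,3,2,0,2,2,0,2,0,2,2,2,0,1,0,2,2,2,2,0,1,0,1,0,2,2,0,1,3,1,3,0,2,0,2,2,0,2])) (Tr.node (Tr.leaf [0,1,0,2,0,1,1,1,1,1,1,0,1,0,1,1,0,1,0,2,0,2,2,0,2,0,2,2,2,2,2,2]) (Tr.leaf []))))))))) (Tr.node (Tr.node (Tr.node (Tr.node (Tr.node (Tr.node (Tr.node (Tr.node (Tr.leaf [0,1,0,1,0,1,0,1,0,1,0,1,0,1,0,1]) (Tr.leaf [1,0,1,1,0,1,1,1,1,1,1,1,1,1,1,1,1,1,0,1,1,0,1,1,0,1,1,0,1,0,2,0])) (Tr.node (Tr.leaf [0,2,0,2,0,2,0,1,1,0,1,0,2,0,1,0,2,0,2,2,0,1,0,1,0,1,0,2,0,1]) (Tr.leaf [1,3,1,0,1,1,0,1,0,1,0,2,2,3,0,1,1,0,2,2,0,1,0,1,0,1,0,1,1,0,1,1,1,1,0,2,0,2,2,2,0,3,1,0,1,0]))) (Tr.node (Tr.node (Tr.leaf [2,0,1,1,1,1,1,0,2,0,2,2,2,2,0,1,1,1,1,0,1,0,2,2,2,2]) (Tr.leaf [1,1,0,2,2,2,0,2,2,0,1,1,0,2,2,0,2,2,0,1,1,0,1,1,0,2,2,0,1,1,0,1])) (Tr.node (Tr.leaf [1,1,1,1,1,1,1,1,1,0,2,2,0,2,2,0,2,0,2,0,2,0,2,0,1,0,1,1,0,1,1,0]) (Tr.leaf [])))) (Tr.node (Tr.node (Tr.node (Tr.leaf [1,0,1,1,1,1,0,1,1,1,1,0,1,1,1,1,0,1,1,1,1,0,1,1,1]) (Tr.leaf [0,1,1,1,1,1,0,2,0,2,2,2,0,2,0,1,1,1,1,0,1,0,2,2,2,0,1,0,2,0,2,2])) (Tr.node (Tr.leaf [0,2,2,0,1,0,1,0,2,0,2,0,1,0,1,0,2,0,2,0,1,1,0,2,0,2,0,1,0,1]) (Tr.leaf []))) (Tr.node (Tr.node (Tr.leaf [0,1,0,2,2,0,1,1,0,2,0,1,0,2,0,1,0,2,2,0,1,1,0,2,0,1,0,2]) (Tr.leaf [3,1,1,1,1,3,2,3,2,0,1,1,0,2,2,0,1,1,1,0,2,0,1,0,2,0,2,2,0,1,3,1])) (Tr.node (Tr.leaf [1,0,2,0,2,0,2,2,0,2,0,2,0,1,0,1,1,0,1,1,1,1,0,1,1,0,1,1,0,1,1,0]) (Tr.leaf []))))) (Tr.node (Tr.node (Tr.node (Tr.node (Tr.leaf [0,2,0,1,0,1,0,2,0,1,0,2,0,2,0,1,0,1,0,2,0,1,0,2]) (Tr.leaf [0,2,0,1,0,1,1,0,2,2,2,0,2,2,2,2,0,1,1,1,1,0,2,2,0,1,1,0,1,1,0,1])) (Tr.node (Tr.leaf [1,0,2,2,2,0,2,0,2,0,1,0,1,0,1,1,1,0,2,2,0,2,0,1,0,2,0,1,0,1]) (Tr.leaf [1,0,2,2,2,0,1,1,0,2,0,2,3,1,1,0,1,1,1,1,0,2,3,0,2,0,1,1,0,2,2,2,0,1,0,1,0,1,0,1,1,1,0,1,1,1,3]))) (Tr.node (Tr.node (Tr.leaf [2,2,0,2,2,0,2,2,0,2,2,0,2,0,2,0,1,0,1,1,0,2,2,2,2,2,2,2]) (Tr.leaf [2,0,2,0,2,0,1,1,0,2,0,2,0,1,3,2,0,1,1,0,2,0,2,2,0,2,0,1,0,1,0,1,1,0,2,2,3])) (Tr.node (Tr.leaf [1,0,2,0,2,2,2,0,2,0,2,0,2,0,2,2,0,1,0,2,0,2,0,2,0,1,1,0,1,0,2,0]) (Tr.leaf [])))) (Tr.node (Tr.node (Tr.node (Tr.leaf [1,0,1,0,2,0,1,0,1,1,0,2,2,2,2,2,2,2,0,1,1,0,1,1,0,1]) (Tr.leaf [0,1,1,0,1,1,0,1,1,0,1,0,2,0,1,0,2,2,0,1,1,1,1,0,2,2,2,2,0,2,2,2])) (Tr.node (Tr.leaf [2,2,0,1,1,1,1,0,2,2,2,2,2,0,2,0,2,0,2,0,2,0,2,0,2,0,1,1,1,0,2,2]) (Tr.leaf []))) (Tr.node (Tr.node (Tr.leaf [1,0,1,0,1,0,1,1,0,1,0,2,0,1,0,2,0,2,0,1,0,1,0,2,0,1,1,0,1,0]) (Tr.leaf [0,1,0,1,1,1,1,0,2,0,1,0,2,0,1,1,0,1,0,2,2,3,1,0,1,0,1,1,1,0,2,3,1,0,2,3,2])) (Tr.node (Tr.leaf [2,2,0,2,0,1,1,0,1,0,1,0,1,1,1,1,1,1,1,1,0,1,0,2,2,2,0,2,0,1,0,2]) (Tr.leaf [])))))) (Tr.node (Tr.node (Tr.node (Tr.node (Tr.node (Tr.leaf [0,1,1,1,1,0,2,2,2,2,0,1,1,1,1,0,2,2,2,2]) (Tr.leaf [0,2,2,0,2,0,1,1,0,1,0,2,0,1,0,2,0,2,2,0,1,0,1,1,0,2,0,1,0,2,0,1])) (Tr.node (Tr.leaf [0,2,2,0,2,0,1,0,1,0,1,1,0,1,1,0,1,1,0,2,2,2,2,2,2,2,2,2,2,2]) (Tr.leaf [0,2,0,2,3,0,1,1,1,0,1,0,2,2,2,2,0,2,2,0,2,0,2,0,2,0,1,1,0,2,2,0,3,1,1,0,2,0,2,0,2,2,0,2,3,2]))) (Tr.node (Tr.node (Tr.leaf [0,1,0,1,0,1,1,0,1,1,0,1,1,0,1,1,1,1,1,1,1,1,1,0,2,2,0,2]) (Tr.leaf [2,0,1,0,2,2,0,1,0,2,0,1,0,1,1,3,1,1,1,1,1,3,0,1,0])) (Tr.node (Tr.leaf [0,2,0,1,1,0,2,0,1,0,2,0,1,0,2,2,2,0,2,0,2,0,2,0,2,0,2,2,0,1,0,2]) (Tr.leaf [])))) (Tr.node (Tr.node (Tr.node (Tr.leaf [2,0,1,0,2,2,0,1,0,1,0,2,0,1,0,2,0,2,0,1,1,0,2,0,1,0]) (Tr.leaf [1,1,1,1,1,1,1,0,2,2,2,0,1,0,2,0,1,0,2,0,1,0,2,2,2,0,2,2,0,2,2,0])) (Tr.node (Tr.leaf [1,1,0,1,0,2,2,2,0,1,0,2,0,1,1,1,0,2,0,2,2,2,2,0,1,0,2,0,1,1]) (Tr.leaf []))) (Tr.node (Tr.node (Tr.leaf [1,0,1,0,1,0,1,1,0,2,0,1,0,2,0,1,0,2,0,1,0,2,0,1,1,0,1,0,1,0]) (Tr.leaf [1,3,0,2,0,1,1,0,3,2,3,0,1,1,1,0,2,0,1,1,0,1,1,1,1,1,1,0,1,0,1,1,0,1,1,0,3])) (Tr.node (Tr.leaf [0,2,2,2,0,2,0,2,0,1,0,2,2,2,0,1,1,1,1,0,2,2,0,1,1,0,1,1,1,0,1,1]) (Tr.leaf []))))) (Tr.node (Tr.node (Tr.node (Tr.node (Tr.leaf [2,0,2,2,0,2,2,0,2,2,0,2,2,0,2,2,0,2,2,0,2,2,0,2]) (Tr.leaf [0,2,2,0,2,0,1,0,1,1,1,1,1,1,1,1,0,2,2,0,2,0,1,0,1,1,1,1,1,1,1,1])) (Tr.node (Tr.leaf [1,0,2,0,2,0,1,0,1,0,1,1,1,0,2,2,0,2,2,2,0,2,2,0,2,2,0,1,1,1]) (Tr.leaf []))) (Tr.node (Tr.node (Tr.leaf [2,2,0,2,0,1,0,1,1,1,1,0,2,2,2,2,0,2,0,1,0,1,1,1,1,0,2,2]) (Tr.leaf [0,2,2,0,1,0,1,0,1,3,1,1,0,2,2,0,2,0,2,0,1,0,1,1,0,1,0,2,2,0,1,3,2,0,1,0,1])) (Tr.node (Tr.leaf [1,0,1,1,0,1,0,1,0,2,0,2,2,0,2,2,0,2,2,0,2,2,2,2,0,2,2,0,2,0,1,0]) (Tr.leaf [])))) (Tr.node (Tr.node (Tr.node (Tr.leaf [1,1,1,0,2,2,2,2,0,2,0,1,1,1,1,1,0,2,2,2,2,2,0,1,0,1]) (Tr.leaf [0,2,0,1,1,1,0,1,0,2,0,1,1,1,0,1,0,2,0,1,1,1,0,1,0,2,0,1,1,1,0,1])) (Tr.node (Tr.leaf [2,2,2,0,1,1,1,1,0,2,2,2,2,0,1,1,1,0,2,0,2,0,2,0,2,0,2,0,2,0,2,2]) (Tr.leaf []))) (Tr.node (Tr.node (Tr.leaf [1,1,0,1,1,0,1,1,0,2,2,0,2,2,0,2,0,1,0,1,0,1,1,0,1,0,1,0,1,0]) (Tr.leaf [0,3,2,3,2,0,1,1,0,2,0,2,0,1,1,1,1,0,2,0,1,1,1,0,1,0,1,1,0,1,3,1,3,0,1,3,1,0,2,2,0,1,1,0,1,1,0,1])) (Tr.node (Tr.leaf [2,2,0,1,0,1,0,2,0,2,0,1,1,0,2,0,2,0,1,1,0,2,0,1,0,2,2,0,1,0,1,0]) (Tr.leaf []))))))) (Tr.node (Tr.node (Tr.node (Tr.node (Tr.node (Tr.node (Tr.leaf [1,0,2,0,1,0,2,0,1,0,2,0,1,0,2,0,1,0,2,0]) (Tr.leaf [2,2,2,2,2,2,2,2,2,2,2,2,0,2,2,0,2,0,1,0,2,0,2,2,0,2,2,0,2,2,0,2])) (Tr.node (Tr.leaf [0,2,0,2,2,0,1,0,1,0,1,0,2,0,1,0,2,0,2,0,2,0,1,1,0,1,0,2,0,1]) (Tr.leaf [1,1,1,0,1,0,2,2,2,2,0,2,2,0,2,0,2,0,2,0,1,1,0,2,2,0,3,1,1,0,2,0,2,0,2,2,0,2,3,2,0,2,0,2,3,0]))) (Tr.node (Tr.node (Tr.leaf [0,1,1,0,2,2,0,2,2,0,2,0,1,0,1,0,1,0,2,0,2,0,2,0,1,0,1,1]) (Tr.leaf [0,1,1,1,0,1,1,1,0,1,1,1,0,1,1,1,0,1,1,1,0,1,1,1,0,1,1,1,0,1,1,1])) (Tr.node (Tr.leaf [0,1,0,1,0,1,1,1,0,2,0,1,0,2,0,1,0,2,2,0,1,0,1,0,2,0,1,1,0,1,0,1]) (Tr.leaf [])))) (Tr.node (Tr.node (Tr.node (Tr.leaf [0,1,0,2,0,1,0,2,0,2,0,1,1,0,2,0,1,0,2,0,1,0,2,2,0,1]) (Tr.leaf [1,0,2,2,0,2,2,2,2,2,0,2,0,1,0,2,0,1,0,1,1,1,1,1,0,1,1,0,2,2,0,1])) (Tr.node (Tr.leaf [1,1,0,1,0,2,0,1,0,2,0,2,2,0,1,1,1,0,2,0,1,0,2,0,1,0,2,2,2,0]) (Tr.leaf []))) (Tr.node (Tr.node (Tr.leaf [1,0,1,0,1,0,1,1,0,1,0,1,0,1,0,1,0,1,0,1,0,1,1,0,1,0,1,0,1,0]) (Tr.leaf [2,3,0,2,2,0,2,2,0,2,0,2,2,2,2,2,2,0,2,2,0,1,0,2,2,2,0,3,1,3,0,2,2,0,1,0,3])) (Tr.node (Tr.leaf [2,2,2,0,1,1,1,0,2,0,1,0,1,0,1,1,1,0,2,2,0,2,2,2,0,2,2,0,1,1,0,2]) (Tr.leaf []))))) (Tr.node (Tr.node (Tr.node (Tr.node (Tr.leaf [0,1,1,0,1,1,0,1,1,0,1,1,0,1,1,0,1,1,0,1,1,0,1,1]) (Tr.leaf [2,0,2,0,1,0,2,0,2,2,0,2,2,0,1,1,0,2,2,2,2,0,1,1,1,1,0,1,1,1,0,2])) (Tr.node (Tr.leaf [1,0,1,1,1,0,2,2,0,2,2,2,0,2,2,0,2,2,0,1,1,1,1,0,2,0,2,0,1,0]) (Tr.leaf [3,0,2,0,1,1,0,2,2,2,0,1,0,1,0,1,0,1,1,1,0,1,1,1,3,1,0,2,2,2,0,1,1,0,2,0,2,3,1,1,0,1,1,1,1,0,2]))) (Tr.node (Tr.node (Tr.leaf [0,2,0,1,0,1,0,2,2,0,1,1,0,2,0,2,0,1,0,1,0,2,2,0,1,1,0,2]) (Tr.leaf [0,2,0,2,2,0,2,0,1,0,1,0,1,1,0,2,2,3,2,0,2,0,2,0,1,1,0,2,0,2,0,1,3,2,0,1,1])) (Tr.node (Tr.leaf [2,0,2,0,2,0,1,1,1,0,2,0,1,0,2,0,1,0,2,2,2,0,1,0,1,0,1,0,2,0,1,0]) (Tr.leaf [])))) (Tr.node (Tr.node (Tr.node (Tr.leaf [1,1,1,1,1,1,1,0,2,2,0,2,0,1,0,2,0,2,2,0,2,2,0,2,2,0]) (Tr.leaf [2,2,2,2,0,1,1,0,2,0,1,0,2,0,2,2,0,2,2,0,2,2,0,1,1,1,0,1,1,1,1,0])) (Tr.node (Tr.leaf [1,0,1,0,1,0,2,2,2,0,1,1,1,1,0,2,2,2,2,0,1,1,1,1,1,0,1,0,1,0,1,0]) (Tr.leaf []))) (Tr.node (Tr.node (Tr.leaf [2,0,2,0,1,0,1,0,2,0,1,0,2,0,2,2,0,2,0,2,0,2,0,2,0,2,2,0,1,0]) (Tr.leaf [3,1,0,2,3,2,0,1,0,1,1,1,1,0,2,0,1,0,2,0,1,1,0,1,0,2,2,3,1,0,1,0,1,1,1,0,2])) (Tr.node (Tr.leaf [2,2,2,2,2,2,0,2,0,2,0,2,2,0,1,0,1,1,1,0,2,0,1,0,1,1,1,0,2,0,2,2]) (Tr.leaf [])))))) (Tr.node (Tr.node (Tr.node (Tr.node (Tr.node (Tr.leaf [1,1,1,1,1,1,1,1,1,1,1,1,1,1,1,1,1,1,1,1]) (Tr.leaf [0,2,2,0,2,0,1,0,1,1,0,2,2,0,1,1,0,2,2,0,2,0,1,0,1,1,0,2,2,0,1,1])) (Tr.node (Tr.leaf [2,2,0,2,2,0,2,0,2,0,1,0,1,1,0,1,1,1,1,1,1,1,1,1,1,1,0,2,2,0]) (Tr.leaf [1,0,2,2,0,1,1,1,0,2,3,2,2,2,0,2,2,2,0,2,0,2,0,2,0,1,1,1,0,2,2,0,1,0,3,1,0,2,2,2,2,0,2,2,3,1,0]))) (Tr.node (Tr.node (Tr.leaf [1,1,1,1,0,2,2,0,2,0,1,0,1,0,1,1,0,1,1,0,1,1,0,1,1,1,1,1]) (Tr.leaf [0,2,0,1,1,0,2,0,1,0,2,0,3,2,2,2,2,2,3,2,2,0,2,0,1])) (Tr.node (Tr.leaf [1,1,0,1,0,2,0,1,0,2,0,2,2,0,1,0,1,0,1,0,2,0,1,1,0,1,0,1,0,1,0,1]) (Tr.leaf [])))) (Tr.node (Tr.node (Tr.node (Tr.leaf [1,0,2,2,2,2,2,2,2,0,1,1,0,1,1,0,1,1,0,1,0,2,0,1,0,1]) (Tr.leaf [2,0,1,0,2,0,1,0,2,0,1,1,1,0,2,2,2,2,2,2,2,0,1,1,0,1,1,0,1,1,1,0])) (Tr.node (Tr.leaf [1,1,1,0,2,2,2,2,0,1,1,1,1,0,2,2,2,0,1,0,1,0,1,0,1,0,1,0,1,0,1,1]) (Tr.leaf []))) (Tr.node (Tr.node (Tr.leaf [0,2,0,1,0,2,0,1,0,2,2,0,2,0,2,0,2,0,2,0,2,0,2,2,0,1,0,2,0,1]) (Tr.leaf [1,0,2,2,2,0,2,0,2,3,1,1,0,2,0,2,2,0,1,0,2,0,1,0,2,2,2,2,0,2,0,1,3,1,0,2,3])) (Tr.node (Tr.leaf [0,2,0,2,0,1,0,1,0,1,1,1,0,2,2,2,0,1,0,2,0,1,0,2,0,1,1,1,0,2,2,2]) (Tr.leaf []))))) (Tr.node (Tr.node (Tr.node (Tr.node (Tr.leaf [0,2,2,2,2,2,0,1,1,1,1,1,0,2,2,2,2,2,0,1,1,1,1,1]) (Tr.leaf [1,0,2,0,1,1,1,0,2,0,2,2,2,2,0,1,0,1,1,1,0,1,0,2,2,2,2,2,0,1,1,0])) (Tr.node (Tr.leaf [0,2,2,2,0,2,0,2,0,1,0,1,0,2,2,2,2,0,1,1,0,1,1,0,1,1,1,0,1,1]) (Tr.leaf []))) (Tr.node (Tr.node (Tr.leaf [0,1,1,0,1,0,2,0,1,0,2,0,2,2,0,1,1,0,1,0,2,0,1,0,2,0,2,2]) (Tr.leaf [2,0,1,1,0,1,0,2,0,1,0,2,2,2,0,1,1,0,2,2,0,1,3,1,3,2,2,2,2,3,2,3])) (Tr.node (Tr.leaf [0,2,0,1,0,1,0,1,1,0,1,0,1,0,2,0,2,2,0,2,2,0,2,2,0,2,2,2,2,0,2,2]) (Tr.leaf [])))) (Tr.node (Tr.node (Tr.node (Tr.leaf [0,1,0,2,2,2,2,2,0,1,1,1,1,1,0,2,0,2,2,2,2,0,1,1,1,1]) (Tr.leaf [1,1,0,2,2,2,2,2,0,1,0,2,0,1,1,1,1,1,0,2,2,2,2,2,0,1,0,2,0,1,1,1])) (Tr.node (Tr.leaf [0,2,0,2,0,2,2,2,2,2,0,1,1,1,1,0,2,2,2,2,0,1,1,1,0,2,0,2,0,2,0,2]) (Tr.leaf []))) (Tr.node (Tr.node (Tr.leaf [0,2,2,0,2,2,0,2,2,0,2,0,2,0,2,0,2,2,0,2,0,2,0,1,0,1,1,0,1,1]) (Tr.leaf [2,0,2,2,0,2,2,0,1,1,0,2,3,2,0,3,2,3,2,0,2,2,0,2,0,2,2,2,0,1,0,2,2,2,2,0,1,0,1,0,2,2,0,1,3,1,3,0])) (Tr.node (Tr.leaf [0,2,2,2,2,2,2,0,1,0,2,0,1,1,1,1,1,1,0,1,0,1,1,0,1,0,2,0,2,2,0,2]) (Tr.leaf [])))))))) (Tr.node (Tr.node (Tr.node (Tr.node (Tr.node (Tr.node (Tr.node (Tr.leaf [0,2,0,2,0,2,0,2,0,2,0,2,0,2,0,2]) (Tr.leaf [1,1,1,0,1,1,0,1,1,0,1,1,0,1,0,2,0,1,0,1,1,0,1,1,1,1,1,1,1,1,1,1])) (Tr.node (Tr.leaf [0,2,0,1,0,2,0,2,2,0,1,0,1,0,1,0,2,0,1,0,2,0,2,0,2,0,1,1,0,1]) (Tr.leaf [0,1,1,0,2,2,0,1,0,1,0,1,0,1,1,0,1,1,1,1,0,2,0,2,2,2,0,3,1,0,1,0,1,3,1,0,1,1,0,1,0,1,0,2,2,3]))) (Tr.node (Tr.node (Tr.leaf [0,2,0,2,0,1,0,1,1,0,1,1,0,2,2,0,2,2,0,2,0,1,0,1,0,1,0,2]) (Tr.leaf [2,2,0,2,2,0,1,1,0,1,1,0,2,2,0,1,1,0,1,1,1,0,2,2,2,0,2,2,0,1,1,0])) (Tr.node (Tr.leaf [2,0,2,0,2,0,2,0,2,0,1,0,1,1,0,1,1,0,1,1,1,1,1,1,1,1,1,0,2,2,0,2]) (Tr.leaf [])))) (Tr.node (Tr.node (Tr.node (Tr.leaf [2,2,2,2,0,2,2,2,2,0,2,2,2,2,0,2,2,2,2,0,2,2,2,2,0]) (Tr.leaf [0,1,1,1,1,1,0,1,1,0,2,2,0,1,1,0,2,2,0,2,2,2,2,2,0,2,0,1,0,2,0,1])) (Tr.node (Tr.leaf [1,1,1,0,2,0,1,0,2,0,1,0,2,2,2,0,1,1,0,1,0,2,0,1,0,2,0,2,2,0]) (Tr.leaf []))) (Tr.node (Tr.node (Tr.leaf [2,2,0,1,1,1,1,0,1,0,2,0,2,2,2,2,0,1,1,1,1,0,1,0,2,0,2,2]) (Tr.leaf [3,1,3,0,2,2,0,1,0,3,2,3,0,2,2,0,2,2,0,2,0,2,2,2,2,2,2,0,2,2,0,1,0,2,2,2,0])) (Tr.node (Tr.leaf [2,2,2,0,2,2,0,1,1,0,2,2,2,2,0,1,1,1,0,2,0,1,0,1,0,1,1,1,0,2,2,0]) (Tr.leaf []))))) (Tr.node (Tr.node (Tr.node (Tr.node (Tr.leaf [2,0,2,0,1,0,1,0,2,0,1,0,2,0,2,0,1,0,1,0,2,0,1,0]) (Tr.leaf [1,0,2,2,2,2,0,1,1,1,1,0,1,1,1,0,2,2,0,2,0,1,0,2,0,2,2,0,2,2,0,1])) (Tr.node (Tr.leaf [0,2,2,0,2,0,1,0,2,0,1,0,1,1,0,2,2,2,0,2,0,2,0,1,0,1,0,1,1,1]) (Tr.leaf [3,1,1,0,1,1,1,1,0,2,3,0,2,0,1,1,0,2,2,2,0,1,0,1,0,1,0,1,1,1,0,1,1,1,3,1,0,2,2,2,0,1,1,0,2,0,2]))) (Tr.node (Tr.node (Tr.leaf [2,0,2,0,1,0,1,1,0,2,2,2,2,2,2,2,2,2,0,2,2,0,2,2,0,2,2,0]) (Tr.leaf [2,0,2,0,1,3,2,0,1,1,0,2,0,2,2,0,2,0,1,0,1,0,1,1,0,2,2,3,2,0,2,0,2,0,1,1,0])) (Tr.node (Tr.leaf [0,2,0,1,0,1,0,1,0,2,0,1,0,2,0,2,0,2,0,1,0,1,0,1,0,2,0,1,0,2,0,2]) (Tr.leaf [])))) (Tr.node (Tr.node (Tr.node (Tr.leaf [2,2,0,2,2,0,2,2,0,1,1,1,1,1,1,1,0,2,2,0,2,0,1,0,2,0]) (Tr.leaf [2,0,2,2,0,1,1,1,0,1,1,1,1,0,2,2,2,2,0,1,1,0,2,0,1,0,2,0,2,2,0,2])) (Tr.node (Tr.leaf [0,2,0,2,0,2,0,2,0,2,0,1,1,1,0,2,2,2,2,0,1,1,1,1,0,2,2,2,2,2,0,2]) (Tr.leaf []))) (Tr.node (Tr.node (Tr.leaf [0,2,0,2,0,1,0,1,0,2,0,1,1,0,1,0,1,0,1,0,1,0,1,1,0,1,0,2,0,1]) (Tr.leaf [1,0,1,0,1,1,1,0,2,3,1,0,2,3,2,0,1,0,1,1,1,1,0,2,0,1,0,2,0,1,1,0,1,0,2,2,3])) (Tr.node (Tr.leaf [1,0,2,0,1,0,1,1,1,0,2,0,2,2,2,2,2,2,2,2,0,2,0,2,0,2,2,0,1,0,1,1]) (Tr.leaf [])))))) (Tr.node (Tr.node (Tr.node (Tr.node (Tr.node (Tr.leaf [1,1,1,1,0,2,2,2,2,0,1,1,1,1,0,2,2,2,2,0]) (Tr.leaf [1,0,2,2,0,1,1,0,2,2,0,2,0,1,0,1,1,0,2,2,0,1,1,0,2,2,0,2,0,1,0,1])) (Tr.node (Tr.leaf [1,1,1,1,1,1,1,1,0,2,2,0,2,2,0,2,2,0,2,0,2,0,1,0,1,1,0,1,1,1]) (Tr.leaf [2,2,2,2,0,2,2,3,1,0,1,0,2,2,0,1,1,1,0,2,3,2,2,2,0,2,2,2,0,2,0,2,0,2,0,1,1,1,0,2,2,0,1,0,3,1,0]))) (Tr.node (Tr.node (Tr.leaf [0,1,1,0,1,1,1,1,1,1,1,1,1,0,2,2,0,2,0,1,0,1,0,1,1,0,1,1]) (Tr.leaf [0,1,1,3,1,1,1,1,1,3,0,1,0,2,0,1,0,2,2,0,1,0,2,0,1])) (Tr.node (Tr.leaf [2,0,2,0,2,0,2,2,0,1,0,2,0,2,0,1,1,0,2,0,1,0,2,0,1,0,2,2,2,0,2,0]) (Tr.leaf [])))) (Tr.node (Tr.node (Tr.node (Tr.leaf [0,2,2,0,1,0,1,0,2,0,1,0,2,0,2,0,1,1,0,2,0,1,0,2,0,1]) (Tr.leaf [0,2,2,2,2,2,2,2,0,1,1,0,1,1,0,1,1,1,0,2,0,1,0,2,0,1,0,2,0,1,1,1])) (Tr.node (Tr.leaf [0,2,2,0,1,1,0,2,2,0,1,1,0,2,2,0,1,1,0,2,2,0,1,1,0,2,2,0,1,1]) (Tr.leaf []))) (Tr.node (Tr.node (Tr.leaf [0,2,0,1,0,2,0,1,1,0,1,0,1,0,1,0,1,0,1,0,1,1,0,2,0,1,0,2,0,1]) (Tr.leaf [3,2,3,0,1,1,1,0,2,0,1,1,0,1,1,1,1,1,1,0,1,0,1,1,0,1,1,0,3,1,3,0,2,0,1,1,0])) (Tr.node (Tr.leaf [0,1,0,2,0,1,0,2,0,1,1,1,0,2,2,2,0,2,0,2,0,1,0,1,0,1,1,1,0,2,2,2]) (Tr.leaf []))))) (Tr.node (Tr.node (Tr.node (Tr.node (Tr.leaf [2,2,2,2,2,0,1,1,1,1,1,0,2,2,2,2,2,0,1,1,1,1,1,0]) (Tr.leaf [0,1,0,2,2,2,2,2,0,1,1,0,1,0,2,0,1,1,1,0,2,0,2,2,2,2,0,1,0,1,1,1])) (Tr.node (Tr.leaf [0,1,1,0,1,1,0,1,1,1,0,1,1,0,2,2,2,0,2,0,2,0,1,0,1,0,2,2,2,2]) (Tr.leaf []))) (Tr.node (Tr.node (Tr.leaf [1,1,1,0,2,2,2,2,0,2,0,1,0,1,1,1,1,0,2,2,2,2,0,2,0,1,0,1]) (Tr.leaf [3,2,2,2,2,3,2,3,2,0,1,1,0,1,0,2,0,1,0,2,2,2,0,1,1,0,2,2,0,1,3,1])) (Tr.node (Tr.leaf [2,0,2,2,0,2,2,0,2,2,2,2,0,2,2,0,2,0,1,0,1,0,1,1,0,1,0,1,0,2,0,2]) (Tr.leaf [])))) (Tr.node (Tr.node (Tr.node (Tr.leaf [0,1,1,1,1,1,0,2,2,2,2,2,0,1,0,1,1,1,1,0,2,2,2,2,0,2]) (Tr.leaf [0,2,0,2,2,2,0,1,0,2,0,2,2,2,0,1,0,2,0,2,2,2,0,1,0,2,0,2,2,2,0,1])) (Tr.node (Tr.leaf [2,0,1,1,1,0,2,0,2,0,2,0,2,0,2,0,2,0,2,2,2,2,2,0,1,1,1,1,0,2,2,2]) (Tr.leaf []))) (Tr.node (Tr.node (Tr.leaf [2,0,1,0,1,0,1,1,0,1,0,1,0,1,0,1,1,0,1,1,0,1,1,0,2,2,0,2,2,0]) (Tr.leaf [0,1,3,1,3,0,1,3,1,0,2,2,0,1,1,0,1,1,0,1,0,3,2,3,2,0,1,1,0,2,0,2,0,1,1,1,1,0,2,0,1,1,1,0,1,0,1,1])) (Tr.node (Tr.leaf [1,1,0,1,0,2,0,2,2,0,2,0,2,2,2,2,2,2,0,1,0,2,0,1,1,1,1,1,1,0,1,0]) (Tr.leaf []))))))) (Tr.node (Tr.node (Tr.node (Tr.node (Tr.node (Tr.node (Tr.leaf [1,1,1,0,2,2,2,2,0,1,1,1,1,0,2,2,2,2,0,1]) (Tr.leaf [1,0,1,1,0,2,0,1,0,2,0,1,0,2,2,0,2,0,1,1,0,1,0,2,0,1,0,2,0,2,2,0])) (Tr.node (Tr.leaf [0,1,1,0,2,2,2,2,2,2,2,2,2,2,2,0,2,2,0,2,0,1,0,1,0,1,1,0,1,1]) (Tr.leaf [1,0,2,0,2,0,2,2,0,2,3,2,0,2,0,2,3,0,1,1,1,0,1,0,2,2,2,2,0,2,2,0,2,0,2,0,2,0,1,1,0,2,2,0,3,1]))) (Tr.node (Tr.node (Tr.leaf [2,0,2,0,1,0,1,0,1,0,2,0,2,0,2,0,1,0,1,1,0,1,1,0,2,2,0,2]) (Tr.leaf [1,1,1,1,3,0,1,0,2,0,1,0,2,2,0,1,0,2,0,1,0,1,1,3,1])) (Tr.node (Tr.leaf [0,2,0,1,0,2,2,0,1,0,1,0,2,0,1,1,0,1,0,1,0,1,0,1,0,1,1,1,0,2,0,1]) (Tr.leaf [])))) (Tr.node (Tr.node (Tr.node (Tr.leaf [0,1,1,0,2,0,1,0,2,0,1,0,2,2,0,1,0,1,0,2,0,1,0,2,0,2]) (Tr.leaf [0,1,0,2,0,1,0,1,1,1,1,1,0,1,1,0,2,2,0,1,1,0,2,2,0,2,2,2,2,2,0,2])) (Tr.node (Tr.leaf [0,2,0,2,2,2,2,0,1,0,2,0,1,1,1,1,0,1,0,2,2,2,0,1,0,2,0,1,1,1]) (Tr.leaf []))) (Tr.node (Tr.node (Tr.leaf [0,2,0,2,0,2,2,0,2,0,2,0,2,0,2,0,2,0,2,0,2,2,0,2,0,2,0,2,0,2]) (Tr.leaf [2,0,3,1,3,0,2,2,0,1,0,3,2,3,0,2,2,0,2,2,0,2,0,2,2,2,2,2,2,0,2,2,0,1,0,2,2])) (Tr.node (Tr.leaf [2,2,0,1,1,1,1,0,2,2,0,1,1,0,1,1,1,0,1,1,0,2,2,2,0,2,0,2,0,1,0,2]) (Tr.leaf []))))) (Tr.node (Tr.node (Tr.node (Tr.node (Tr.leaf [0,2,2,0,2,2,0,2,2,0,2,2,0,2,2,0,2,2,0,2,2,0,2,2]) (Tr.leaf [0,1,1,0,2,2,2,2,2,2,2,2,0,2,0,1,0,1,1,0,2,2,2,2,2,2,2,2,0,2,0,1])) (Tr.node (Tr.leaf [0,2,2,0,2,2,0,1,1,1,1,0,2,0,2,0,1,0,1,0,1,1,1,0,2,2,0,2,2,2]) (Tr.leaf []))) (Tr.node (Tr.node (Tr.leaf [1,0,2,0,2,0,1,0,1,0,2,2,0,1,1,0,2,0,2,0,1,0,1,0,2,2,0,1]) (Tr.leaf [0,2,2,0,2,0,2,0,1,0,1,1,0,1,0,2,2,0,1,3,2,0,1,0,1,0,2,2,0,1,0,1,0,1,3,1,1])) (Tr.node (Tr.leaf [2,0,1,0,2,2,2,0,1,0,1,0,1,0,2,0,1,0,2,0,2,0,2,0,1,1,1,0,2,0,1,0]) (Tr.leaf [])))) (Tr.node (Tr.node (Tr.node (Tr.leaf [2,0,2,0,1,0,2,0,2,2,0,2,2,0,2,2,0,1,1,1,1,1,1,1,0,2]) (Tr.leaf [2,0,1,0,2,2,2,0,1,1,1,0,2,0,1,0,2,0,1,0,2,2,2,0,1,1,1,0,2,0,1,0])) (Tr.node (Tr.leaf [1,0,2,2,2,2,0,1,1,1,1,1,0,1,0,1,0,1,0,1,0,1,0,1,0,2,2,2,0,1,1,1]) (Tr.leaf []))) (Tr.node (Tr.node (Tr.leaf [2,0,2,0,2,0,2,0,2,2,0,1,0,2,0,2,0,1,0,1,0,2,0,1,0,2,0,2,2,0]) (Tr.leaf [1,3,1,0,2,2,0,1,1,0,1,1,0,1,0,3,2,3,2,0,1,1,0,2,0,2,0,1,1,1,1,0,2,0,1,1,1,0,1,0,1,1,0,1,3,1,3,0])) (Tr.node (Tr.leaf [0,2,0,2,0,1,1,0,2,0,2,0,1,1,0,2,0,1,0,2,2,0,1,0,1,0,2,2,0,1,0,1]) (Tr.leaf [])))))) (Tr.node (Tr.node (Tr.node (Tr.node (Tr.node (Tr.leaf [1,0,1,0,2,0,1,0,2,0,2,0,1,0,1,0,2,0,1,0,2,0,2,0]) (Tr.leaf [2,0,1,1,1,1,0,2,2,0,1,1,0,1,1,0,1,0,2,0,1,0,1,1,0,2,2,2,0,2,2,2])) (Tr.node (Tr.leaf [0,2,2,0,2,0,1,0,2,0,1,0,1,1,0,2,2,2,0,2,0,2,0,1,0,1,0,1,1,1]) (Tr.leaf [2,2,0,2,0,2,0,2,0,1,1,1,0,2,2,0,1,0,3,1,0,2,2,2,2,0,2,2,3,1,0,1,0,2,2,0,1,1,1,0,2,3,2,2,2,0,2]))) (Tr.node (Tr.node (Tr.leaf [1,1,0,2,2,2,2,2,2,2,2,2,0,2,2,0,2,2,0,2,2,0,2,0,2,0,1,0]) (Tr.leaf [3,2,2,2,2,2,3,2,2,0,2,0,1,0,2,0,1,1,0,2,0,1,0,2,0])) (Tr.node (Tr.leaf [2,0,1,1,0,1,0,1,0,1,0,1,1,1,0,1,0,2,0,1,0,2,0,2,2,0,1,0,1,0,1,0]) (Tr.leaf [])))) (Tr.node (Tr.node (Tr.node (Tr.leaf [2,0,1,1,0,1,1,0,1,1,0,1,0,2,0,1,0,1,1,0,2,2,2,2,2,2]) (Tr.leaf [2,2,0,1,1,1,1,0,2,2,2,2,0,2,2,2,0,1,1,0,1,1,0,1,1,0,1,0,2,0,1,0])) (Tr.node (Tr.leaf [1,1,1,0,2,2,2,0,1,0,1,0,1,0,1,0,1,0,1,0,1,1,1,1,1,0,2,2,2,2,0,1]) (Tr.leaf []))) (Tr.node (Tr.node (Tr.leaf [0,2,0,2,0,2,0,2,2,0,1,0,2,0,1,0,2,0,1,0,2,0,1,0,2,2,0,2,0,2]) (Tr.leaf [1,0,2,0,2,2,0,1,0,2,0,1,0,2,2,2,2,0,2,0,1,3,1,0,2,3,1,0,2,2,2,0,2,0,2,3,1])) (Tr.node (Tr.leaf [1,1,1,0,1,0,2,2,2,0,2,0,1,0,2,2,2,0,2,0,1,1,0,1,0,1,0,1,1,1,1,1]) (Tr.leaf []))))) (Tr.node (Tr.node (Tr.node (Tr.node (Tr.leaf [1,1,1,0,1,1,1,1,0,1,1,1,1,0,1,1,1,1,0,1,1,1,1,0,1]) (Tr.leaf [1,1,1,1,0,1,0,2,2,2,0,1,0,2,0,2,2,0,1,1,1,1,1,0,2,0,2,2,2,0,2,0])) (Tr.node (Tr.leaf [0,1,0,2,0,2,0,1,1,0,2,0,2,0,1,0,1,0,2,2,0,1,0,1,0,2,0,2,0,1]) (Tr.leaf []))) (Tr.node (Tr.node (Tr.leaf [1,0,2,0,1,0,2,2,0,1,1,0,2,0,1,0,2,0,1,0,2,2,0,1,1,0,2,0]) (Tr.leaf [2,0,1,1,0,2,2,0,1,1,1,0,2,0,1,0,2,0,2,2,0,1,3,1,3,1,1,1,1,3,2,3])) (Tr.node (Tr.leaf [1,1,0,1,1,0,1,1,0,1,1,0,1,0,2,0,2,0,2,2,0,2,0,2,0,1,0,1,1,0,1,1]) (Tr.leaf [])))) (Tr.node (Tr.node (Tr.node (Tr.leaf [1,1,0,2,0,2,2,2,2,0,1,1,1,1,0,1,0,2,2,2,2,2,0,1,1,1]) (Tr.leaf [1,0,2,0,1,0,2,2,2,2,2,0,1,1,1,1,1,0,2,0,1,0,2,2,2,2,2,0,1,1,1,1])) (Tr.node (Tr.leaf [2,2,2,0,2,2,0,2,2,0,2,0,1,0,1,0,1,0,1,0,1,1,0,1,1,0,2,2,2,2,2,2]) (Tr.leaf []))) (Tr.node (Tr.node (Tr.leaf [0,1,0,1,0,1,0,2,0,1,0,2,0,2,0,2,0,1,1,0,1,0,2,0,1,0,2,0,2,2]) (Tr.leaf [3,2,3,2,0,2,2,0,2,0,2,2,2,0,1,0,2,2,2,2,0,1,0,1,0,2,2,0,1,3,1,3,0,2,0,2,2,0,2,2,0,1,1,0,2,3,2,0])) (Tr.node (Tr.leaf [1,1,0,1,0,1,1,0,1,0,2,0,2,2,0,2,0,2,2,2,2,2,2,0,1,0,2,0,1,1,1,1]) (Tr.leaf [])))))))))) (Tr.node (Tr.node (Tr.node (Tr.node (Tr.node (Tr.node (Tr.node (Tr.node (Tr.node (Tr.leaf [0,1,0,1,0,1,0,1,0,1,0,1,0,1,0,1]) (Tr.leaf [0,2,2,0,2,0,2,2,2,2,2,2,0,1,0,2,0,1,1,1,1,1,1,0,1,0,1,1,0,1,0,2])) (Tr.node (Tr.leaf [0,1,0,2,0,2,0,2,0,1,1,0,1,0,2,0,1,0,2,0,2,2,0,1,0,1,0,1,0,2]) (Tr.leaf [1,0,1,3,1,0,1,1,0,1,0,1,0,2,2,3,0,1,1,0,2,2,0,1,0,1,0,1,0,1,1,0,1,1,1,1,0,2,0,2,2,2,0,3,1,0]))) (Tr.node (Tr.node (Tr.leaf [1,1,1,0,1,0,2,2,2,2,2,0,1,1,1,1,1,0,2,0,2,2,2,2,0,1]) (Tr.leaf [2,0,1,1,0,1,1,1,0,2,2,2,0,2,2,0,1,1,0,2,2,0,2,2,0,1,1,0,1,1,0,2])) (Tr.node (Tr.leaf [1,0,1,1,1,1,1,1,1,1,1,0,2,2,0,2,2,0,2,0,2,0,2,0,2,0,1,0,1,1,0,1]) (Tr.leaf [])))) (Tr.node (Tr.node (Tr.node (Tr.leaf [1,1,1,0,1,1,1,1,0,1,1,1,1,0,1,1,1,1,0,1,1,1,1,0,1]) (Tr.leaf [0,2,2,0,1,1,1,1,1,0,2,0,2,2,2,0,2,0,1,1,1,1,0,1,0,2,2,2,0,1,0,2])) (Tr.node (Tr.leaf [2,0,1,0,1,0,2,2,0,1,0,1,0,2,0,2,0,1,0,1,0,2,0,2,0,1,1,0,2,0]) (Tr.leaf []))) (Tr.node (Tr.node (Tr.leaf [0,2,0,1,0,2,2,0,1,1,0,2,0,1,0,2,0,1,0,2,2,0,1,1,0,2,0,1]) (Tr.leaf [3,1,3,1,1,1,1,3,2,3,2,0,1,1,0,2,2,0,1,1,1,0,2,0,1,0,2,0,2,2,0,1])) (Tr.node (Tr.leaf [1,0,1,0,2,0,2,0,2,2,0,2,0,2,0,1,0,1,1,0,1,1,1,1,0,1,1,0,1,1,0,1]) (Tr.leaf []))))) (Tr.node (Tr.node (Tr.node (Tr.node (Tr.leaf [0,2,0,2,0,1,0,1,0,2,0,1,0,2,0,2,0,1,0,1,0,2,0,1]) (Tr.leaf [0,1,1,0,1,0,2,0,1,0,1,1,0,2,2,2,0,2,2,2,2,0,1,1,1,1,0,2,2,0,1,1])) (Tr.node (Tr.leaf [1,0,1,1,0,2,2,2,0,2,0,2,0,1,0,1,0,1,1,1,0,2,2,0,2,0,1,0,2,0]) (Tr.leaf [1,3,1,0,2,2,2,0,1,1,0,2,0,2,3,1,1,0,1,1,1,1,0,2,3,0,2,0,1,1,0,2,2,2,0,1,0,1,0,1,0,1,1,1,0,1,1]))) (Tr.node (Tr.node (Tr.leaf [2,2,2,2,0,2,2,0,2,2,0,2,2,0,2,0,2,0,1,0,1,1,0,2,2,2,2,2]) (Tr.leaf [3,2,2,0,2,0,1,0,2,0,1,1,0,2,0,1,0,2,0,3,2,2,2,2,2])) (Tr.node (Tr.leaf [2,0,1,1,0,1,0,2,0,1,0,2,0,2,2,2,0,2,0,2,0,2,0,2,2,0,1,0,2,0,2,0]) (Tr.leaf [])))) (Tr.node (Tr.node (Tr.node (Tr.leaf [1,0,1,1,0,1,0,2,0,1,0,1,1,0,2,2,2,2,2,2,2,0,1,1,0,1]) (Tr.leaf [2,2,0,2,2,2,0,1,1,0,1,1,0,1,1,0,1,0,2,0,1,0,2,2,0,1,1,1,1,0,2,2])) (Tr.node (Tr.leaf [2,2,2,2,0,1,1,1,1,0,2,2,2,2,2,0,2,0,2,0,2,0,2,0,2,0,2,0,1,1,1,0]) (Tr.leaf []))) (Tr.node (Tr.node (Tr.leaf [1,0,1,0,1,0,1,0,1,1,0,1,0,2,0,1,0,2,0,2,0,1,0,1,0,2,0,1,1,0]) (Tr.leaf [1,3,1,0,2,3,1,0,2,2,2,0,2,0,2,3,1,1,0,2,0,2,2,0,1,0,2,0,1,0,2,2,2,2,0,2,0])) (Tr.node (Tr.leaf [2,0,1,0,2,2,2,0,2,0,1,1,0,1,0,1,0,1,1,1,1,1,1,1,1,0,1,0,2,2,2,0]) (Tr.leaf [])))))) (Tr.node (Tr.node (Tr.node (Tr.node (Tr.node (Tr.leaf [2,2,0,1,1,1,1,0,2,2,2,2,0,1,1,1,1,0,2,2]) (Tr.leaf [0,1,0,2,2,0,2,0,1,1,0,1,0,2,0,1,0,2,0,2,2,0,1,0,1,1,0,2,0,1,0,2])) (Tr.node (Tr.leaf [2,2,2,2,0,2,2,0,2,0,1,0,1,0,1,1,0,1,1,0,1,1,0,2,2,2,2,2,2,2]) (Tr.leaf [2,0,2,3,2,0,2,0,2,3,0,1,1,1,0,1,0,2,2,2,2,0,2,2,0,2,0,2,0,2,0,1,1,0,2,2,0,3,1,1,0,2,0,2,0,2]))) (Tr.node (Tr.node (Tr.leaf [0,2,0,2,0,2,0,1,0,1,1,0,1,1,0,2,2,0,2,2,0,2,0,1,0,1,0,1]) (Tr.leaf [1,0,2,0,1,0,2,2,0,1,0,2,0,1,0,1,1,3,1,1,1,1,1,3,0])) (Tr.node (Tr.leaf [2,0,1,0,2,0,2,0,1,1,0,2,0,1,0,2,0,1,0,2,2,2,0,2,0,2,0,2,0,2,0,2]) (Tr.leaf [])))) (Tr.node (Tr.node (Tr.node (Tr.leaf [1,0,2,0,1,0,2,2,0,1,0,1,0,2,0,1,0,2,0,2,0,1,1,0,2,0]) (Tr.leaf [2,0,1,1,1,1,1,1,1,0,2,2,2,0,1,0,2,0,1,0,2,0,1,0,2,2,2,0,2,2,0,2])) (Tr.node (Tr.leaf [0,2,0,1,1,1,1,0,1,0,2,2,2,0,1,0,2,0,1,1,1,0,2,0,2,2,2,2,0,1]) (Tr.leaf []))) (Tr.node (Tr.node (Tr.leaf [1,0,1,0,1,0,1,0,1,1,0,2,0,1,0,2,0,1,0,2,0,1,0,2,0,1,1,0,1,0]) (Tr.leaf [2,0,1,1,0,1,1,1,1,1,1,0,1,0,1,1,0,1,1,0,3,1,3,0,2,0,1,1,0,3,2,3,0,1,1,1,0])) (Tr.node (Tr.leaf [1,0,1,1,0,2,2,2,0,2,0,2,0,1,0,2,2,2,0,1,1,1,1,0,2,2,0,1,1,0,1,1]) (Tr.leaf []))))) (Tr.node (Tr.node (Tr.node (Tr.node (Tr.leaf [2,0,2,2,0,2,2,0,2,2,0,2,2,0,2,2,0,2,2,0,2,2,0,2]) (Tr.leaf [1,1,1,1,1,1,1,1,0,2,2,0,2,0,1,0,1,1,1,1,1,1,1,1,0,2,2,0,2,0,1,0])) (Tr.node (Tr.leaf [1,1,1,0,2,0,2,0,1,0,1,0,1,1,1,0,2,2,0,2,2,2,0,2,2,0,2,2,0,1]) (Tr.leaf []))) (Tr.node (Tr.node (Tr.leaf [1,0,1,1,1,1,0,2,2,2,2,0,2,0,1,0,1,1,1,1,0,2,2,2,2,0,2,0]) (Tr.leaf [0,1,0,2,2,0,1,0,1,0,1,3,1,1,0,2,2,0,2,0,2,0,1,0,1,1,0,1,0,2,2,0,1,3,2,0,1])) (Tr.node (Tr.leaf [1,0,1,0,1,1,0,1,0,1,0,2,0,2,2,0,2,2,0,2,2,0,2,2,2,2,0,2,2,0,2,0]) (Tr.leaf [])))) (Tr.node (Tr.node (Tr.node (Tr.leaf [0,1,1,1,1,0,2,2,2,2,0,2,0,1,1,1,1,1,0,2,2,2,2,2,0,1]) (Tr.leaf [0,1,1,1,0,1,0,2,0,1,1,1,0,1,0,2,0,1,1,1,0,1,0,2,0,1,1,1,0,1,0,2])) (Tr.node (Tr.leaf [2,2,2,2,2,0,1,1,1,1,0,2,2,2,2,0,1,1,1,0,2,0,2,0,2,0,2,0,2,0,2,0]) (Tr.leaf []))) (Tr.node (Tr.node (Tr.leaf [1,0,1,0,1,1,0,1,1,0,1,1,0,2,2,0,2,2,0,2,0,1,0,1,0,1,1,0,1,0]) (Tr.leaf [0,1,1,0,1,1,0,1,0,3,2,3,2,0,1,1,0,2,0,2,0,1,1,1,1,0,2,0,1,1,1,0,1,0,1,1,0,1,3,1,3,0,1,3,1,0,2,2])) (Tr.node (Tr.leaf [1,0,2,2,0,1,0,1,0,2,2,0,1,0,1,0,2,0,2,0,1,1,0,2,0,2,0,1,1,0,2,0]) (Tr.leaf []))))))) (Tr.node (Tr.node (Tr.node (Tr.node (Tr.node (Tr.node (Tr.leaf [0,1,0,2,0,1,0,2,0,1,0,2,0,1,0,2,0,1,0,2]) (Tr.leaf [1,0,2,0,2,2,0,2,2,0,2,2,0,2,2,2,2,2,2,2,2,2,2,2,2,2,0,2,2,0,2,0])) (Tr.node (Tr.leaf [1,0,1,0,2,0,1,0,2,0,2,2,0,1,0,1,0,1,0,2,0,1,0,2,0,2,0,2,0,1]) (Tr.leaf [0,1,0,1,0,1,0,1,1,0,1,1,1,1,0,2,0,2,2,2,0,3,1,0,1,0,1,3,1,0,1,1,0,1,0,1,0,2,2,3,0,1,1,0,2,2]))) (Tr.node (Tr.node (Tr.leaf [1,1,0,1,1,0,2,2,0,2,2,0,2,0,1,0,1,0,1,0,2,0,2,0,2,0,1,0]) (Tr.leaf [0,2,2,0,1,1,0,1,1,0,2,2,0,1,1,0,1,1,1,0,2,2,2,0,2,2,0,1,1,0,2,2])) (Tr.node (Tr.leaf [0,1,0,1,0,1,0,1,1,1,0,2,0,1,0,2,0,1,0,2,2,0,1,0,1,0,2,0,1,1,0,1]) (Tr.leaf [])))) (Tr.node (Tr.node (Tr.node (Tr.leaf [0,1,0,1,0,2,0,1,0,2,0,2,0,1,1,0,2,0,1,0,2,0,1,0,2,2]) (Tr.leaf [2,0,1,1,0,2,2,0,2,2,2,2,2,0,2,0,1,0,2,0,1,0,1,1,1,1,1,0,1,1,0,2])) (Tr.node (Tr.leaf [2,0,1,1,0,1,0,2,0,1,0,2,0,2,2,0,1,1,1,0,2,0,1,0,2,0,1,0,2,2]) (Tr.leaf []))) (Tr.node (Tr.node (Tr.leaf [1,0,1,0,1,0,1,0,1,1,0,1,0,1,0,1,0,1,0,1,0,1,0,1,1,0,1,0,1,0]) (Tr.leaf [0,1,0,3,2,3,0,2,2,0,2,2,0,2,0,2,2,2,2,2,2,0,2,2,0,1,0,2,2,2,0,3,1,3,0,2,2])) (Tr.node (Tr.leaf [0,2,2,2,2,0,1,1,1,0,2,0,1,0,1,0,1,1,1,0,2,2,0,2,2,2,0,2,2,0,1,1]) (Tr.leaf []))))) (Tr.node (Tr.node (Tr.node (Tr.node (Tr.leaf [2,0,1,0,1,0,2,0,1,0,2,0,2,0,1,0,1,0,2,0,1,0,2,0]) (Tr.leaf [0,2,2,0,2,0,1,0,2,0,2,2,0,2,2,0,1,1,0,2,2,2,2,0,1,1,1,1,0,1,1,1])) (Tr.node (Tr.leaf [0,1,0,1,0,1,1,1,0,2,2,0,2,2,2,0,2,2,0,2,2,0,1,1,1,1,0,2,0,2]) (Tr.leaf [1,1,0,2,3,0,2,0,1,1,0,2,2,2,0,1,0,1,0,1,0,1,1,1,0,1,1,1,3,1,0,2,2,2,0,1,1,0,2,0,2,3,1,1,0,1,1]))) (Tr.node (Tr.node (Tr.leaf [0,2,0,2,0,1,0,1,0,2,2,0,1,1,0,2,0,2,0,1,0,1,0,2,2,0,1,1]) (Tr.leaf [1,1,0,2,0,2,2,0,2,0,1,0,1,0,1,1,0,2,2,3,2,0,2,0,2,0,1,1,0,2,0,2,0,1,3,2,0])) (Tr.node (Tr.leaf [2,0,1,0,2,0,2,0,2,0,1,1,1,0,2,0,1,0,2,0,1,0,2,2,2,0,1,0,1,0,1,0]) (Tr.leaf [])))) (Tr.node (Tr.node (Tr.node (Tr.leaf [2,0,1,1,1,1,1,1,1,0,2,2,0,2,0,1,0,2,0,2,2,0,2,2,0,2]) (Tr.leaf [1,1,0,2,2,2,2,0,1,1,0,2,0,1,0,2,0,2,2,0,2,2,0,2,2,0,1,1,1,0,1,1])) (Tr.node (Tr.leaf [0,1,1,1,0,2,2,2,2,0,1,1,1,1,0,2,2,2,2,2,0,2,0,2,0,2,0,2,0,2,0,2]) (Tr.leaf []))) (Tr.node (Tr.node (Tr.leaf [2,0,1,0,2,0,2,0,1,0,1,0,2,0,1,0,2,0,2,2,0,2,0,2,0,2,0,2,0,2]) (Tr.leaf [1,0,2,3,1,0,2,3,2,0,1,0,1,1,1,1,0,2,0,1,0,2,0,1,1,0,1,0,2,2,3,1,0,1,0,1,1])) (Tr.node (Tr.leaf [0,2,2,2,2,2,2,2,2,0,2,0,2,0,2,2,0,1,0,1,1,1,0,2,0,1,0,1,1,1,0,2]) (Tr.leaf [])))))) (Tr.node (Tr.node (Tr.node (Tr.node (Tr.node (Tr.leaf [1,1,1,1,1,1,1,1,1,1,1,1,1,1,1,1,1,1,1,1]) (Tr.leaf [0,1,1,0,2,2,0,2,0,1,0,1,1,0,2,2,0,1,1,0,2,2,0,2,0,1,0,1,1,0,2,2])) (Tr.node (Tr.leaf [2,2,0,2,2,0,2,2,0,2,0,2,0,1,0,1,1,0,1,1,1,1,1,1,1,1,1,1,1,0]) (Tr.leaf [1,0,1,0,2,2,0,1,1,1,0,2,3,2,2,2,0,2,2,2,0,2,0,2,0,2,0,1,1,1,0,2,2,0,1,0,3,1,0,2,2,2,2,0,2,2,3]))) (Tr.node (Tr.node (Tr.leaf [1,1,1,1,1,1,0,2,2,0,2,0,1,0,1,0,1,1,0,1,1,0,1,1,0,1,1,1]) (Tr.leaf [2,0,1,0,2,0,1,1,0,2,0,1,0,2,0,3,2,2,2,2,2,3,2,2,0])) (Tr.node (Tr.leaf [1,0,1,1,1,0,1,0,2,0,1,0,2,0,2,2,0,1,0,1,0,1,0,2,0,1,1,0,1,0,1,0]) (Tr.leaf [])))) (Tr.node (Tr.node (Tr.node (Tr.leaf [0,1,1,0,2,2,2,2,2,2,2,0,1,1,0,1,1,0,1,1,0,1,0,2,0,1]) (Tr.leaf [1,1,0,1,1,1,0,2,0,1,0,2,0,1,0,2,0,1,1,1,0,2,2,2,2,2,2,2,0,1,1,0])) (Tr.node (Tr.leaf [0,1,0,1,1,1,1,1,0,2,2,2,2,0,1,1,1,1,0,2,2,2,0,1,0,1,0,1,0,1,0,1]) (Tr.leaf []))) (Tr.node (Tr.node (Tr.leaf [2,0,1,0,2,0,1,0,2,0,1,0,2,0,1,0,2,2,0,2,0,2,0,2,0,2,0,2,0,2]) (Tr.leaf [2,3,1,0,2,2,2,0,2,0,2,3,1,1,0,2,0,2,2,0,1,0,2,0,1,0,2,2,2,2,0,2,0,1,3,1,0])) (Tr.node (Tr.leaf [0,2,2,2,0,2,0,2,0,1,0,1,0,1,1,1,0,2,2,2,0,1,0,2,0,1,0,2,0,1,1,1]) (Tr.leaf []))))) (Tr.node (Tr.node (Tr.node (Tr.node (Tr.leaf [1,1,1,1,0,2,2,2,2,2,0,1,1,1,1,1,0,2,2,2,2,2,0,1]) (Tr.leaf [1,1,0,1,0,2,0,1,1,1,0,2,0,2,2,2,2,0,1,0,1,1,1,0,1,0,2,2,2,2,2,0])) (Tr.node (Tr.leaf [1,1,0,2,2,2,0,2,0,2,0,1,0,1,0,2,2,2,2,0,1,1,0,1,1,0,1,1,1,0]) (Tr.leaf []))) (Tr.node (Tr.node (Tr.leaf [2,0,2,2,0,1,1,0,1,0,2,0,1,0,2,0,2,2,0,1,1,0,1,0,2,0,1,0]) (Tr.leaf [2,3,2,0,1,1,0,1,0,2,0,1,0,2,2,2,0,1,1,0,2,2,0,1,3,1,3,2,2,2,2,3])) (Tr.node (Tr.leaf [0,2,2,0,2,0,1,0,1,0,1,1,0,1,0,1,0,2,0,2,2,0,2,2,0,2,2,0,2,2,2,2]) (Tr.leaf [])))) (Tr.node (Tr.node (Tr.node (Tr.leaf [2,0,1,0,1,1,1,1,0,2,2,2,2,0,2,0,1,1,1,1,1,0,2,2,2,2]) (Tr.leaf [0,2,0,1,1,1,1,1,0,2,2,2,2,2,0,1,0,2,0,1,1,1,1,1,0,2,2,2,2,2,0,1])) (Tr.node (Tr.leaf [0,2,0,2,0,2,0,2,2,2,2,2,0,1,1,1,1,0,2,2,2,2,0,1,1,1,0,2,0,2,0,2]) (Tr.leaf []))) (Tr.node (Tr.node (Tr.leaf [0,1,1,0,2,2,0,2,2,0,2,2,0,2,0,2,0,2,0,2,2,0,2,0,2,0,1,0,1,1]) (Tr.leaf [3,0,2,0,2,2,0,2,2,0,1,1,0,2,3,2,0,3,2,3,2,0,2,2,0,2,0,2,2,2,0,1,0,2,2,2,2,0,1,0,1,0,2,2,0,1,3,1])) (Tr.node (Tr.leaf [0,2,0,2,2,2,2,2,2,0,1,0,2,0,1,1,1,1,1,1,0,1,0,1,1,0,1,0,2,0,2,2]) (Tr.leaf [])))))))) (Tr.node (Tr.node (Tr.node (Tr.node (Tr.node (Tr.node (Tr.node (Tr.leaf [0,2,0,2,0,2,0,2,0,2,0,2,0,2,0,2]) (Tr.leaf [1,1,1,1,1,0,1,1,0,1,1,0,1,1,0,1,0,2,0,1,0,1,1,0,1,1,1,1,1,1,1,1])) (Tr.node (Tr.leaf [1,1,0,1,0,2,0,1,0,2,0,2,2,0,1,0,1,0,1,0,2,0,1,0,2,0,2,0,2,0]) (Tr.leaf [0,1,0,1,0,2,2,3,0,1,1,0,2,2,0,1,0,1,0,1,0,1,1,0,1,1,1,1,0,2,0,2,2,2,0,3,1,0,1,0,1,3,1,0,1,1]))) (Tr.node (Tr.node (Tr.leaf [1,0,2,0,2,0,2,0,1,0,1,1,0,1,1,0,2,2,0,2,2,0,2,0,1,0,1,0]) (Tr.leaf [1,0,2,2,0,2,2,0,1,1,0,1,1,0,2,2,0,1,1,0,1,1,1,0,2,2,2,0,2,2,0,1])) (Tr.node (Tr.leaf [2,0,2,2,0,2,0,2,0,2,0,2,0,1,0,1,1,0,1,1,0,1,1,1,1,1,1,1,1,1,0,2]) (Tr.leaf [])))) (Tr.node (Tr.node (Tr.node (Tr.leaf [2,2,0,2,2,2,2,0,2,2,2,2,0,2,2,2,2,0,2,2,2,2,0,2,2]) (Tr.leaf [2,0,1,1,1,1,0,1,0,2,2,2,0,1,0,2,0,2,2,0,1,1,1,1,1,0,2,0,2,2,2,0])) (Tr.node (Tr.leaf [1,0,2,0,2,2,0,1,1,1,0,2,0,1,0,2,0,1,0,2,2,2,0,1,1,0,1,0,2,0]) (Tr.leaf []))) (Tr.node (Tr.node (Tr.leaf [0,1,0,2,0,2,2,2,2,0,1,1,1,1,0,1,0,2,0,2,2,2,2,0,1,1,1,1]) (Tr.leaf [2,3,2,0,1,1,0,2,2,0,1,1,1,0,2,0,1,0,2,0,2,2,0,1,3,1,3,1,1,1,1,3])) (Tr.node (Tr.leaf [1,0,2,2,0,2,2,2,0,2,2,0,1,1,0,2,2,2,2,0,1,1,1,0,2,0,1,0,1,0,1,1]) (Tr.leaf []))))) (Tr.node (Tr.node (Tr.node (Tr.node (Tr.leaf [0,1,0,2,0,2,0,1,0,1,0,2,0,1,0,2,0,2,0,1,0,1,0,2]) (Tr.leaf [0,1,1,0,2,2,2,2,0,1,1,1,1,0,1,1,1,0,2,2,0,2,0,1,0,2,0,2,2,0,2,2])) (Tr.node (Tr.leaf [1,0,1,1,1,0,2,2,0,2,0,1,0,2,0,1,0,1,1,0,2,2,2,0,2,0,2,0,1,0]) (Tr.leaf [1,1,0,2,0,2,3,1,1,0,1,1,1,1,0,2,3,0,2,0,1,1,0,2,2,2,0,1,0,1,0,1,0,1,1,1,0,1,1,1,3,1,0,2,2,2,0]))) (Tr.node (Tr.node (Tr.leaf [0,2,2,0,2,0,2,0,1,0,1,1,0,2,2,2,2,2,2,2,2,2,0,2,2,0,2,2]) (Tr.leaf [1,1,0,2,0,2,0,1,3,2,0,1,1,0,2,0,2,2,0,2,0,1,0,1,0,1,1,0,2,2,3,2,0,2,0,2,0])) (Tr.node (Tr.leaf [0,1,0,2,0,1,0,2,0,2,0,2,0,1,0,1,0,1,0,2,0,1,0,2,0,2,0,2,0,1,0,1]) (Tr.leaf [])))) (Tr.node (Tr.node (Tr.node (Tr.leaf [2,0,2,2,0,2,2,0,2,2,0,1,1,1,1,1,1,1,0,2,2,0,2,0,1,0]) (Tr.leaf [1,1,0,1,0,2,0,1,0,2,2,0,1,1,1,1,0,2,2,2,2,0,2,2,2,0,1,1,0,1,1,0])) (Tr.node (Tr.leaf [2,0,2,0,2,0,2,0,2,0,2,0,2,0,1,1,1,0,2,2,2,2,0,1,1,1,1,0,2,2,2,2]) (Tr.leaf []))) (Tr.node (Tr.node (Tr.leaf [0,1,0,2,0,2,0,1,0,1,0,2,0,1,1,0,1,0,1,0,1,0,1,0,1,1,0,1,0,2]) (Tr.leaf [2,3,1,0,1,0,1,1,1,0,2,3,1,0,2,3,2,0,1,0,1,1,1,1,0,2,0,1,0,2,0,1,1,0,1,0,2])) (Tr.node (Tr.leaf [1,1,1,0,2,0,1,0,1,1,1,0,2,0,2,2,2,2,2,2,2,2,0,2,0,2,0,2,2,0,1,0]) (Tr.leaf [])))))) (Tr.node (Tr.node (Tr.node (Tr.node (Tr.node (Tr.leaf [1,1,1,0,2,2,2,2,0,1,1,1,1,0,2,2,2,2,0,1]) (Tr.leaf [1,0,2,2,0,2,0,1,1,0,1,0,2,0,1,0,2,0,2,2,0,1,0,1,1,0,2,0,1,0,2,0])) (Tr.node (Tr.leaf [1,1,1,1,1,1,1,1,1,1,0,2,2,0,2,2,0,2,2,0,2,0,2,0,1,0,1,1,0,1]) (Tr.leaf [1,0,2,2,2,2,0,2,2,3,1,0,1,0,2,2,0,1,1,1,0,2,3,2,2,2,0,2,2,2,0,2,0,2,0,2,0,1,1,1,0,2,2,0,1,0,3]))) (Tr.node (Tr.node (Tr.leaf [1,1,0,1,1,0,1,1,1,1,1,1,1,1,1,0,2,2,0,2,0,1,0,1,0,1,1,0]) (Tr.leaf [0,1,0,2,0,1,0,1,1,3,1,1,1,1,1,3,0,1,0,2,0,1,0,2,2])) (Tr.node (Tr.leaf [0,2,2,2,0,2,0,2,0,2,0,2,0,2,2,0,1,0,2,0,2,0,1,1,0,2,0,1,0,2,0,1]) (Tr.leaf [])))) (Tr.node (Tr.node (Tr.node (Tr.leaf [1,0,2,0,1,0,2,0,1,0,2,2,0,1,0,1,0,2,0,1,0,2,0,2,0,1]) (Tr.leaf [2,0,1,0,2,0,1,0,2,0,1,0,2,2,2,0,2,2,0,2,2,0,1,1,1,1,1,1,1,0,2,2])) (Tr.node (Tr.leaf [2,0,2,2,2,2,0,1,0,2,0,1,1,1,1,0,1,0,2,2,2,0,1,0,2,0,1,1,1,0]) (Tr.leaf []))) (Tr.node (Tr.node (Tr.leaf [0,2,0,1,0,2,0,1,0,2,0,1,1,0,1,0,1,0,1,0,1,0,1,0,1,1,0,2,0,1]) (Tr.leaf [1,0,3,2,3,0,1,1,1,0,2,0,1,1,0,1,1,1,1,1,1,0,1,0,1,1,0,1,1,0,3,1,3,0,2,0,1])) (Tr.node (Tr.leaf [2,2,2,0,1,0,2,0,1,0,2,0,1,1,1,0,2,2,2,0,2,0,2,0,1,0,1,0,1,1,1,0]) (Tr.leaf []))))) (Tr.node (Tr.node (Tr.node (Tr.node (Tr.leaf [1,0,2,2,2,2,2,0,1,1,1,1,1,0,2,2,2,2,2,0,1,1,1,1]) (Tr.leaf [1,1,0,1,0,2,2,2,2,2,0,1,1,0,1,0,2,0,1,1,1,0,2,0,2,2,2,2,0,1,0,1])) (Tr.node (Tr.leaf [2,2,2,2,0,1,1,0,1,1,0,1,1,1,0,1,1,0,2,2,2,0,2,0,2,0,1,0,1,0]) (Tr.leaf []))) (Tr.node (Tr.node (Tr.leaf [0,2,0,1,0,1,1,1,1,0,2,2,2,2,0,2,0,1,0,1,1,1,1,0,2,2,2,2]) (Tr.leaf [3,1,1,0,2,2,0,2,0,2,0,1,0,1,1,0,1,0,2,2,0,1,3,2,0,1,0,1,0,2,2,0,1,0,1,0,1])) (Tr.node (Tr.leaf [0,2,2,0,2,2,0,2,2,0,2,2,2,2,0,2,2,0,2,0,1,0,1,0,1,1,0,1,0,1,0,2]) (Tr.leaf [])))) (Tr.node (Tr.node (Tr.node (Tr.leaf [2,0,2,0,1,1,1,1,1,0,2,2,2,2,2,0,1,0,1,1,1,1,0,2,2,2]) (Tr.leaf [2,2,0,1,0,2,0,2,2,2,0,1,0,2,0,2,2,2,0,1,0,2,0,2,2,2,0,1,0,2,0,2])) (Tr.node (Tr.leaf [2,2,2,2,0,1,1,1,0,2,0,2,0,2,0,2,0,2,0,2,0,2,2,2,2,2,0,1,1,1,1,0]) (Tr.leaf []))) (Tr.node (Tr.node (Tr.leaf [2,2,0,2,0,1,0,1,0,1,1,0,1,0,1,0,1,0,1,1,0,1,1,0,1,1,0,2,2,0]) (Tr.leaf [1,0,2,0,2,0,1,1,1,1,0,2,0,1,1,1,0,1,0,1,1,0,1,3,1,3,0,1,3,1,0,2,2,0,1,1,0,1,1,0,1,0,3,2,3,2,0,1])) (Tr.node (Tr.leaf [1,0,1,1,0,1,0,2,0,2,2,0,2,0,2,2,2,2,2,2,0,1,0,2,0,1,1,1,1,1,1,0]) (Tr.leaf []))))))) (Tr.node (Tr.node (Tr.node (Tr.node (Tr.node (Tr.node (Tr.leaf [0,1,1,1,1,0,2,2,2,2,0,1,1,1,1,0,2,2,2,2]) (Tr.leaf [0,2,0,1,0,2,0,2,2,0,2,2,0,2,2,0,2,2,2,2,2,2,2,2,2,2,2,2,2,0,2,2])) (Tr.node (Tr.leaf [0,1,1,0,1,1,0,2,2,2,2,2,2,2,2,2,2,2,0,2,2,0,2,0,1,0,1,0,1,1]) (Tr.leaf [3,1,1,0,2,0,2,0,2,2,0,2,3,2,0,2,0,2,3,0,1,1,1,0,1,0,2,2,2,2,0,2,2,0,2,0,2,0,2,0,1,1,0,2,2,0]))) (Tr.node (Tr.node (Tr.leaf [0,2,2,0,2,0,1,0,1,0,1,0,2,0,2,0,2,0,1,0,1,1,0,1,1,0,2,2]) (Tr.leaf [3,1,1,1,1,1,3,0,1,0,2,0,1,0,2,2,0,1,0,2,0,1,0,1,1])) (Tr.node (Tr.leaf [2,0,1,0,2,0,1,0,2,2,0,1,0,1,0,2,0,1,1,0,1,0,1,0,1,0,1,0,1,1,1,0]) (Tr.leaf [])))) (Tr.node (Tr.node (Tr.node (Tr.leaf [2,0,2,0,1,1,0,2,0,1,0,2,0,1,0,2,2,0,1,0,1,0,2,0,1,0]) (Tr.leaf [2,2,2,2,0,2,0,1,0,2,0,1,0,1,1,1,1,1,0,1,1,0,2,2,0,1,1,0,2,2,0,2])) (Tr.node (Tr.leaf [0,1,1,1,0,2,0,2,2,2,2,0,1,0,2,0,1,1,1,1,0,1,0,2,2,2,0,1,0,2]) (Tr.leaf []))) (Tr.node (Tr.node (Tr.leaf [0,2,0,2,0,2,0,2,0,2,0,2,2,0,2,0,2,0,2,0,2,0,2,0,2,0,2,2,0,2]) (Tr.leaf [2,0,2,0,2,2,2,2,2,2,0,2,2,0,1,0,2,2,2,0,3,1,3,0,2,2,0,1,0,3,2,3,0,2,2,0,2])) (Tr.node (Tr.leaf [2,0,1,0,1,0,1,1,1,0,2,2,0,2,2,2,0,2,2,0,1,1,0,2,2,2,2,0,1,1,1,0]) (Tr.leaf []))))) (Tr.node (Tr.node (Tr.node (Tr.node (Tr.leaf [0,2,2,0,2,2,0,2,2,0,2,2,0,2,2,0,2,2,0,2,2,0,2,2]) (Tr.leaf [2,0,1,0,1,1,0,2,2,2,2,2,2,2,2,0,2,0,1,0,1,1,0,2,2,2,2,2,2,2,2,0])) (Tr.node (Tr.leaf [2,2,2,0,2,2,0,2,2,0,1,1,1,1,0,2,0,2,0,1,0,1,0,1,1,1,0,2,2,0]) (Tr.leaf []))) (Tr.node (Tr.node (Tr.leaf [0,2,0,1,0,1,0,2,2,0,1,1,0,2,0,2,0,1,0,1,0,2,2,0,1,1,0,2]) (Tr.leaf [1,1,0,2,2,0,2,0,2,0,1,0,1,1,0,1,0,2,2,0,1,3,2,0,1,0,1,0,2,2,0,1,0,1,0,1,3])) (Tr.node (Tr.leaf [0,1,0,2,0,1,0,2,2,2,0,1,0,1,0,1,0,2,0,1,0,2,0,2,0,2,0,1,1,1,0,2]) (Tr.leaf [])))) (Tr.node (Tr.node (Tr.node (Tr.leaf [1,0,2,2,0,2,0,1,0,2,0,2,2,0,2,2,0,2,2,0,1,1,1,1,1,1]) (Tr.leaf [0,2,0,1,0,2,0,2,2,0,2,2,0,2,2,0,1,1,1,0,1,1,1,1,0,2,2,2,2,0,1,1])) (Tr.node (Tr.leaf [1,1,1,0,2,2,2,2,0,1,1,1,1,1,0,1,0,1,0,1,0,1,0,1,0,1,0,2,2,2,0,1]) (Tr.leaf []))) (Tr.node (Tr.node (Tr.leaf [0,2,2,0,2,0,2,0,2,0,2,0,2,2,0,1,0,2,0,2,0,1,0,1,0,2,0,1,0,2]) (Tr.leaf [3,0,1,3,1,0,2,2,0,1,1,0,1,1,0,1,0,3,2,3,2,0,1,1,0,2,0,2,0,1,1,1,1,0,2,0,1,1,1,0,1,0,1,1,0,1,3,1])) (Tr.node (Tr.leaf [0,2,0,2,0,1,0,1,0,2,0,2,0,1,0,1,0,2,0,2,0,1,0,1,0,2,0,2,0,1,0,1]) (Tr.leaf [])))))) (Tr.node (Tr.node (Tr.node (Tr.node (Tr.node (Tr.leaf [2,2,2,2,2,2,2,2,2,2,2,2,2,2,2,2,2,2,2,2]) (Tr.leaf [0,2,2,2,2,0,1,1,1,1,0,2,2,0,1,1,0,1,1,0,1,0,2,0,1,0,1,1,0,2,2,2])) (Tr.node (Tr.leaf [1,1,1,0,2,2,0,2,0,1,0,2,0,1,0,1,1,0,2,2,2,0,2,0,2,0,1,0,1,0]) (Tr.leaf [2,0,2,2,2,0,2,0,2,0,2,0,1,1,1,0,2,2,0,1,0,3,1,0,2,2,2,2,0,2,2,3,1,0,1,0,2,2,0,1,1,1,0,2,3,2,2]))) (Tr.node (Tr.node (Tr.leaf [0,2,0,1,0,1,0,1,1,0,1,1,0,1,1,0,1,1,1,1,1,1,1,1,1,0,2,2]) (Tr.leaf [2,0,3,2,2,2,2,2,3,2,2,0,2,0,1,0,2,0,1,1,0,2,0,1,0])) (Tr.node (Tr.leaf [0,1,0,2,0,1,1,0,1,0,1,0,1,0,1,1,1,0,1,0,2,0,1,0,2,0,2,2,0,1,0,1]) (Tr.leaf [])))) (Tr.node (Tr.node (Tr.node (Tr.leaf [2,2,2,0,1,1,0,1,1,0,1,1,0,1,0,2,0,1,0,1,1,0,2,2,2,2]) (Tr.leaf [0,1,0,2,0,1,0,2,2,0,1,1,1,1,0,2,2,2,2,0,2,2,2,0,1,1,0,1,1,0,1,1])) (Tr.node (Tr.leaf [2,0,1,1,1,1,0,2,2,2,0,1,0,1,0,1,0,1,0,1,0,1,0,1,1,1,1,1,0,2,2,2]) (Tr.leaf []))) (Tr.node (Tr.node (Tr.leaf [0,2,2,0,2,0,2,0,2,0,2,0,2,0,2,2,0,1,0,2,0,1,0,2,0,1,0,2,0,1]) (Tr.leaf [3,1,1,0,2,0,2,2,0,1,0,2,0,1,0,2,2,2,2,0,2,0,1,3,1,0,2,3,1,0,2,2,2,0,2,0,2])) (Tr.node (Tr.leaf [1,1,1,1,1,1,0,1,0,2,2,2,0,2,0,1,0,2,2,2,0,2,0,1,1,0,1,0,1,0,1,1]) (Tr.leaf []))))) (Tr.node (Tr.node (Tr.node (Tr.node (Tr.leaf [1,1,1,1,0,1,1,1,1,0,1,1,1,1,0,1,1,1,1,0,1,1,1,1,0]) (Tr.leaf [2,2,2,0,1,0,1,1,1,0,1,0,2,2,2,2,2,0,1,1,0,1,0,2,0,1,1,1,0,2,0,2])) (Tr.node (Tr.leaf [2,0,2,0,1,0,1,0,2,0,2,0,1,1,0,2,0,2,0,1,0,1,0,2,2,0,1,0,1,0]) (Tr.leaf []))) (Tr.node (Tr.node (Tr.leaf [2,0,1,1,0,1,0,2,0,1,0,2,0,2,2,0,1,1,0,1,0,2,0,1,0,2,0,2]) (Tr.leaf [2,0,1,1,0,2,2,0,1,3,1,3,2,2,2,2,3,2,3,2,0,1,1,0,1,0,2,0,1,0,2,2])) (Tr.node (Tr.leaf [1,1,1,1,0,1,1,0,1,1,0,1,1,0,1,0,2,0,2,0,2,2,0,2,0,2,0,1,0,1,1,0]) (Tr.leaf [])))) (Tr.node (Tr.node (Tr.node (Tr.leaf [1,1,1,1,0,2,0,2,2,2,2,0,1,1,1,1,0,1,0,2,2,2,2,2,0,1]) (Tr.leaf [1,1,1,1,0,2,0,1,0,2,2,2,2,2,0,1,1,1,1,1,0,2,0,1,0,2,2,2,2,2,0,1])) (Tr.node (Tr.leaf [0,1,0,1,1,0,1,1,0,2,2,2,2,2,2,2,2,2,0,2,2,0,2,2,0,2,0,1,0,1,0,1]) (Tr.leaf []))) (Tr.node (Tr.node (Tr.leaf [2,0,2,2,0,2,0,2,0,1,0,1,1,0,1,1,0,2,2,0,2,2,0,2,2,0,2,0,2,0]) (Tr.leaf [2,0,3,2,3,2,0,2,2,0,2,0,2,2,2,0,1,0,2,2,2,2,0,1,0,1,0,2,2,0,1,3,1,3,0,2,0,2,2,0,2,2,0,1,1,0,2,3])) (Tr.node (Tr.leaf [1,1,1,1,1,1,0,1,0,1,1,0,1,0,2,0,2,2,0,2,0,2,2,2,2,2,2,0,1,0,2,0]) (Tr.leaf []))))))))) (Tr.node (Tr.node (Tr.node (Tr.node (Tr.node (Tr.node (Tr.node (Tr.node (Tr.leaf [0,1,0,1,0,1,0,1,0,1,0,1,0,1,0,1]) (Tr.leaf [1,0,1,1,1,1,1,1,1,1,1,1,1,1,1,0,1,1,0,1,1,0,1,1,0,1,0,2,0,1,0,1])) (Tr.node (Tr.leaf [0,2,0,2,0,1,1,0,1,0,2,0,1,0,2,0,2,2,0,1,0,1,0,1,0,2,0,1,0,2]) (Tr.leaf [1,0,1,1,0,1,0,1,0,2,2,3,0,1,1,0,2,2,0,1,0,1,0,1,0,1,1,0,1,1,1,1,0,2,0,2,2,2,0,3,1,0,1,0,1,3]))) (Tr.node (Tr.node (Tr.leaf [0,1,0,1,0,1,0,2,0,2,0,2,0,1,0,1,1,0,1,1,0,2,2,0,2,2,0,2]) (Tr.leaf [2,2,0,2,2,0,1,1,0,2,2,0,2,2,0,1,1,0,1,1,0,2,2,0,1,1,0,1,1,1,0,2])) (Tr.node (Tr.leaf [1,1,1,1,1,0,2,2,0,2,2,0,2,0,2,0,2,0,2,0,1,0,1,1,0,1,1,0,1,1,1,1]) (Tr.leaf [])))) (Tr.node (Tr.node (Tr.node (Tr.leaf [0,2,2,2,2,0,2,2,2,2,0,2,2,2,2,0,2,2,2,2,0,2,2,2,2]) (Tr.leaf [0,2,2,2,0,2,0,1,1,1,1,0,1,0,2,2,2,0,1,0,2,0,2,2,0,1,1,1,1,1,0,2])) (Tr.node (Tr.leaf [1,0,2,0,2,0,1,0,1,0,2,2,0,1,0,1,0,2,0,2,0,1,0,1,0,2,0,2,0,1]) (Tr.leaf []))) (Tr.node (Tr.node (Tr.leaf [2,2,0,1,1,0,2,0,1,0,2,0,1,0,2,2,0,1,1,0,2,0,1,0,2,0,1,0]) (Tr.leaf [1,1,1,3,2,3,2,0,1,1,0,2,2,0,1,1,1,0,2,0,1,0,2,0,2,2,0,1,3,1,3,1])) (Tr.node (Tr.leaf [0,2,0,2,2,0,2,0,2,0,1,0,1,1,0,1,1,1,1,0,1,1,0,1,1,0,1,1,0,1,0,2]) (Tr.leaf []))))) (Tr.node (Tr.node (Tr.node (Tr.node (Tr.leaf [0,1,0,1,0,2,0,1,0,2,0,2,0,1,0,1,0,2,0,1,0,2,0,2]) (Tr.leaf [2,0,2,2,0,2,2,0,1,1,0,2,2,2,2,0,1,1,1,1,0,1,1,1,0,2,2,0,2,0,1,0])) (Tr.node (Tr.leaf [2,2,0,2,0,2,0,1,0,1,0,1,1,1,0,2,2,0,2,0,1,0,2,0,1,0,1,1,0,2]) (Tr.leaf [2,2,2,0,1,1,0,2,0,2,3,1,1,0,1,1,1,1,0,2,3,0,2,0,1,1,0,2,2,2,0,1,0,1,0,1,0,1,1,1,0,1,1,1,3,1,0]))) (Tr.node (Tr.node (Tr.leaf [0,2,2,0,2,2,0,2,2,0,2,0,2,0,1,0,1,1,0,2,2,2,2,2,2,2,2,2]) (Tr.leaf [2,0,2,0,1,1,0,2,0,2,0,1,3,2,0,1,1,0,2,0,2,2,0,2,0,1,0,1,0,1,1,0,2,2,3,2,0])) (Tr.node (Tr.leaf [0,2,2,2,0,2,0,2,0,2,0,2,2,0,1,0,2,0,2,0,2,0,1,1,0,1,0,2,0,1,0,2]) (Tr.leaf [])))) (Tr.node (Tr.node (Tr.node (Tr.leaf [1,0,2,0,1,0,1,1,0,2,2,2,2,2,2,2,0,1,1,0,1,1,0,1,1,0]) (Tr.leaf [0,1,1,0,1,1,0,1,0,2,0,1,0,2,2,0,1,1,1,1,0,2,2,2,2,0,2,2,2,0,1,1])) (Tr.node (Tr.leaf [0,1,1,1,1,0,2,2,2,2,2,0,2,0,2,0,2,0,2,0,2,0,2,0,1,1,1,0,2,2,2,2]) (Tr.leaf []))) (Tr.node (Tr.node (Tr.leaf [1,0,1,0,1,1,0,1,0,2,0,1,0,2,0,2,0,1,0,1,0,2,0,1,1,0,1,0,1,0]) (Tr.leaf [0,1,1,1,1,0,2,0,1,0,2,0,1,1,0,1,0,2,2,3,1,0,1,0,1,1,1,0,2,3,1,0,2,3,2,0,1])) (Tr.node (Tr.leaf [2,0,1,0,1,1,1,0,2,0,1,0,1,1,1,0,2,0,2,2,2,2,2,2,2,2,0,2,0,2,0,2]) (Tr.leaf [])))))) (Tr.node (Tr.node (Tr.node (Tr.node (Tr.node (Tr.leaf [1,1,0,2,2,2,2,0,1,1,1,1,0,2,2,2,2,0,1,1]) (Tr.leaf [0,1,1,0,1,0,2,0,1,0,2,0,2,2,0,1,0,1,1,0,2,0,1,0,2,0,1,0,2,2,0,2])) (Tr.node (Tr.leaf [1,0,1,1,0,1,1,1,1,1,1,1,1,1,1,1,0,2,2,0,2,2,0,2,2,0,2,0,2,0]) (Tr.leaf [0,2,3,0,1,1,1,0,1,0,2,2,2,2,0,2,2,0,2,0,2,0,2,0,1,1,0,2,2,0,3,1,1,0,2,0,2,0,2,2,0,2,3,2,0,2]))) (Tr.node (Tr.node (Tr.leaf [0,1,1,0,1,1,0,1,1,0,1,1,1,1,1,1,1,1,1,0,2,2,0,2,0,1,0,1]) (Tr.leaf [1,0,2,2,0,1,0,2,0,1,0,1,1,3,1,1,1,1,1,3,0,1,0,2,0])) (Tr.node (Tr.leaf [0,2,0,1,0,2,0,1,0,2,2,2,0,2,0,2,0,2,0,2,0,2,2,0,1,0,2,0,2,0,1,1]) (Tr.leaf [])))) (Tr.node (Tr.node (Tr.node (Tr.leaf [1,0,2,2,0,1,0,1,0,2,0,1,0,2,0,2,0,1,1,0,2,0,1,0,2,0]) (Tr.leaf [1,1,1,1,1,0,2,2,2,0,1,0,2,0,1,0,2,0,1,0,2,2,2,0,2,2,0,2,2,0,1,1])) (Tr.node (Tr.leaf [1,0,2,2,2,0,1,0,2,0,1,1,1,0,2,0,2,2,2,2,0,1,0,2,0,1,1,1,1,0]) (Tr.leaf []))) (Tr.node (Tr.node (Tr.leaf [0,1,1,0,2,0,1,0,2,0,1,0,2,0,1,0,2,0,1,1,0,1,0,1,0,1,0,1,0,1]) (Tr.leaf [0,2,0,1,1,0,3,2,3,0,1,1,1,0,2,0,1,1,0,1,1,1,1,1,1,0,1,0,1,1,0,1,1,0,3,1,3])) (Tr.node (Tr.leaf [2,0,2,0,1,0,2,2,2,0,1,1,1,1,0,2,2,0,1,1,0,1,1,1,0,1,1,0,2,2,2,0]) (Tr.leaf []))))) (Tr.node (Tr.node (Tr.node (Tr.node (Tr.leaf [1,1,1,1,1,0,2,2,2,2,2,0,1,1,1,1,1,0,2,2,2,2,2,0]) (Tr.leaf [0,2,0,1,0,1,1,1,1,1,1,1,1,0,2,2,0,2,0,1,0,1,1,1,1,1,1,1,1,0,2,2])) (Tr.node (Tr.leaf [2,0,2,0,1,0,1,0,1,1,1,0,2,2,0,2,2,2,0,2,2,0,2,2,0,1,1,1,1,0]) (Tr.leaf []))) (Tr.node (Tr.node (Tr.leaf [1,1,0,2,2,2,2,0,2,0,1,0,1,1,1,1,0,2,2,2,2,0,2,0,1,0,1,1]) (Tr.leaf [2,0,1,0,1,0,1,3,1,1,0,2,2,0,2,0,2,0,1,0,1,1,0,1,0,2,2,0,1,3,2,0,1,0,1,0,2])) (Tr.node (Tr.leaf [1,1,0,1,0,1,0,2,0,2,2,0,2,2,0,2,2,0,2,2,2,2,0,2,2,0,2,0,1,0,1,0]) (Tr.leaf [])))) (Tr.node (Tr.node (Tr.node (Tr.leaf [0,2,2,2,2,0,2,0,1,1,1,1,1,0,2,2,2,2,2,0,1,0,1,1,1,1]) (Tr.leaf [1,1,1,0,1,0,2,0,1,1,1,0,1,0,2,0,1,1,1,0,1,0,2,0,1,1,1,0,1,0,2,0])) (Tr.node (Tr.leaf [0,1,1,1,1,0,2,2,2,2,0,1,1,1,0,2,0,2,0,2,0,2,0,2,0,2,0,2,2,2,2,2]) (Tr.leaf []))) (Tr.node (Tr.node (Tr.leaf [0,1,1,0,2,2,0,2,2,0,2,0,1,0,1,0,1,1,0,1,0,1,0,1,0,1,1,0,1,1]) (Tr.leaf [2,3,2,0,1,1,0,2,0,2,0,1,1,1,1,0,2,0,1,1,1,0,1,0,1,1,0,1,3,1,3,0,1,3,1,0,2,2,0,1,1,0,1,1,0,1,0,3])) (Tr.node (Tr.leaf [0,2,0,2,0,1,1,0,2,0,1,0,2,2,0,1,0,1,0,2,2,0,1,0,1,0,2,0,2,0,1,1]) (Tr.leaf []))))))) (Tr.node (Tr.node (Tr.node (Tr.node (Tr.node (Tr.node (Tr.leaf [0,1,0,2,0,1,0,2,0,1,0,2,0,1,0,2,0,1,0,2]) (Tr.leaf [2,2,2,2,2,2,0,2,2,0,2,0,1,0,2,0,2,2,0,2,2,0,2,2,0,2,2,2,2,2,2,2])) (Tr.node (Tr.leaf [2,0,2,0,2,0,1,1,0,1,0,2,0,1,0,2,0,2,2,0,1,0,1,0,1,0,2,0,1,0]) (Tr.leaf [1,0,1,0,2,2,2,2,0,2,2,0,2,0,2,0,2,0,1,1,0,2,2,0,3,1,1,0,2,0,2,0,2,2,0,2,3,2,0,2,0,2,3,0,1,1]))) (Tr.node (Tr.node (Tr.leaf [1,0,2,2,0,2,2,0,2,0,1,0,1,0,1,0,2,0,2,0,2,0,1,0,1,1,0,1]) (Tr.leaf [0,2,2,2,0,2,2,2,0,2,2,2,0,2,2,2,0,2,2,2,0,2,2,2,0,2,2,2,0,2,2,2])) (Tr.node (Tr.leaf [0,1,0,1,1,1,0,2,0,1,0,2,0,1,0,2,2,0,1,0,1,0,2,0,1,1,0,1,0,1,0,1]) (Tr.leaf [])))) (Tr.node (Tr.node (Tr.node (Tr.leaf [2,0,1,0,2,0,2,0,1,1,0,2,0,1,0,2,0,1,0,2,2,0,1,0,1,0]) (Tr.leaf [2,2,0,2,2,2,2,2,0,2,0,1,0,2,0,1,0,1,1,1,1,1,0,1,1,0,2,2,0,1,1,0])) (Tr.node (Tr.leaf [1,0,2,0,2,2,0,1,1,1,0,2,0,1,0,2,0,1,0,2,2,2,0,1,1,0,1,0,2,0]) (Tr.leaf []))) (Tr.node (Tr.node (Tr.leaf [0,1,1,0,1,0,1,0,1,0,1,0,1,0,1,0,1,1,0,1,0,1,0,1,0,1,0,1,0,1]) (Tr.leaf [0,2,2,0,2,2,0,2,0,2,2,2,2,2,2,0,2,2,0,1,0,2,2,2,0,3,1,3,0,2,2,0,1,0,3,2,3])) (Tr.node (Tr.leaf [2,0,1,1,1,0,2,0,1,0,1,0,1,1,1,0,2,2,0,2,2,2,0,2,2,0,1,1,0,2,2,2]) (Tr.leaf []))))) (Tr.node (Tr.node (Tr.node (Tr.node (Tr.leaf [1,0,1,1,0,1,1,0,1,1,0,1,1,0,1,1,0,1,1,0,1,1,0,1]) (Tr.leaf [0,2,2,2,2,2,2,2,2,0,2,0,1,0,1,1,0,2,2,2,2,2,2,2,2,0,2,0,1,0,1,1])) (Tr.node (Tr.leaf [1,1,0,2,2,0,2,2,2,0,2,2,0,2,2,0,1,1,1,1,0,2,0,2,0,1,0,1,0,1]) (Tr.leaf [1,2]))) (Tr.node (Tr.node (Tr.leaf [1,0,1,0,2,2,0,1,1,0,2,0,2,0,1,0,1,0,2,2,0,1,1,0,2,0,2,0]) (Tr.leaf [2,2,0,2,0,1,0,1,0,1,1,0,2,2,3,2,0,2,0,2,0,1,1,0,2,0,2,0,1,3,2,0,1,1,0,2,0])) (Tr.node (Tr.leaf [0,2,0,1,1,1,0,2,0,1,0,2,0,1,0,2,2,2,0,1,0,1,0,1,0,2,0,1,0,2,0,2]) (Tr.leaf [])))) (Tr.node (Tr.node (Tr.node (Tr.leaf [1,1,1,1,1,0,2,2,0,2,0,1,0,2,0,2,2,0,2,2,0,2,2,0,1,1]) (Tr.leaf [2,2,0,1,1,0,2,0,1,0,2,0,2,2,0,2,2,0,2,2,0,1,1,1,0,1,1,1,1,0,2,2])) (Tr.node (Tr.leaf [0,2,2,2,0,1,1,1,1,0,2,2,2,2,0,1,1,1,1,1,0,1,0,1,0,1,0,1,0,1,0,1]) (Tr.leaf []))) (Tr.node (Tr.node (Tr.leaf [2,0,1,0,1,0,2,0,1,0,2,0,2,2,0,2,0,2,0,2,0,2,0,2,2,0,1,0,2,0]) (Tr.leaf [0,2,3,2,0,1,0,1,1,1,1,0,2,0,1,0,2,0,1,1,0,1,0,2,2,3,1,0,1,0,1,1,1,0,2,3,1])) (Tr.node (Tr.leaf [2,2,0,2,0,2,0,2,2,0,1,0,1,1,1,0,2,0,1,0,1,1,1,0,2,0,2,2,2,2,2,2]) (Tr.leaf [])))))) (Tr.node (Tr.node (Tr.node (Tr.node (Tr.node (Tr.leaf [2,2,2,2,2,2,2,2,2,2,2,2,2,2,2,2,2,2,2,2]) (Tr.leaf [1,0,1,1,0,2,2,2,0,2,2,2,2,0,1,1,1,1,0,2,2,0,1,1,0,1,1,0,1,0,2,0])) (Tr.node (Tr.leaf [0,2,0,1,0,1,1,0,1,1,1,1,1,1,1,1,1,1,1,0,2,2,0,2,2,0,2,2,0,2]) (Tr.leaf [2,2,0,1,1,1,0,2,3,2,2,2,0,2,2,2,0,2,0,2,0,2,0,1,1,1,0,2,2,0,1,0,3,1,0,2,2,2,2,0,2,2,3,1,0,1,0]))) (Tr.node (Tr.node (Tr.leaf [1,1,0,2,2,0,2,0,1,0,1,0,1,1,0,1,1,0,1,1,0,1,1,1,1,1,1,1]) (Tr.leaf [0,2,0,1,0,2,0,3,2,2,2,2,2,3,2,2,0,2,0,1,0,2,0,1,1])) (Tr.node (Tr.leaf [1,0,2,0,2,2,0,1,0,1,0,1,0,2,0,1,1,0,1,0,1,0,1,0,1,1,1,0,1,0,2,0]) (Tr.leaf [])))) (Tr.node (Tr.node (Tr.node (Tr.leaf [2,2,2,2,2,2,2,0,1,1,0,1,1,0,1,1,0,1,0,2,0,1,0,1,1,0]) (Tr.leaf [0,2,0,1,0,2,0,1,1,1,0,2,2,2,2,2,2,2,0,1,1,0,1,1,0,1,1,1,0,2,0,1])) (Tr.node (Tr.leaf [0,2,2,2,2,0,1,1,1,1,0,2,2,2,0,1,0,1,0,1,0,1,0,1,0,1,0,1,1,1,1,1]) (Tr.leaf []))) (Tr.node (Tr.node (Tr.leaf [0,1,0,2,0,1,0,2,2,0,2,0,2,0,2,0,2,0,2,0,2,2,0,1,0,2,0,1,0,2]) (Tr.leaf [2,2,2,0,2,0,2,3,1,1,0,2,0,2,2,0,1,0,2,0,1,0,2,2,2,2,0,2,0,1,3,1,0,2,3,1,0])) (Tr.node (Tr.leaf [2,0,2,0,2,0,1,0,1,0,1,1,1,0,2,2,2,0,1,0,2,0,1,0,2,0,1,1,1,0,2,2]) (Tr.leaf []))))) (Tr.node (Tr.node (Tr.node (Tr.node (Tr.leaf [1,1,0,2,2,2,2,2,0,1,1,1,1,1,0,2,2,2,2,2,0,1,1,1]) (Tr.leaf [1,0,2,0,2,2,2,2,0,1,0,1,1,1,0,1,0,2,2,2,2,2,0,1,1,0,1,0,2,0,1,1])) (Tr.node (Tr.leaf [2,0,2,0,2,0,1,0,1,0,2,2,2,2,0,1,1,0,1,1,0,1,1,1,0,1,1,0,2,2]) (Tr.leaf []))) (Tr.node (Tr.node (Tr.leaf [1,0,2,0,1,0,2,0,2,2,0,1,1,0,1,0,2,0,1,0,2,0,2,2,0,1,1,0]) (Tr.leaf [1,1,0,1,0,2,0,1,0,2,2,2,0,1,1,0,2,2,0,1,3,1,3,2,2,2,2,3,2,3,2,0])) (Tr.node (Tr.leaf [0,1,1,0,1,1,1,1,0,1,1,0,1,1,0,1,1,0,1,0,2,0,2,0,2,2,0,2,0,2,0,1]) (Tr.leaf [])))) (Tr.node (Tr.node (Tr.node (Tr.leaf [2,2,2,2,2,0,1,1,1,1,1,0,2,0,2,2,2,2,0,1,1,1,1,0,1,0]) (Tr.leaf [2,2,2,2,0,1,0,2,0,1,1,1,1,1,0,2,2,2,2,2,0,1,0,2,0,1,1,1,1,1,0,2])) (Tr.node (Tr.leaf [0,2,0,2,2,2,2,2,0,1,1,1,1,0,2,2,2,2,0,1,1,1,0,2,0,2,0,2,0,2,0,2]) (Tr.leaf []))) (Tr.node (Tr.node (Tr.leaf [2,2,0,2,2,0,2,0,2,0,2,0,2,2,0,2,0,2,0,1,0,1,1,0,1,1,0,2,2,0]) (Tr.leaf [2,2,0,2,2,0,1,1,0,2,3,2,0,3,2,3,2,0,2,2,0,2,0,2,2,2,0,1,0,2,2,2,2,0,1,0,1,0,2,2,0,1,3,1,3,0,2,0])) (Tr.node (Tr.leaf [2,2,2,2,0,1,0,2,0,1,1,1,1,1,1,0,1,0,1,1,0,1,0,2,0,2,2,0,2,0,2,2]) (Tr.leaf [])))))))) (Tr.node (Tr.node (Tr.node (Tr.node (Tr.node (Tr.node (Tr.node (Tr.leaf [0,1,0,2,0,1,0,2,0,1,0,2,0,1,0,2,0,1,0,2]) (Tr.leaf [0,1,1,0,1,1,0,1,0,2,0,1,0,1,1,0,1,1,1,1,1,1,1,1,1,1,1,1,1,0,1,1])) (Tr.node (Tr.leaf [0,1,0,2,0,2,2,0,1,0,1,0,1,0,2,0,1,0,2,0,2,0,2,0,1,1,0,1,0,2]) (Tr.leaf [1,0,2,2,0,1,0,1,0,1,0,1,1,0,1,1,1,1,0,2,0,2,2,2,0,3,1,0,1,0,1,3,1,0,1,1,0,1,0,1,0,2,2,3,0,1]))) (Tr.node (Tr.node (Tr.leaf [0,2,0,1,0,1,1,0,1,1,0,2,2,0,2,2,0,2,0,1,0,1,0,1,0,2,0,2]) (Tr.leaf [0,2,2,0,1,1,0,1,1,0,2,2,0,1,1,0,1,1,1,0,2,2,2,0,2,2,0,1,1,0,2,2])) (Tr.node (Tr.leaf [0,2,0,2,0,1,0,1,1,0,1,1,0,1,1,1,1,1,1,1,1,1,0,2,2,0,2,2,0,2,0,2]) (Tr.leaf [])))) (Tr.node (Tr.node (Tr.node (Tr.leaf [2,2,2,0,2,2,2,2,0,2,2,2,2,0,2,2,2,2,0,2,2,2,2,0,2]) (Tr.leaf [1,0,1,1,0,2,2,0,1,1,0,2,2,0,2,2,2,2,2,0,2,0,1,0,2,0,1,0,1,1,1,1])) (Tr.node (Tr.leaf [0,2,0,1,0,2,0,1,0,2,2,2,0,1,1,0,1,0,2,0,1,0,2,0,2,2,0,1,1,1]) (Tr.leaf []))) (Tr.node (Tr.node (Tr.leaf [0,2,2,2,2,0,1,1,1,1,0,1,0,2,0,2,2,2,2,0,1,1,1,1,0,1,0,2]) (Tr.leaf [3,0,2,2,0,1,0,3,2,3,0,2,2,0,2,2,0,2,0,2,2,2,2,2,2,0,2,2,0,1,0,2,2,2,0,3,1])) (Tr.node (Tr.leaf [0,2,2,0,1,1,0,2,2,2,2,0,1,1,1,0,2,0,1,0,1,0,1,1,1,0,2,2,0,2,2,2]) (Tr.leaf []))))) (Tr.node (Tr.node (Tr.node (Tr.node (Tr.leaf [1,0,2,0,1,0,2,0,2,0,1,0,1,0,2,0,1,0,2,0,2,0,1,0]) (Tr.leaf [2,2,2,0,1,1,1,1,0,1,1,1,0,2,2,0,2,0,1,0,2,0,2,2,0,2,2,0,1,1,0,2])) (Tr.node (Tr.leaf [0,2,0,1,0,1,1,0,2,2,2,0,2,0,2,0,1,0,1,0,1,1,1,0,2,2,0,2,0,1]) (Tr.leaf [1,0,1,1,1,1,0,2,3,0,2,0,1,1,0,2,2,2,0,1,0,1,0,1,0,1,1,1,0,1,1,1,3,1,0,2,2,2,0,1,1,0,2,0,2,3,1]))) (Tr.node (Tr.node (Tr.leaf [2,0,1,0,1,1,0,2,2,2,2,2,2,2,2,2,0,2,2,0,2,2,0,2,2,0,2,0]) (Tr.leaf [1,3,2,0,1,1,0,2,0,2,2,0,2,0,1,0,1,0,1,1,0,2,2,3,2,0,2,0,2,0,1,1,0,2,0,2,0])) (Tr.node (Tr.leaf [0,1,0,2,0,2,0,2,0,1,0,1,0,1,0,2,0,1,0,2,0,2,0,2,0,1,0,1,0,1,0,2]) (Tr.leaf [])))) (Tr.node (Tr.node (Tr.node (Tr.leaf [2,2,0,2,2,0,1,1,1,1,1,1,1,0,2,2,0,2,0,1,0,2,0,2,2,0]) (Tr.leaf [2,2,0,1,1,1,0,1,1,1,1,0,2,2,2,2,0,1,1,0,2,0,1,0,2,0,2,2,0,2,2,0])) (Tr.node (Tr.leaf [0,2,0,2,0,2,0,1,1,1,0,2,2,2,2,0,1,1,1,1,0,2,2,2,2,2,0,2,0,2,0,2]) (Tr.leaf []))) (Tr.node (Tr.node (Tr.leaf [0,1,0,2,0,1,1,0,1,0,1,0,1,0,1,0,1,1,0,1,0,2,0,1,0,2,0,2,0,1]) (Tr.leaf [1,0,1,1,1,0,2,3,1,0,2,3,2,0,1,0,1,1,1,1,0,2,0,1,0,2,0,1,1,0,1,0,2,2,3,1,0])) (Tr.node (Tr.leaf [0,1,1,1,0,2,0,2,2,2,2,2,2,2,2,0,2,0,2,0,2,2,0,1,0,1,1,1,0,2,0,1]) (Tr.leaf [])))))) (Tr.node (Tr.node (Tr.node (Tr.node (Tr.node (Tr.leaf [0,2,2,2,2,0,1,1,1,1,0,2,2,2,2,0,1,1,1,1]) (Tr.leaf [1,0,1,1,0,2,2,0,1,1,0,2,2,0,2,0,1,0,1,1,0,2,2,0,1,1,0,2,2,0,2,0])) (Tr.node (Tr.leaf [1,1,1,1,0,2,2,0,2,2,0,2,2,0,2,0,2,0,1,0,1,1,0,1,1,1,1,1,1,1]) (Tr.leaf [2,2,0,2,2,3,1,0,1,0,2,2,0,1,1,1,0,2,3,2,2,2,0,2,2,2,0,2,0,2,0,2,0,1,1,1,0,2,2,0,1,0,3,1,0,2,2]))) (Tr.node (Tr.node (Tr.leaf [1,0,1,1,1,1,1,1,1,1,1,0,2,2,0,2,0,1,0,1,0,1,1,0,1,1,0,1]) (Tr.leaf [1,3,1,1,1,1,1,3,0,1,0,2,0,1,0,2,2,0,1,0,2,0,1,0,1])) (Tr.node (Tr.leaf [0,1,0,1,0,1,0,1,1,1,0,1,0,2,0,1,0,2,0,2,2,0,1,0,1,0,1,0,2,0,1,1]) (Tr.leaf [])))) (Tr.node (Tr.node (Tr.node (Tr.leaf [0,2,0,1,0,2,0,2,0,1,1,0,2,0,1,0,2,0,1,0,2,2,0,1,0,1]) (Tr.leaf [2,2,2,2,2,0,1,1,0,1,1,0,1,1,1,0,2,0,1,0,2,0,1,0,2,0,1,1,1,0,2,2])) (Tr.node (Tr.leaf [1,1,0,2,2,0,1,1,0,2,2,0,1,1,0,2,2,0,1,1,0,2,2,0,1,1,0,2,2,0]) (Tr.leaf []))) (Tr.node (Tr.node (Tr.leaf [0,1,0,2,0,1,1,0,1,0,1,0,1,0,1,0,1,0,1,1,0,2,0,1,0,2,0,1,0,2]) (Tr.leaf [3,0,1,1,1,0,2,0,1,1,0,1,1,1,1,1,1,0,1,0,1,1,0,1,1,0,3,1,3,0,2,0,1,1,0,3,2])) (Tr.node (Tr.leaf [0,2,0,1,0,2,0,1,1,1,0,2,2,2,0,2,0,2,0,1,0,1,0,1,1,1,0,2,2,2,0,1]) (Tr.leaf []))))) (Tr.node (Tr.node (Tr.node (Tr.node (Tr.leaf [2,2,2,0,1,1,1,1,1,0,2,2,2,2,2,0,1,1,1,1,1,0,2,2]) (Tr.leaf [2,2,2,2,2,0,1,1,0,1,0,2,0,1,1,1,0,2,0,2,2,2,2,0,1,0,1,1,1,0,1,0])) (Tr.node (Tr.leaf [1,0,1,1,1,0,1,1,0,2,2,2,0,2,0,2,0,1,0,1,0,2,2,2,2,0,1,1,0,1]) (Tr.leaf []))) (Tr.node (Tr.node (Tr.leaf [1,0,2,0,1,0,2,0,2,2,0,1,1,0,1,0,2,0,1,0,2,0,2,2,0,1,1,0]) (Tr.leaf [2,2,2,3,2,3,2,0,1,1,0,1,0,2,0,1,0,2,2,2,0,1,1,0,2,2,0,1,3,1,3,2])) (Tr.node (Tr.leaf [2,2,0,2,2,2,2,0,2,2,0,2,0,1,0,1,0,1,1,0,1,0,1,0,2,0,2,2,0,2,2,0]) (Tr.leaf [])))) (Tr.node (Tr.node (Tr.node (Tr.leaf [1,1,1,1,0,2,2,2,2,2,0,1,0,1,1,1,1,0,2,2,2,2,0,2,0,1]) (Tr.leaf [1,1,1,1,1,0,2,2,2,2,2,0,1,0,2,0,1,1,1,1,1,0,2,2,2,2,2,0,1,0,2,0])) (Tr.node (Tr.leaf [0,2,0,2,0,2,0,2,0,2,0,2,0,2,2,2,2,2,0,1,1,1,1,0,2,2,2,2,0,1,1,1]) (Tr.leaf []))) (Tr.node (Tr.node (Tr.leaf [2,0,2,0,2,0,1,0,1,1,0,1,1,0,2,2,0,2,2,0,2,2,0,2,0,2,0,2,0,2]) (Tr.leaf [0,2,2,0,2,0,2,2,2,0,1,0,2,2,2,2,0,1,0,1,0,2,2,0,1,3,1,3,0,2,0,2,2,0,2,2,0,1,1,0,2,3,2,0,3,2,3,2])) (Tr.node (Tr.leaf [2,0,2,2,0,2,0,2,2,2,2,2,2,0,1,0,2,0,1,1,1,1,1,1,0,1,0,1,1,0,1,0]) (Tr.leaf []))))))) (Tr.node (Tr.node (Tr.node (Tr.node (Tr.node (Tr.node (Tr.leaf [1,0,2,2,2,2,0,1,1,1,1,0,2,2,2,2,0,1,1,1]) (Tr.leaf [2,0,1,0,2,0,1,0,2,2,0,2,0,1,1,0,1,0,2,0,1,0,2,0,2,2,0,1,0,1,1,0])) (Tr.node (Tr.leaf [2,2,2,2,2,2,2,2,2,2,0,2,2,0,2,0,1,0,1,0,1,1,0,1,1,0,1,1,0,2]) (Tr.leaf [2,0,2,0,2,2,0,2,3,2,0,2,0,2,3,0,1,1,1,0,1,0,2,2,2,2,0,2,2,0,2,0,2,0,2,0,1,1,0,2,2,0,3,1,1,0]))) (Tr.node (Tr.node (Tr.leaf [2,0,1,0,1,0,1,0,2,0,2,0,2,0,1,0,1,1,0,1,1,0,2,2,0,2,2,0]) (Tr.leaf [1,1,3,0,1,0,2,0,1,0,2,2,0,1,0,2,0,1,0,1,1,3,1,1,1])) (Tr.node (Tr.leaf [2,0,1,1,0,1,0,1,0,1,0,1,0,1,1,1,0,2,0,1,0,2,0,1,0,2,2,0,1,0,1,0]) (Tr.leaf [])))) (Tr.node (Tr.node (Tr.node (Tr.leaf [1,0,2,0,1,0,2,0,1,0,2,2,0,1,0,1,0,2,0,1,0,2,0,2,0,1]) (Tr.leaf [2,0,2,0,1,0,2,0,1,0,1,1,1,1,1,0,1,1,0,2,2,0,1,1,0,2,2,0,2,2,2,2])) (Tr.node (Tr.leaf [2,2,2,0,1,0,2,0,1,1,1,1,0,1,0,2,2,2,0,1,0,2,0,1,1,1,0,2,0,2]) (Tr.leaf []))) (Tr.node (Tr.node (Tr.leaf [0,2,2,0,2,0,2,0,2,0,2,0,2,0,2,0,2,2,0,2,0,2,0,2,0,2,0,2,0,2]) (Tr.leaf [1,1,1,0,2,0,1,1,0,1,1,1,1,1,1,0,1,0,1,1,0,1,1,0,3,1,3,0,2,0,1,1,0,3,2,3,0])) (Tr.node (Tr.leaf [1,1,0,2,2,0,1,1,0,1,1,1,0,1,1,0,2,2,2,0,2,0,2,0,1,0,2,2,2,0,1,1]) (Tr.leaf []))))) (Tr.node (Tr.node (Tr.node (Tr.node (Tr.leaf [0,2,2,0,2,2,0,2,2,0,2,2,0,2,2,0,2,2,0,2,2,0,2,2]) (Tr.leaf [2,2,2,2,2,2,2,0,2,0,1,0,1,1,0,2,2,2,2,2,2,2,2,0,2,0,1,0,1,1,0,2])) (Tr.node (Tr.leaf [0,2,2,0,1,1,1,1,0,2,0,2,0,1,0,1,0,1,1,1,0,2,2,0,2,2,2,0,2,2]) (Tr.leaf []))) (Tr.node (Tr.node (Tr.leaf [0,1,1,0,2,0,2,0,1,0,1,0,2,2,0,1,1,0,2,0,2,0,1,0,1,0,2,2]) (Tr.leaf [0,1,3,2,0,1,0,1,0,2,2,0,1,0,1,0,1,3,1,1,0,2,2,0,2,0,2,0,1,0,1,1,0,1,0,2,2])) (Tr.node (Tr.leaf [2,0,1,0,2,0,1,0,2,2,2,0,1,0,1,0,1,0,2,0,1,0,2,0,2,0,2,0,1,1,1,0]) (Tr.leaf [])))) (Tr.node (Tr.node (Tr.node (Tr.leaf [2,0,1,0,2,0,2,2,0,2,2,0,2,2,0,1,1,1,1,1,1,1,0,2,2,0]) (Tr.leaf [2,0,1,0,2,0,1,0,2,2,2,0,1,1,1,0,2,0,1,0,2,0,1,0,2,2,2,0,1,1,1,0])) (Tr.node (Tr.leaf [2,2,2,2,0,1,1,1,1,1,0,1,0,1,0,1,0,1,0,1,0,1,0,2,2,2,0,1,1,1,1,0]) (Tr.leaf []))) (Tr.node (Tr.node (Tr.leaf [2,0,2,0,2,2,0,1,0,2,0,2,0,1,0,1,0,2,0,1,0,2,0,2,2,0,2,0,2,0]) (Tr.leaf [1,0,2,2,0,1,1,0,1,1,0,1,0,3,2,3,2,0,1,1,0,2,0,2,0,1,1,1,1,0,2,0,1,1,1,0,1,0,1,1,0,1,3,1,3,0,1,3])) (Tr.node (Tr.leaf [2,0,1,1,0,2,0,2,0,1,1,0,2,0,1,0,2,2,0,1,0,1,0,2,2,0,1,0,1,0,2,0]) (Tr.leaf [])))))) (Tr.node (Tr.node (Tr.node (Tr.node (Tr.node (Tr.leaf [1,0,2,0,1,0,2,0,2,0,1,0,1,0,2,0,1,0,2,0,2,0,1,0]) (Tr.leaf [1,1,0,2,2,0,1,1,0,1,1,0,1,0,2,0,1,0,1,1,0,2,2,2,0,2,2,2,2,0,1,1])) (Tr.node (Tr.leaf [0,1,0,2,0,1,0,1,1,0,2,2,2,0,2,0,2,0,1,0,1,0,1,1,1,0,2,2,0,2]) (Tr.leaf [2,0,1,1,0,2,2,2,0,1,0,1,0,1,0,1,1,1,0,1,1,1,3,1,0,2,2,2,0,1,1,0,2,0,2,3,1,1,0,1,1,1,1,0,2,3,0]))) (Tr.node (Tr.node (Tr.leaf [2,2,2,2,2,2,2,2,0,2,2,0,2,2,0,2,2,0,2,0,2,0,1,0,1,1,0,2]) (Tr.leaf [2,2,2,2,3,2,2,0,2,0,1,0,2,0,1,1,0,2,0,1,0,2,0,3,2])) (Tr.node (Tr.leaf [1,0,1,0,1,0,1,0,1,1,1,0,1,0,2,0,1,0,2,0,2,2,0,1,0,1,0,1,0,2,0,1]) (Tr.leaf [])))) (Tr.node (Tr.node (Tr.node (Tr.leaf [1,1,0,1,1,0,1,1,0,1,0,2,0,1,0,1,1,0,2,2,2,2,2,2,2,0]) (Tr.leaf [1,1,1,0,2,2,2,2,0,2,2,2,0,1,1,0,1,1,0,1,1,0,1,0,2,0,1,0,2,2,0,1])) (Tr.node (Tr.leaf [1,0,2,2,2,0,1,0,1,0,1,0,1,0,1,0,1,0,1,1,1,1,1,0,2,2,2,2,0,1,1,1]) (Tr.leaf []))) (Tr.node (Tr.node (Tr.leaf [0,2,0,2,0,2,2,0,1,0,2,0,1,0,2,0,1,0,2,0,1,0,2,2,0,2,0,2,0,2]) (Tr.leaf [2,0,2,2,0,1,0,2,0,1,0,2,2,2,2,0,2,0,1,3,1,0,2,3,1,0,2,2,2,0,2,0,2,3,1,1,0])) (Tr.node (Tr.leaf [1,0,1,0,2,2,2,0,2,0,1,0,2,2,2,0,2,0,1,1,0,1,0,1,0,1,1,1,1,1,1,1]) (Tr.leaf []))))) (Tr.node (Tr.node (Tr.node (Tr.node (Tr.leaf [1,1,0,1,1,1,1,0,1,1,1,1,0,1,1,1,1,0,1,1,1,1,0,1,1]) (Tr.leaf [0,2,2,2,0,1,0,2,0,2,2,0,1,1,1,1,1,0,2,0,2,2,2,0,2,0,1,1,1,1,0,1])) (Tr.node (Tr.leaf [0,1,1,0,2,0,2,0,1,0,1,0,2,2,0,1,0,1,0,2,0,2,0,1,0,1,0,2,0,2]) (Tr.leaf []))) (Tr.node (Tr.node (Tr.leaf [0,1,1,0,2,0,1,0,2,0,1,0,2,2,0,1,1,0,2,0,1,0,2,0,1,0,2,2]) (Tr.leaf [1,1,0,2,2,0,1,1,1,0,2,0,1,0,2,0,2,2,0,1,3,1,3,1,1,1,1,3,2,3,2,0])) (Tr.node (Tr.leaf [1,0,1,1,0,1,1,0,1,0,2,0,2,0,2,2,0,2,0,2,0,1,0,1,1,0,1,1,1,1,0,1]) (Tr.leaf [])))) (Tr.node (Tr.node (Tr.node (Tr.leaf [2,0,2,2,2,2,0,1,1,1,1,0,1,0,2,2,2,2,2,0,1,1,1,1,1,0]) (Tr.leaf [0,1,1,1,1,1,0,2,0,1,0,2,2,2,2,2,0,1,1,1,1,1,0,2,0,1,0,2,2,2,2,2])) (Tr.node (Tr.leaf [2,0,2,2,0,2,2,0,2,0,1,0,1,0,1,0,1,0,1,1,0,1,1,0,2,2,2,2,2,2,2,2]) (Tr.leaf []))) (Tr.node (Tr.node (Tr.leaf [0,1,0,2,0,1,0,2,0,2,0,2,0,1,1,0,1,0,2,0,1,0,2,0,2,2,0,1,0,1]) (Tr.leaf [3,2,0,2,2,0,2,0,2,2,2,0,1,0,2,2,2,2,0,1,0,1,0,2,2,0,1,3,1,3,0,2,0,2,2,0,2,2,0,1,1,0,2,3,2,0,3,2])) (Tr.node (Tr.leaf [2,2,2,0,1,0,2,0,1,1,1,1,1,1,0,1,0,1,1,0,1,0,2,0,2,2,0,2,0,2,2,2]) (Tr.leaf []))))))))))))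

/-- The witnesses of the rotations. -/
noncomputable def witT : Tr (Nat × Nat × Bool) := (Tr.node (Tr.node (Tr.node (Tr.node (Tr.node (Tr.node (Tr.node (Tr.node (Tr.node (Tr.node (Tr.node (Tr.leaf (0,0,false)) (Tr.leaf (51,6,true))) (Tr.node (Tr.leaf (30,5,false)) (Tr.leaf (73,0,false)))) (Tr.node (Tr.node (Tr.leaf (18,18,false)) (Tr.leaf (64,26,true))) (Tr.node (Tr.leaf (40,28,false)) (Tr.leaf (0,0,false))))) (Tr.node (Tr.node (Tr.node (Tr.leaf (14,15,false)) (Tr.leaf (57,9,true))) (Tr.node (Tr.leaf (34,17,false)) (Tr.leaf (0,0,false)))) (Tr.node (Tr.node (Tr.leaf (24,10,false)) (Tr.leaf (69,4,true))) (Tr.node (Tr.leaf (45,12,true)) (Tr.leaf (0,0,false)))))) (Tr.node (Tr.node (Tr.node (Tr.node (Tr.leaf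 (11,5,false)) (Tr.leaf (55,18,false))) (Tr.node (Tr.leaf (32,15,false)) (Tr.leaf (74,2,true)))) (Tr.node (Tr.node (Tr.leaf (20,7,true)) (Tr.leaf (67,21,true))) (Tr.node (Tr.leaf (42,0,true)) (Tr.leaf (0,0,false))))) (Tr.node (Tr.node (Tr.node (Tr.leaf (16,15,false)) (Tr.leaf (60,13,false))) (Tr.node (Tr.leaf (38,29,false)) (Tr.leaf (0,0,false)))) (Tr.node (Tr.node (Tr.leaf (27,26,true)) (Tr.leaf (71,19,false))) (Tr.node (Tr.leaf (48,16,false)) (Tr.leaf (0,0,false))))))) (Tr.node (Tr.node (Tr.node (Tr.node (Tr.node (Tr.leaf (9,5,false)) (Tr.leaf (53,7,false))) (Tr.node (Tr.leaf (31,17,false)) (Tr.leaf (73,32,true)))) (Tr.node (Tr.node (Tr.leaf (19,2,true)) (Tr.leaf (67,5,false))) (Tr.node (Tr.leaf (41,29,false))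 (Tr.leaf (0,0,false))))) (Tr.node (Tr.node (Tr.node (Tr.leaf (15,15,false)) (Tr.leaf (59,6,false))) (Tr.node (Tr.leaf (36,13,false)) (Tr.leaf (0,0,false)))) (Tr.node (Tr.node (Tr.leaf (27,0,false)) (Tr.leaf (70,2,true))) (Tr.node (Tr.leaf (46,10,true)) (Tr.leaf (0,0,false)))))) (Tr.node (Tr.node (Tr.node (Tr.node (Tr.leaf (12,13,true)) (Tr.leaf (56,24,false))) (Tr.node (Tr.leaf (33,19,false)) (Tr.leaf (0,0,false)))) (Tr.node (Tr.node (Tr.leaf (21,21,true)) (Tr.leaf (68,22,true))) (Tr.node (Tr.leaf (44,6,true)) (Tr.leaf (0,0,false))))) (Tr.node (Tr.node (Tr.node (Tr.leaf (16,25,true)) (Tr.leaf (62,1,false))) (Tr.node (Tr.leaf (39,28,false)) (Tr.leaf (0,0,false)))) (Tr.node (Tr.node (Tr.leaf (28,27,true))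 (Tr.leaf (72,7,false))) (Tr.node (Tr.leaf (50,15,false)) (Tr.leaf (0,0,false)))))))) (Tr.node (Tr.node (Tr.node (Tr.node (Tr.node (Tr.node (Tr.leaf (8,1,false)) (Tr.leaf (52,23,false))) (Tr.node (Tr.leaf (30,24,false)) (Tr.leaf (73,22,false)))) (Tr.node (Tr.node (Tr.leaf (19,11,false)) (Tr.leaf (65,30,false))) (Tr.node (Tr.leaf (40,30,true)) (Tr.leaf (0,0,false))))) (Tr.node (Tr.node (Tr.node (Tr.leaf (14,22,true)) (Tr.leaf (58,10,false))) (Tr.node (Tr.leaf (35,16,false)) (Tr.leaf (0,0,false)))) (Tr.node (Tr.node (Tr.leaf (26,9,false)) (Tr.leaf (70,3,false))) (Tr.node (Tr.leaf (46,16,false)) (Tr.leaf (0,0,false)))))) (Tr.node (Tr.node (Tr.node (Tr.node (Tr.leaf (11,7,true)) (Tr.leaf (55,16,true))) (Tr.node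 (Tr.leaf (32,15,true)) (Tr.leaf (74,39,true)))) (Tr.node (Tr.node (Tr.leaf (21,2,false)) (Tr.leaf (68,15,false))) (Tr.node (Tr.leaf (43,25,false)) (Tr.leaf (0,0,false))))) (Tr.node (Tr.node (Tr.node (Tr.leaf (16,8,true)) (Tr.leaf (60,8,true))) (Tr.node (Tr.leaf (38,26,true)) (Tr.leaf (0,0,false)))) (Tr.node (Tr.node (Tr.leaf (28,26,false)) (Tr.leaf (71,26,true))) (Tr.node (Tr.leaf (48,13,true)) (Tr.leaf (0,0,false))))))) (Tr.node (Tr.node (Tr.node (Tr.node (Tr.node (Tr.leaf (9,16,true)) (Tr.leaf (54,18,false))) (Tr.node (Tr.leaf (31,14,true)) (Tr.leaf (74,7,false)))) (Tr.node (Tr.node (Tr.leaf (20,13,false)) (Tr.leaf (67,0,true))) (Tr.node (Tr.leaf (42,2,false)) (Tr.leaf (0,0,false))))) (Tr.node (Tr.node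 (Tr.node (Tr.leaf (15,20,true)) (Tr.leaf (59,8,true))) (Tr.node (Tr.leaf (38,1,false)) (Tr.leaf (0,0,false)))) (Tr.node (Tr.node (Tr.leaf (27,24,false)) (Tr.leaf (71,0,false))) (Tr.node (Tr.leaf (47,15,false)) (Tr.leaf (0,0,false)))))) (Tr.node (Tr.node (Tr.node (Tr.node (Tr.leaf (13,10,false)) (Tr.leaf (57,10,false))) (Tr.node (Tr.leaf (33,16,true)) (Tr.leaf (0,0,false)))) (Tr.node (Tr.node (Tr.leaf (23,2,false)) (Tr.leaf (69,5,false))) (Tr.node (Tr.leaf (45,21,false)) (Tr.leaf (0,0,false))))) (Tr.node (Tr.node (Tr.node (Tr.leaf (17,19,false)) (Tr.leaf (63,6,false))) (Tr.node (Tr.leaf (39,20,true)) (Tr.leaf (0,0,false)))) (Tr.node (Tr.node (Tr.leaf (29,2,true)) (Tr.leaf (72,3,true))) (Tr.node (Tr.leaf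 (51,9,false)) (Tr.leaf (0,0,false))))))))) (Tr.node (Tr.node (Tr.node (Tr.node (Tr.node (Tr.node (Tr.node (Tr.leaf (7,15,false)) (Tr.leaf (52,8,false))) (Tr.node (Tr.leaf (30,13,false)) (Tr.leaf (73,8,false)))) (Tr.node (Tr.node (Tr.leaf (19,2,false)) (Tr.leaf (65,21,false))) (Tr.node (Tr.leaf (40,13,true)) (Tr.leaf (0,0,false))))) (Tr.node (Tr.node (Tr.node (Tr.leaf (14,5,true)) (Tr.leaf (57,26,true))) (Tr.node (Tr.leaf (34,29,true)) (Tr.leaf (0,0,false)))) (Tr.node (Tr.node (Tr.leaf (24,24,false)) (Tr.leaf (69,27,true))) (Tr.node (Tr.leaf (45,27,true)) (Tr.leaf (0,0,false)))))) (Tr.node (Tr.node (Tr.node (Tr.node (Tr.leaf (11,14,false)) (Tr.leaf (55,3,true))) (Tr.node (Tr.leaf (32,26,false)) (Tr.leaf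 (74,27,true)))) (Tr.node (Tr.node (Tr.leaf (20,17,true)) (Tr.leaf (68,4,false))) (Tr.node (Tr.leaf (42,22,true)) (Tr.leaf (0,0,false))))) (Tr.node (Tr.node (Tr.node (Tr.leaf (16,24,false)) (Tr.leaf (60,27,false))) (Tr.node (Tr.leaf (38,12,true)) (Tr.leaf (0,0,false)))) (Tr.node (Tr.node (Tr.leaf (28,6,false)) (Tr.leaf (71,4,true))) (Tr.node (Tr.leaf (48,2,true)) (Tr.leaf (0,0,false))))))) (Tr.node (Tr.node (Tr.node (Tr.node (Tr.node (Tr.leaf (9,17,false)) (Tr.leaf (53,20,false))) (Tr.node (Tr.leaf (31,1,true)) (Tr.leaf (73,44,true)))) (Tr.node (Tr.node (Tr.leaf (20,5,false)) (Tr.leaf (67,13,false))) (Tr.node (Tr.leaf (41,14,true)) (Tr.leaf (0,0,false))))) (Tr.node (Tr.node (Tr.node (Tr.leaf (15,23,false))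 (Tr.leaf (59,26,false))) (Tr.node (Tr.leaf (36,29,false)) (Tr.leaf (0,0,false)))) (Tr.node (Tr.node (Tr.leaf (27,12,false)) (Tr.leaf (70,29,true))) (Tr.node (Tr.leaf (46,29,true)) (Tr.leaf (0,0,false)))))) (Tr.node (Tr.node (Tr.node (Tr.node (Tr.leaf (13,2,false)) (Tr.leaf (56,31,true))) (Tr.node (Tr.leaf (33,28,false)) (Tr.leaf (0,0,false)))) (Tr.node (Tr.node (Tr.leaf (22,20,false)) (Tr.leaf (68,30,true))) (Tr.node (Tr.leaf (45,7,false)) (Tr.leaf (0,0,false))))) (Tr.node (Tr.node (Tr.node (Tr.leaf (17,8,false)) (Tr.leaf (62,5,true))) (Tr.node (Tr.leaf (39,6,true)) (Tr.leaf (0,0,false)))) (Tr.node (Tr.node (Tr.leaf (29,15,false)) (Tr.leaf (72,21,false))) (Tr.node (Tr.leaf (50,27,true)) (Tr.leaf (0,0,false))))))))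 (Tr.node (Tr.node (Tr.node (Tr.node (Tr.node (Tr.node (Tr.leaf (8,18,false)) (Tr.leaf (52,25,true))) (Tr.node (Tr.leaf (30,27,true)) (Tr.leaf (73,4,true)))) (Tr.node (Tr.node (Tr.leaf (19,20,false)) (Tr.leaf (66,27,true))) (Tr.node (Tr.leaf (41,7,false)) (Tr.leaf (0,0,false))))) (Tr.node (Tr.node (Tr.node (Tr.leaf (15,6,false)) (Tr.leaf (58,19,false))) (Tr.node (Tr.leaf (35,27,true)) (Tr.leaf (0,0,false)))) (Tr.node (Tr.node (Tr.leaf (26,5,true)) (Tr.leaf (70,13,false))) (Tr.node (Tr.leaf (46,26,false)) (Tr.leaf (0,0,false)))))) (Tr.node (Tr.node (Tr.node (Tr.node (Tr.leaf (12,3,false)) (Tr.leaf (56,6,false))) (Tr.node (Tr.leaf (33,7,false)) (Tr.leaf (75,2,false)))) (Tr.node (Tr.node (Tr.leaf (21,19,false))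 (Tr.leaf (68,24,false))) (Tr.node (Tr.leaf (44,15,false)) (Tr.leaf (0,0,false))))) (Tr.node (Tr.node (Tr.node (Tr.leaf (16,16,true)) (Tr.leaf (60,21,true))) (Tr.node (Tr.leaf (39,15,false)) (Tr.leaf (0,0,false)))) (Tr.node (Tr.node (Tr.leaf (28,8,true)) (Tr.leaf (71,35,true))) (Tr.node (Tr.leaf (48,26,true)) (Tr.leaf (0,0,false))))))) (Tr.node (Tr.node (Tr.node (Tr.node (Tr.node (Tr.leaf (10,1,true)) (Tr.leaf (55,2,false))) (Tr.node (Tr.leaf (31,28,true)) (Tr.leaf (74,23,false)))) (Tr.node (Tr.node (Tr.leaf (20,22,false)) (Tr.leaf (67,13,true))) (Tr.node (Tr.leaf (42,16,false)) (Tr.leaf (0,0,false))))) (Tr.node (Tr.node (Tr.node (Tr.leaf (16,7,false)) (Tr.leaf (59,26,true))) (Tr.node (Tr.leaf (38,19,false))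 (Tr.leaf (0,0,false)))) (Tr.node (Tr.node (Tr.leaf (27,11,true)) (Tr.leaf (71,8,false))) (Tr.node (Tr.leaf (48,1,false)) (Tr.leaf (0,0,false)))))) (Tr.node (Tr.node (Tr.node (Tr.node (Tr.leaf (13,14,true)) (Tr.leaf (57,25,false))) (Tr.node (Tr.leaf (33,27,true)) (Tr.leaf (0,0,false)))) (Tr.node (Tr.node (Tr.leaf (23,16,false)) (Tr.leaf (69,13,false))) (Tr.node (Tr.leaf (45,2,true)) (Tr.leaf (0,0,false))))) (Tr.node (Tr.node (Tr.node (Tr.leaf (18,4,false)) (Tr.leaf (63,29,false))) (Tr.node (Tr.leaf (39,30,true)) (Tr.leaf (0,0,false)))) (Tr.node (Tr.node (Tr.leaf (29,23,true)) (Tr.leaf (72,33,true))) (Tr.node (Tr.leaf (51,18,false)) (Tr.leaf (0,0,false)))))))))) (Tr.node (Tr.node (Tr.node (Tr.node (Tr.node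 (Tr.node (Tr.node (Tr.node (Tr.leaf (7,4,false)) (Tr.leaf (51,30,true))) (Tr.node (Tr.leaf (30,9,false)) (Tr.leaf (73,4,false)))) (Tr.node (Tr.node (Tr.leaf (18,9,true)) (Tr.leaf (65,12,false))) (Tr.node (Tr.leaf (40,7,true)) (Tr.leaf (0,0,false))))) (Tr.node (Tr.node (Tr.node (Tr.leaf (14,23,false)) (Tr.leaf (57,15,true))) (Tr.node (Tr.leaf (34,24,false)) (Tr.leaf (0,0,false)))) (Tr.node (Tr.node (Tr.leaf (24,17,false)) (Tr.leaf (69,23,true))) (Tr.node (Tr.leaf (45,18,true)) (Tr.leaf (0,0,false)))))) (Tr.node (Tr.node (Tr.node (Tr.node (Tr.leaf (11,9,false)) (Tr.leaf (55,26,false))) (Tr.node (Tr.leaf (32,20,false)) (Tr.leaf (74,23,true)))) (Tr.node (Tr.node (Tr.leaf (20,11,true)) (Tr.leaf (68,0,false)))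 (Tr.node (Tr.leaf (42,16,true)) (Tr.leaf (0,0,false))))) (Tr.node (Tr.node (Tr.node (Tr.leaf (16,20,false)) (Tr.leaf (60,20,false))) (Tr.node (Tr.leaf (38,5,true)) (Tr.leaf (0,0,false)))) (Tr.node (Tr.node (Tr.leaf (28,2,false)) (Tr.leaf (71,0,true))) (Tr.node (Tr.leaf (48,22,false)) (Tr.leaf (0,0,false))))))) (Tr.node (Tr.node (Tr.node (Tr.node (Tr.node (Tr.leaf (9,9,false)) (Tr.leaf (53,12,false))) (Tr.node (Tr.leaf (31,22,false)) (Tr.leaf (73,40,true)))) (Tr.node (Tr.node (Tr.leaf (19,24,true)) (Tr.leaf (67,9,false))) (Tr.node (Tr.leaf (41,2,true)) (Tr.leaf (0,0,false))))) (Tr.node (Tr.node (Tr.node (Tr.leaf (15,19,false)) (Tr.leaf (59,20,false))) (Tr.node (Tr.leaf (36,20,false)) (Tr.leaf (0,0,false))))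 (Tr.node (Tr.node (Tr.leaf (27,4,false)) (Tr.leaf (70,22,true))) (Tr.node (Tr.leaf (46,20,true)) (Tr.leaf (0,0,false)))))) (Tr.node (Tr.node (Tr.node (Tr.node (Tr.leaf (12,21,true)) (Tr.leaf (56,19,true))) (Tr.node (Tr.leaf (33,24,false)) (Tr.leaf (0,0,false)))) (Tr.node (Tr.node (Tr.leaf (22,7,false)) (Tr.leaf (68,26,true))) (Tr.node (Tr.leaf (45,2,false)) (Tr.leaf (0,0,false))))) (Tr.node (Tr.node (Tr.node (Tr.leaf (17,3,false)) (Tr.leaf (62,14,false))) (Tr.node (Tr.leaf (39,1,true)) (Tr.leaf (0,0,false)))) (Tr.node (Tr.node (Tr.leaf (29,4,false)) (Tr.leaf (72,11,false))) (Tr.node (Tr.leaf (50,25,false)) (Tr.leaf (0,0,false)))))))) (Tr.node (Tr.node (Tr.node (Tr.node (Tr.node (Tr.node (Tr.leaf (8,12,false))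 (Tr.leaf (52,11,true))) (Tr.node (Tr.leaf (30,6,true)) (Tr.leaf (73,0,true)))) (Tr.node (Tr.node (Tr.leaf (19,16,false)) (Tr.leaf (66,17,false))) (Tr.node (Tr.leaf (41,3,false)) (Tr.leaf (0,0,false))))) (Tr.node (Tr.node (Tr.node (Tr.leaf (15,1,false)) (Tr.leaf (58,14,false))) (Tr.node (Tr.leaf (35,4,true)) (Tr.leaf (0,0,false)))) (Tr.node (Tr.node (Tr.leaf (26,21,false)) (Tr.leaf (70,8,false))) (Tr.node (Tr.leaf (46,22,false)) (Tr.leaf (0,0,false)))))) (Tr.node (Tr.node (Tr.node (Tr.node (Tr.leaf (11,23,true)) (Tr.leaf (55,27,true))) (Tr.node (Tr.leaf (33,1,false)) (Tr.leaf (74,43,true)))) (Tr.node (Tr.node (Tr.leaf (21,11,false)) (Tr.leaf (68,19,false))) (Tr.node (Tr.leaf (44,9,false)) (Tr.leaf (0,0,false)))))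 (Tr.node (Tr.node (Tr.node (Tr.leaf (16,12,true)) (Tr.leaf (60,17,true))) (Tr.node (Tr.leaf (39,2,false)) (Tr.leaf (0,0,false)))) (Tr.node (Tr.node (Tr.leaf (28,3,true)) (Tr.leaf (71,31,true))) (Tr.node (Tr.leaf (48,19,true)) (Tr.leaf (0,0,false))))))) (Tr.node (Tr.node (Tr.node (Tr.node (Tr.node (Tr.leaf (10,14,false)) (Tr.leaf (54,25,false))) (Tr.node (Tr.leaf (31,18,true)) (Tr.leaf (74,12,false)))) (Tr.node (Tr.node (Tr.leaf (20,18,false)) (Tr.leaf (67,4,true))) (Tr.node (Tr.leaf (42,6,false)) (Tr.leaf (0,0,false))))) (Tr.node (Tr.node (Tr.node (Tr.leaf (16,3,false)) (Tr.leaf (59,19,true))) (Tr.node (Tr.leaf (38,11,false)) (Tr.leaf (0,0,false)))) (Tr.node (Tr.node (Tr.leaf (27,4,true)) (Tr.leaf (71,4,false)))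 (Tr.node (Tr.leaf (47,25,false)) (Tr.leaf (0,0,false)))))) (Tr.node (Tr.node (Tr.node (Tr.node (Tr.leaf (13,17,false)) (Tr.leaf (57,17,false))) (Tr.node (Tr.leaf (33,20,true)) (Tr.leaf (0,0,false)))) (Tr.node (Tr.node (Tr.leaf (23,10,false)) (Tr.leaf (69,9,false))) (Tr.node (Tr.leaf (45,28,false)) (Tr.leaf (0,0,false))))) (Tr.node (Tr.node (Tr.node (Tr.leaf (17,3,true)) (Tr.leaf (63,23,false))) (Tr.node (Tr.leaf (39,26,true)) (Tr.leaf (0,0,false)))) (Tr.node (Tr.node (Tr.leaf (29,13,true)) (Tr.leaf (72,29,true))) (Tr.node (Tr.leaf (51,13,false)) (Tr.leaf (0,0,false))))))))) (Tr.node (Tr.node (Tr.node (Tr.node (Tr.node (Tr.node (Tr.node (Tr.leaf (7,11,true)) (Tr.leaf (52,15,false))) (Tr.node (Tr.leaf (30,18,false))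 (Tr.leaf (73,18,false)))) (Tr.node (Tr.node (Tr.leaf (19,6,false)) (Tr.leaf (65,26,false))) (Tr.node (Tr.leaf (40,21,true)) (Tr.leaf (0,0,false))))) (Tr.node (Tr.node (Tr.node (Tr.leaf (14,13,true)) (Tr.leaf (58,1,false))) (Tr.node (Tr.leaf (35,10,false)) (Tr.leaf (0,0,false)))) (Tr.node (Tr.node (Tr.leaf (25,19,false)) (Tr.leaf (69,31,true))) (Tr.node (Tr.leaf (46,11,false)) (Tr.leaf (0,0,false)))))) (Tr.node (Tr.node (Tr.node (Tr.node (Tr.leaf (11,19,false)) (Tr.leaf (55,10,true))) (Tr.node (Tr.leaf (32,5,true)) (Tr.leaf (74,35,true)))) (Tr.node (Tr.node (Tr.leaf (20,21,true)) (Tr.leaf (68,9,false))) (Tr.node (Tr.leaf (43,12,false)) (Tr.leaf (0,0,false))))) (Tr.node (Tr.node (Tr.node (Tr.leaf (16,3,true))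 (Tr.leaf (60,0,true))) (Tr.node (Tr.leaf (38,19,true)) (Tr.leaf (0,0,false)))) (Tr.node (Tr.node (Tr.leaf (28,16,false)) (Tr.leaf (71,22,true))) (Tr.node (Tr.leaf (48,6,true)) (Tr.leaf (0,0,false))))))) (Tr.node (Tr.node (Tr.node (Tr.node (Tr.node (Tr.leaf (9,8,true)) (Tr.leaf (54,0,false))) (Tr.node (Tr.leaf (31,7,true)) (Tr.leaf (74,2,false)))) (Tr.node (Tr.node (Tr.leaf (20,9,false)) (Tr.leaf (67,20,false))) (Tr.node (Tr.leaf (41,25,true)) (Tr.leaf (0,0,false))))) (Tr.node (Tr.node (Tr.node (Tr.leaf (15,4,true)) (Tr.leaf (59,0,true))) (Tr.node (Tr.leaf (36,5,true)) (Tr.leaf (0,0,false)))) (Tr.node (Tr.node (Tr.leaf (27,19,false)) (Tr.leaf (70,33,true))) (Tr.node (Tr.leaf (47,11,false)) (Tr.leaf (0,0,false))))))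 (Tr.node (Tr.node (Tr.node (Tr.node (Tr.leaf (13,6,false)) (Tr.leaf (57,5,false))) (Tr.node (Tr.leaf (33,5,true)) (Tr.leaf (0,0,false)))) (Tr.node (Tr.node (Tr.leaf (22,0,true)) (Tr.leaf (69,1,false))) (Tr.node (Tr.leaf (45,14,false)) (Tr.leaf (0,0,false))))) (Tr.node (Tr.node (Tr.node (Tr.leaf (17,13,false)) (Tr.leaf (62,18,true))) (Tr.node (Tr.leaf (39,12,true)) (Tr.leaf (0,0,false)))) (Tr.node (Tr.node (Tr.leaf (29,20,false)) (Tr.leaf (72,27,false))) (Tr.node (Tr.leaf (51,2,false)) (Tr.leaf (0,0,false)))))))) (Tr.node (Tr.node (Tr.node (Tr.node (Tr.node (Tr.node (Tr.leaf (9,1,false)) (Tr.leaf (52,31,true))) (Tr.node (Tr.leaf (31,8,false)) (Tr.leaf (73,28,true)))) (Tr.node (Tr.node (Tr.leaf (19,24,false))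 (Tr.leaf (67,1,false))) (Tr.node (Tr.leaf (41,15,false)) (Tr.leaf (0,0,false))))) (Tr.node (Tr.node (Tr.node (Tr.leaf (15,11,false)) (Tr.leaf (58,24,false))) (Tr.node (Tr.leaf (36,6,false)) (Tr.leaf (0,0,false)))) (Tr.node (Tr.node (Tr.leaf (26,21,true)) (Tr.leaf (70,18,false))) (Tr.node (Tr.leaf (46,0,true)) (Tr.leaf (0,0,false)))))) (Tr.node (Tr.node (Tr.node (Tr.node (Tr.leaf (12,3,true)) (Tr.leaf (56,17,false))) (Tr.node (Tr.leaf (33,14,false)) (Tr.leaf (0,0,false)))) (Tr.node (Tr.node (Tr.leaf (21,27,false)) (Tr.leaf (68,1,true))) (Tr.node (Tr.leaf (44,24,false)) (Tr.leaf (0,0,false))))) (Tr.node (Tr.node (Tr.node (Tr.leaf (16,21,true)) (Tr.leaf (61,10,false))) (Tr.node (Tr.leaf (39,19,false)) (Tr.leaf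 (0,0,false)))) (Tr.node (Tr.node (Tr.leaf (28,19,true)) (Tr.leaf (72,3,false))) (Tr.node (Tr.leaf (49,31,false)) (Tr.leaf (0,0,false))))))) (Tr.node (Tr.node (Tr.node (Tr.node (Tr.node (Tr.leaf (11,0,false)) (Tr.leaf (55,12,false))) (Tr.node (Tr.leaf (32,6,false)) (Tr.leaf (74,27,false)))) (Tr.node (Tr.node (Tr.leaf (20,1,true)) (Tr.leaf (67,17,true))) (Tr.node (Tr.leaf (42,27,false)) (Tr.leaf (0,0,false))))) (Tr.node (Tr.node (Tr.node (Tr.leaf (16,11,false)) (Tr.leaf (60,5,false))) (Tr.node (Tr.leaf (38,23,false)) (Tr.leaf (0,0,false)))) (Tr.node (Tr.node (Tr.leaf (27,17,true)) (Tr.leaf (71,15,false))) (Tr.node (Tr.leaf (48,9,false)) (Tr.leaf (0,0,false)))))) (Tr.node (Tr.node (Tr.node (Tr.node (Tr.leaf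 (14,3,false)) (Tr.leaf (57,30,false))) (Tr.node (Tr.leaf (34,6,false)) (Tr.leaf (0,0,false)))) (Tr.node (Tr.node (Tr.leaf (23,6,true)) (Tr.leaf (69,31,false))) (Tr.node (Tr.leaf (45,6,true)) (Tr.leaf (0,0,false))))) (Tr.node (Tr.node (Tr.node (Tr.leaf (18,11,false)) (Tr.leaf (64,27,false))) (Tr.node (Tr.leaf (40,8,false)) (Tr.leaf (0,0,false)))) (Tr.node (Tr.node (Tr.leaf (29,29,true)) (Tr.leaf (72,44,true))) (Tr.node (Tr.leaf (51,27,false)) (Tr.leaf (0,0,false))))))))))) (Tr.node (Tr.node (Tr.node (Tr.node (Tr.node (Tr.node (Tr.node (Tr.node (Tr.node (Tr.leaf (7,1,false)) (Tr.leaf (51,24,true))) (Tr.node (Tr.leaf (30,7,false)) (Tr.leaf (73,2,false)))) (Tr.node (Tr.node (Tr.leaf (18,20,false)) (Tr.leaf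 (65,7,false))) (Tr.node (Tr.leaf (40,4,true)) (Tr.leaf (0,0,false))))) (Tr.node (Tr.node (Tr.node (Tr.leaf (14,20,false)) (Tr.leaf (57,11,true))) (Tr.node (Tr.leaf (34,20,false)) (Tr.leaf (0,0,false)))) (Tr.node (Tr.node (Tr.leaf (24,14,false)) (Tr.leaf (69,21,true))) (Tr.node (Tr.leaf (45,14,true)) (Tr.leaf (0,0,false)))))) (Tr.node (Tr.node (Tr.node (Tr.node (Tr.leaf (11,7,false)) (Tr.leaf (55,24,false))) (Tr.node (Tr.leaf (32,17,false)) (Tr.leaf (74,4,true)))) (Tr.node (Tr.node (Tr.leaf (20,9,true)) (Tr.leaf (67,23,true))) (Tr.node (Tr.leaf (42,5,true)) (Tr.leaf (0,0,false))))) (Tr.node (Tr.node (Tr.node (Tr.leaf (16,17,false)) (Tr.leaf (60,16,false))) (Tr.node (Tr.leaf (38,3,true)) (Tr.leaf (0,0,false))))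 (Tr.node (Tr.node (Tr.leaf (27,29,true)) (Tr.leaf (71,35,false))) (Tr.node (Tr.leaf (48,18,false)) (Tr.leaf (0,0,false))))))) (Tr.node (Tr.node (Tr.node (Tr.node (Tr.node (Tr.leaf (9,7,false)) (Tr.leaf (53,9,false))) (Tr.node (Tr.leaf (31,20,false)) (Tr.leaf (73,34,true)))) (Tr.node (Tr.node (Tr.leaf (19,19,true)) (Tr.leaf (67,7,false))) (Tr.node (Tr.leaf (41,0,true)) (Tr.leaf (0,0,false))))) (Tr.node (Tr.node (Tr.node (Tr.leaf (15,17,false)) (Tr.leaf (59,8,false))) (Tr.node (Tr.leaf (36,16,false)) (Tr.leaf (0,0,false)))) (Tr.node (Tr.node (Tr.leaf (27,2,false)) (Tr.leaf (70,4,true))) (Tr.node (Tr.leaf (46,17,true)) (Tr.leaf (0,0,false)))))) (Tr.node (Tr.node (Tr.node (Tr.node (Tr.leaf (12,16,true)) (Tr.leaf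 (56,29,false))) (Tr.node (Tr.leaf (33,22,false)) (Tr.leaf (0,0,false)))) (Tr.node (Tr.node (Tr.leaf (21,25,true)) (Tr.leaf (68,24,true))) (Tr.node (Tr.leaf (45,0,false)) (Tr.leaf (0,0,false))))) (Tr.node (Tr.node (Tr.node (Tr.leaf (17,1,false)) (Tr.leaf (62,11,false))) (Tr.node (Tr.leaf (39,31,false)) (Tr.leaf (0,0,false)))) (Tr.node (Tr.node (Tr.leaf (29,0,false)) (Tr.leaf (72,9,false))) (Tr.node (Tr.leaf (50,20,false)) (Tr.leaf (0,0,false)))))))) (Tr.node (Tr.node (Tr.node (Tr.node (Tr.node (Tr.node (Tr.leaf (8,3,false)) (Tr.leaf (52,31,false))) (Tr.node (Tr.leaf (30,29,false)) (Tr.leaf (73,24,false)))) (Tr.node (Tr.node (Tr.leaf (19,13,false)) (Tr.leaf (65,21,true))) (Tr.node (Tr.leaf (41,0,false))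 (Tr.leaf (0,0,false))))) (Tr.node (Tr.node (Tr.node (Tr.leaf (14,24,true)) (Tr.leaf (58,12,false))) (Tr.node (Tr.leaf (35,25,false)) (Tr.leaf (0,0,false)))) (Tr.node (Tr.node (Tr.leaf (26,17,false)) (Tr.leaf (70,5,false))) (Tr.node (Tr.leaf (46,20,false)) (Tr.leaf (0,0,false)))))) (Tr.node (Tr.node (Tr.node (Tr.node (Tr.leaf (11,17,true)) (Tr.leaf (55,25,true))) (Tr.node (Tr.leaf (32,22,true)) (Tr.leaf (74,41,true)))) (Tr.node (Tr.node (Tr.leaf (21,7,false)) (Tr.leaf (68,17,false))) (Tr.node (Tr.leaf (44,6,false)) (Tr.leaf (0,0,false))))) (Tr.node (Tr.node (Tr.node (Tr.leaf (16,10,true)) (Tr.leaf (60,14,true))) (Tr.node (Tr.leaf (38,30,true)) (Tr.leaf (0,0,false)))) (Tr.node (Tr.node (Tr.leaf (28,0,true))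 (Tr.leaf (71,28,true))) (Tr.node (Tr.leaf (48,16,true)) (Tr.leaf (0,0,false))))))) (Tr.node (Tr.node (Tr.node (Tr.node (Tr.node (Tr.leaf (10,1,false)) (Tr.leaf (54,23,false))) (Tr.node (Tr.leaf (31,16,true)) (Tr.leaf (74,10,false)))) (Tr.node (Tr.node (Tr.leaf (20,16,false)) (Tr.leaf (67,2,true))) (Tr.node (Tr.leaf (42,4,false)) (Tr.leaf (0,0,false))))) (Tr.node (Tr.node (Tr.node (Tr.leaf (16,0,false)) (Tr.leaf (59,12,true))) (Tr.node (Tr.leaf (38,5,false)) (Tr.leaf (0,0,false)))) (Tr.node (Tr.node (Tr.leaf (27,0,true)) (Tr.leaf (71,2,false))) (Tr.node (Tr.leaf (47,19,false)) (Tr.leaf (0,0,false)))))) (Tr.node (Tr.node (Tr.node (Tr.node (Tr.leaf (13,13,false)) (Tr.leaf (57,12,false))) (Tr.node (Tr.leaf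 (33,18,true)) (Tr.leaf (0,0,false)))) (Tr.node (Tr.node (Tr.leaf (23,5,false)) (Tr.leaf (69,7,false))) (Tr.node (Tr.leaf (45,24,false)) (Tr.leaf (0,0,false))))) (Tr.node (Tr.node (Tr.node (Tr.leaf (17,24,false)) (Tr.leaf (63,10,false))) (Tr.node (Tr.leaf (39,23,true)) (Tr.leaf (0,0,false)))) (Tr.node (Tr.node (Tr.leaf (29,9,true)) (Tr.leaf (72,27,true))) (Tr.node (Tr.leaf (51,11,false)) (Tr.leaf (0,0,false))))))))) (Tr.node (Tr.node (Tr.node (Tr.node (Tr.node (Tr.node (Tr.node (Tr.leaf (7,2,true)) (Tr.leaf (52,10,false))) (Tr.node (Tr.leaf (30,16,false)) (Tr.leaf (73,10,false)))) (Tr.node (Tr.node (Tr.leaf (19,4,false)) (Tr.leaf (65,24,false))) (Tr.node (Tr.leaf (40,15,true)) (Tr.leaf (0,0,false))))) (Tr.node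 (Tr.node (Tr.node (Tr.leaf (14,7,true)) (Tr.leaf (57,29,true))) (Tr.node (Tr.leaf (35,2,false)) (Tr.leaf (0,0,false)))) (Tr.node (Tr.node (Tr.leaf (24,19,true)) (Tr.leaf (69,29,true))) (Tr.node (Tr.leaf (46,6,false)) (Tr.leaf (0,0,false)))))) (Tr.node (Tr.node (Tr.node (Tr.node (Tr.leaf (11,16,false)) (Tr.leaf (55,8,true))) (Tr.node (Tr.leaf (32,29,false)) (Tr.leaf (74,29,true)))) (Tr.node (Tr.node (Tr.leaf (20,19,true)) (Tr.leaf (68,6,false))) (Tr.node (Tr.leaf (42,29,true)) (Tr.leaf (0,0,false))))) (Tr.node (Tr.node (Tr.node (Tr.leaf (16,0,true)) (Tr.leaf (60,29,false))) (Tr.node (Tr.leaf (38,16,true)) (Tr.leaf (0,0,false)))) (Tr.node (Tr.node (Tr.leaf (28,14,false)) (Tr.leaf (71,9,true))) (Tr.node (Tr.leaf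 (48,4,true)) (Tr.leaf (0,0,false))))))) (Tr.node (Tr.node (Tr.node (Tr.node (Tr.node (Tr.leaf (9,19,false)) (Tr.leaf (53,26,false))) (Tr.node (Tr.leaf (31,4,true)) (Tr.leaf (74,0,false)))) (Tr.node (Tr.node (Tr.leaf (20,7,false)) (Tr.leaf (67,15,false))) (Tr.node (Tr.leaf (41,18,true)) (Tr.leaf (0,0,false))))) (Tr.node (Tr.node (Tr.node (Tr.leaf (15,25,false)) (Tr.leaf (59,30,false))) (Tr.node (Tr.leaf (36,3,true)) (Tr.leaf (0,0,false)))) (Tr.node (Tr.node (Tr.leaf (27,16,false)) (Tr.leaf (70,31,true))) (Tr.node (Tr.leaf (47,4,false)) (Tr.leaf (0,0,false)))))) (Tr.node (Tr.node (Tr.node (Tr.node (Tr.leaf (13,4,false)) (Tr.leaf (57,3,false))) (Tr.node (Tr.leaf (33,3,true)) (Tr.leaf (0,0,false)))) (Tr.node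 (Tr.node (Tr.leaf (22,23,false)) (Tr.leaf (68,34,true))) (Tr.node (Tr.leaf (45,12,false)) (Tr.leaf (0,0,false))))) (Tr.node (Tr.node (Tr.node (Tr.leaf (17,10,false)) (Tr.leaf (62,8,true))) (Tr.node (Tr.leaf (39,10,true)) (Tr.leaf (0,0,false)))) (Tr.node (Tr.node (Tr.leaf (29,18,false)) (Tr.leaf (72,24,false))) (Tr.node (Tr.leaf (51,0,false)) (Tr.leaf (0,0,false)))))))) (Tr.node (Tr.node (Tr.node (Tr.node (Tr.node (Tr.node (Tr.leaf (8,17,true)) (Tr.leaf (52,28,true))) (Tr.node (Tr.leaf (31,4,false)) (Tr.leaf (73,13,true)))) (Tr.node (Tr.node (Tr.leaf (19,22,false)) (Tr.leaf (66,30,true))) (Tr.node (Tr.leaf (41,11,false)) (Tr.leaf (0,0,false))))) (Tr.node (Tr.node (Tr.node (Tr.leaf (15,8,false)) (Tr.leaf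 (58,21,false))) (Tr.node (Tr.leaf (36,2,false)) (Tr.leaf (0,0,false)))) (Tr.node (Tr.node (Tr.leaf (26,18,true)) (Tr.leaf (70,15,false))) (Tr.node (Tr.leaf (46,29,false)) (Tr.leaf (0,0,false)))))) (Tr.node (Tr.node (Tr.node (Tr.node (Tr.leaf (12,19,false)) (Tr.leaf (56,12,false))) (Tr.node (Tr.leaf (33,11,false)) (Tr.leaf (0,0,false)))) (Tr.node (Tr.node (Tr.leaf (21,25,false)) (Tr.leaf (68,30,false))) (Tr.node (Tr.leaf (44,20,false)) (Tr.leaf (0,0,false))))) (Tr.node (Tr.node (Tr.node (Tr.leaf (16,18,true)) (Tr.leaf (60,24,true))) (Tr.node (Tr.leaf (39,17,false)) (Tr.leaf (0,0,false)))) (Tr.node (Tr.node (Tr.leaf (28,14,true)) (Tr.leaf (72,1,false))) (Tr.node (Tr.leaf (49,15,false)) (Tr.leaf (0,0,false)))))))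 (Tr.node (Tr.node (Tr.node (Tr.node (Tr.node (Tr.leaf (10,15,true)) (Tr.leaf (55,7,false))) (Tr.node (Tr.leaf (32,4,false)) (Tr.leaf (74,25,false)))) (Tr.node (Tr.node (Tr.leaf (20,25,false)) (Tr.leaf (67,15,true))) (Tr.node (Tr.leaf (42,23,false)) (Tr.leaf (0,0,false))))) (Tr.node (Tr.node (Tr.node (Tr.leaf (16,9,false)) (Tr.leaf (59,30,true))) (Tr.node (Tr.leaf (38,21,false)) (Tr.leaf (0,0,false)))) (Tr.node (Tr.node (Tr.leaf (27,13,true)) (Tr.leaf (71,10,false))) (Tr.node (Tr.leaf (48,6,false)) (Tr.leaf (0,0,false)))))) (Tr.node (Tr.node (Tr.node (Tr.node (Tr.leaf (14,0,false)) (Tr.leaf (57,28,false))) (Tr.node (Tr.leaf (34,4,false)) (Tr.leaf (0,0,false)))) (Tr.node (Tr.node (Tr.leaf (23,21,false))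 (Tr.leaf (69,19,false))) (Tr.node (Tr.leaf (45,4,true)) (Tr.leaf (0,0,false))))) (Tr.node (Tr.node (Tr.node (Tr.leaf (18,8,false)) (Tr.leaf (64,18,false))) (Tr.node (Tr.leaf (40,1,false)) (Tr.leaf (0,0,false)))) (Tr.node (Tr.node (Tr.leaf (29,25,true)) (Tr.leaf (72,38,true))) (Tr.node (Tr.leaf (51,23,false)) (Tr.leaf (0,0,false)))))))))) (Tr.node (Tr.node (Tr.node (Tr.node (Tr.node (Tr.node (Tr.node (Tr.node (Tr.leaf (7,12,false)) (Tr.leaf (52,3,false))) (Tr.node (Tr.leaf (30,11,false)) (Tr.leaf (73,6,false)))) (Tr.node (Tr.node (Tr.leaf (18,24,true)) (Tr.leaf (65,15,false))) (Tr.node (Tr.leaf (40,10,true)) (Tr.leaf (0,0,false))))) (Tr.node (Tr.node (Tr.node (Tr.leaf (14,0,true)) (Tr.leaf (57,18,true)))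 (Tr.node (Tr.leaf (34,28,false)) (Tr.leaf (0,0,false)))) (Tr.node (Tr.node (Tr.leaf (24,20,false)) (Tr.leaf (69,25,true))) (Tr.node (Tr.leaf (45,21,true)) (Tr.leaf (0,0,false)))))) (Tr.node (Tr.node (Tr.node (Tr.node (Tr.leaf (11,11,false)) (Tr.leaf (55,31,false))) (Tr.node (Tr.leaf (32,23,false)) (Tr.leaf (74,25,true)))) (Tr.node (Tr.node (Tr.leaf (20,13,true)) (Tr.leaf (68,2,false))) (Tr.node (Tr.leaf (42,19,true)) (Tr.leaf (0,0,false))))) (Tr.node (Tr.node (Tr.node (Tr.leaf (16,22,false)) (Tr.leaf (60,25,false))) (Tr.node (Tr.leaf (38,7,true)) (Tr.leaf (0,0,false)))) (Tr.node (Tr.node (Tr.leaf (28,4,false)) (Tr.leaf (71,2,true))) (Tr.node (Tr.leaf (48,31,false)) (Tr.leaf (0,0,false))))))) (Tr.node (Tr.node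 (Tr.node (Tr.node (Tr.node (Tr.leaf (9,11,false)) (Tr.leaf (53,14,false))) (Tr.node (Tr.leaf (31,27,false)) (Tr.leaf (73,42,true)))) (Tr.node (Tr.node (Tr.leaf (20,2,false)) (Tr.leaf (67,11,false))) (Tr.node (Tr.leaf (41,7,true)) (Tr.leaf (0,0,false))))) (Tr.node (Tr.node (Tr.node (Tr.leaf (15,21,false)) (Tr.leaf (59,22,false))) (Tr.node (Tr.leaf (36,24,false)) (Tr.leaf (0,0,false)))) (Tr.node (Tr.node (Tr.leaf (27,9,false)) (Tr.leaf (70,27,true))) (Tr.node (Tr.leaf (46,26,true)) (Tr.leaf (0,0,false)))))) (Tr.node (Tr.node (Tr.node (Tr.node (Tr.leaf (13,0,false)) (Tr.leaf (56,27,true))) (Tr.node (Tr.leaf (33,26,false)) (Tr.leaf (0,0,false)))) (Tr.node (Tr.node (Tr.leaf (22,18,false)) (Tr.leaf (68,28,true)))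 (Tr.node (Tr.leaf (45,4,false)) (Tr.leaf (0,0,false))))) (Tr.node (Tr.node (Tr.node (Tr.leaf (17,6,false)) (Tr.leaf (62,27,false))) (Tr.node (Tr.leaf (39,3,true)) (Tr.leaf (0,0,false)))) (Tr.node (Tr.node (Tr.leaf (29,10,false)) (Tr.leaf (72,19,false))) (Tr.node (Tr.leaf (50,31,false)) (Tr.leaf (0,0,false)))))))) (Tr.node (Tr.node (Tr.node (Tr.node (Tr.node (Tr.node (Tr.leaf (8,14,false)) (Tr.leaf (52,16,true))) (Tr.node (Tr.leaf (30,18,true)) (Tr.leaf (73,2,true)))) (Tr.node (Tr.node (Tr.leaf (19,18,false)) (Tr.leaf (66,11,true))) (Tr.node (Tr.leaf (41,5,false)) (Tr.leaf (0,0,false))))) (Tr.node (Tr.node (Tr.node (Tr.leaf (15,3,false)) (Tr.leaf (58,17,false))) (Tr.node (Tr.leaf (35,21,true)) (Tr.leaf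 (0,0,false)))) (Tr.node (Tr.node (Tr.leaf (26,23,false)) (Tr.leaf (70,11,false))) (Tr.node (Tr.leaf (46,24,false)) (Tr.leaf (0,0,false)))))) (Tr.node (Tr.node (Tr.node (Tr.node (Tr.leaf (12,1,false)) (Tr.leaf (55,29,true))) (Tr.node (Tr.leaf (33,4,false)) (Tr.leaf (75,0,false)))) (Tr.node (Tr.node (Tr.leaf (21,14,false)) (Tr.leaf (68,21,false))) (Tr.node (Tr.leaf (44,13,false)) (Tr.leaf (0,0,false))))) (Tr.node (Tr.node (Tr.node (Tr.leaf (16,14,true)) (Tr.leaf (60,19,true))) (Tr.node (Tr.leaf (39,9,false)) (Tr.leaf (0,0,false)))) (Tr.node (Tr.node (Tr.leaf (28,6,true)) (Tr.leaf (71,33,true))) (Tr.node (Tr.leaf (48,22,true)) (Tr.leaf (0,0,false))))))) (Tr.node (Tr.node (Tr.node (Tr.node (Tr.node (Tr.leaf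 (10,18,false)) (Tr.leaf (55,0,false))) (Tr.node (Tr.leaf (31,22,true)) (Tr.leaf (74,14,false)))) (Tr.node (Tr.node (Tr.leaf (20,20,false)) (Tr.leaf (67,7,true))) (Tr.node (Tr.leaf (42,12,false)) (Tr.leaf (0,0,false))))) (Tr.node (Tr.node (Tr.node (Tr.leaf (16,5,false)) (Tr.leaf (59,23,true))) (Tr.node (Tr.leaf (38,17,false)) (Tr.leaf (0,0,false)))) (Tr.node (Tr.node (Tr.leaf (27,9,true)) (Tr.leaf (71,6,false))) (Tr.node (Tr.leaf (47,17,true)) (Tr.leaf (0,0,false)))))) (Tr.node (Tr.node (Tr.node (Tr.node (Tr.leaf (13,21,false)) (Tr.leaf (57,21,false))) (Tr.node (Tr.leaf (33,22,true)) (Tr.leaf (0,0,false)))) (Tr.node (Tr.node (Tr.leaf (23,14,false)) (Tr.leaf (69,11,false))) (Tr.node (Tr.leaf (45,31,false))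 (Tr.leaf (0,0,false))))) (Tr.node (Tr.node (Tr.node (Tr.leaf (18,2,false)) (Tr.leaf (63,26,false))) (Tr.node (Tr.leaf (39,28,true)) (Tr.leaf (0,0,false)))) (Tr.node (Tr.node (Tr.leaf (29,17,true)) (Tr.leaf (72,31,true))) (Tr.node (Tr.leaf (51,16,false)) (Tr.leaf (0,0,false))))))))) (Tr.node (Tr.node (Tr.node (Tr.node (Tr.node (Tr.node (Tr.node (Tr.leaf (7,15,true)) (Tr.leaf (52,19,false))) (Tr.node (Tr.leaf (30,22,false)) (Tr.leaf (73,20,false)))) (Tr.node (Tr.node (Tr.leaf (19,9,false)) (Tr.leaf (65,28,false))) (Tr.node (Tr.leaf (40,23,true)) (Tr.leaf (0,0,false))))) (Tr.node (Tr.node (Tr.node (Tr.leaf (14,16,true)) (Tr.leaf (58,6,false))) (Tr.node (Tr.leaf (35,14,false)) (Tr.leaf (0,0,false)))) (Tr.node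 (Tr.node (Tr.leaf (25,23,false)) (Tr.leaf (70,1,false))) (Tr.node (Tr.leaf (46,13,false)) (Tr.leaf (0,0,false)))))) (Tr.node (Tr.node (Tr.node (Tr.node (Tr.leaf (11,23,false)) (Tr.leaf (55,13,true))) (Tr.node (Tr.leaf (32,10,true)) (Tr.leaf (74,37,true)))) (Tr.node (Tr.node (Tr.leaf (20,25,true)) (Tr.leaf (68,13,false))) (Tr.node (Tr.leaf (43,20,false)) (Tr.leaf (0,0,false))))) (Tr.node (Tr.node (Tr.node (Tr.leaf (16,5,true)) (Tr.leaf (60,5,true))) (Tr.node (Tr.leaf (38,23,true)) (Tr.leaf (0,0,false)))) (Tr.node (Tr.node (Tr.leaf (28,18,false)) (Tr.leaf (71,24,true))) (Tr.node (Tr.leaf (48,8,true)) (Tr.leaf (0,0,false))))))) (Tr.node (Tr.node (Tr.node (Tr.node (Tr.node (Tr.leaf (9,11,true)) (Tr.leaf (54,7,false)))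 (Tr.node (Tr.leaf (31,9,true)) (Tr.leaf (74,4,false)))) (Tr.node (Tr.node (Tr.leaf (20,11,false)) (Tr.leaf (67,23,false))) (Tr.node (Tr.leaf (41,29,true)) (Tr.leaf (0,0,false))))) (Tr.node (Tr.node (Tr.node (Tr.leaf (15,11,true)) (Tr.leaf (59,4,true))) (Tr.node (Tr.leaf (37,27,false)) (Tr.leaf (0,0,false)))) (Tr.node (Tr.node (Tr.leaf (27,22,false)) (Tr.leaf (70,35,true))) (Tr.node (Tr.leaf (47,13,false)) (Tr.leaf (0,0,false)))))) (Tr.node (Tr.node (Tr.node (Tr.node (Tr.leaf (13,8,false)) (Tr.leaf (57,7,false))) (Tr.node (Tr.leaf (33,10,true)) (Tr.leaf (0,0,false)))) (Tr.node (Tr.node (Tr.leaf (23,0,false)) (Tr.leaf (69,3,false))) (Tr.node (Tr.leaf (45,17,false)) (Tr.leaf (0,0,false))))) (Tr.node (Tr.node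 (Tr.node (Tr.leaf (17,15,false)) (Tr.leaf (63,3,false))) (Tr.node (Tr.leaf (39,18,true)) (Tr.leaf (0,0,false)))) (Tr.node (Tr.node (Tr.leaf (29,0,true)) (Tr.leaf (72,0,true))) (Tr.node (Tr.leaf (51,4,false)) (Tr.leaf (0,0,false)))))))) (Tr.node (Tr.node (Tr.node (Tr.node (Tr.node (Tr.node (Tr.leaf (9,3,false)) (Tr.leaf (53,5,false))) (Tr.node (Tr.leaf (31,11,false)) (Tr.leaf (73,30,true)))) (Tr.node (Tr.node (Tr.leaf (19,26,false)) (Tr.leaf (67,3,false))) (Tr.node (Tr.leaf (41,26,false)) (Tr.leaf (0,0,false))))) (Tr.node (Tr.node (Tr.node (Tr.leaf (15,13,false)) (Tr.leaf (58,14,true))) (Tr.node (Tr.leaf (36,10,false)) (Tr.leaf (0,0,false)))) (Tr.node (Tr.node (Tr.leaf (26,26,true)) (Tr.leaf (70,0,true)))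 (Tr.node (Tr.leaf (46,5,true)) (Tr.leaf (0,0,false)))))) (Tr.node (Tr.node (Tr.node (Tr.node (Tr.leaf (12,6,true)) (Tr.leaf (56,19,false))) (Tr.node (Tr.leaf (33,17,false)) (Tr.leaf (0,0,false)))) (Tr.node (Tr.node (Tr.leaf (21,19,true)) (Tr.leaf (68,3,true))) (Tr.node (Tr.leaf (44,26,false)) (Tr.leaf (0,0,false))))) (Tr.node (Tr.node (Tr.node (Tr.leaf (16,23,true)) (Tr.leaf (61,23,false))) (Tr.node (Tr.leaf (39,21,false)) (Tr.leaf (0,0,false)))) (Tr.node (Tr.node (Tr.leaf (28,24,true)) (Tr.leaf (72,5,false))) (Tr.node (Tr.leaf (50,6,false)) (Tr.leaf (0,0,false))))))) (Tr.node (Tr.node (Tr.node (Tr.node (Tr.node (Tr.leaf (11,2,false)) (Tr.leaf (55,14,false))) (Tr.node (Tr.leaf (32,9,false)) (Tr.leaf (74,0,true))))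 (Tr.node (Tr.node (Tr.leaf (20,5,true)) (Tr.leaf (67,19,true))) (Tr.node (Tr.leaf (42,30,false)) (Tr.leaf (0,0,false))))) (Tr.node (Tr.node (Tr.node (Tr.leaf (16,13,false)) (Tr.leaf (60,9,false))) (Tr.node (Tr.leaf (38,26,false)) (Tr.leaf (0,0,false)))) (Tr.node (Tr.node (Tr.leaf (27,24,true)) (Tr.leaf (71,17,false))) (Tr.node (Tr.leaf (48,11,false)) (Tr.leaf (0,0,false)))))) (Tr.node (Tr.node (Tr.node (Tr.node (Tr.leaf (14,12,false)) (Tr.leaf (57,3,true))) (Tr.node (Tr.leaf (34,12,false)) (Tr.leaf (0,0,false)))) (Tr.node (Tr.node (Tr.leaf (24,8,false)) (Tr.leaf (69,1,true))) (Tr.node (Tr.leaf (45,9,true)) (Tr.leaf (0,0,false))))) (Tr.node (Tr.node (Tr.node (Tr.leaf (18,14,false)) (Tr.leaf (64,31,false)))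 (Tr.node (Tr.leaf (40,22,false)) (Tr.leaf (0,0,false)))) (Tr.node (Tr.node (Tr.leaf (30,1,false)) (Tr.leaf (72,46,true))) (Tr.node (Tr.leaf (51,31,false)) (Tr.leaf (0,0,false)))))))))))) (Tr.node (Tr.node (Tr.node (Tr.node (Tr.node (Tr.node (Tr.node (Tr.node (Tr.node (Tr.node (Tr.leaf (7,0,false)) (Tr.leaf (51,8,true))) (Tr.node (Tr.leaf (30,6,false)) (Tr.leaf (73,1,false)))) (Tr.node (Tr.node (Tr.leaf (18,19,false)) (Tr.leaf (65,6,false))) (Tr.node (Tr.leaf (40,0,true)) (Tr.leaf (0,0,false))))) (Tr.node (Tr.node (Tr.node (Tr.leaf (14,18,false)) (Tr.leaf (57,10,true))) (Tr.node (Tr.leaf (34,18,false)) (Tr.leaf (0,0,false)))) (Tr.node (Tr.node (Tr.leaf (24,11,false)) (Tr.leaf (69,20,true))) (Tr.node (Tr.leaf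 (45,13,true)) (Tr.leaf (0,0,false)))))) (Tr.node (Tr.node (Tr.node (Tr.node (Tr.leaf (11,6,false)) (Tr.leaf (55,22,false))) (Tr.node (Tr.leaf (32,16,false)) (Tr.leaf (74,3,true)))) (Tr.node (Tr.node (Tr.leaf (20,8,true)) (Tr.leaf (67,22,true))) (Tr.node (Tr.leaf (42,3,true)) (Tr.leaf (0,0,false))))) (Tr.node (Tr.node (Tr.node (Tr.leaf (16,16,false)) (Tr.leaf (60,15,false))) (Tr.node (Tr.leaf (38,0,true)) (Tr.leaf (0,0,false)))) (Tr.node (Tr.node (Tr.leaf (27,28,true)) (Tr.leaf (71,30,false))) (Tr.node (Tr.leaf (48,17,false)) (Tr.leaf (0,0,false))))))) (Tr.node (Tr.node (Tr.node (Tr.node (Tr.node (Tr.leaf (9,6,false)) (Tr.leaf (53,8,false))) (Tr.node (Tr.leaf (31,18,false)) (Tr.leaf (73,33,true)))) (Tr.node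 (Tr.node (Tr.leaf (19,5,true)) (Tr.leaf (67,6,false))) (Tr.node (Tr.leaf (41,30,false)) (Tr.leaf (0,0,false))))) (Tr.node (Tr.node (Tr.node (Tr.leaf (15,16,false)) (Tr.leaf (59,7,false))) (Tr.node (Tr.leaf (36,14,false)) (Tr.leaf (0,0,false)))) (Tr.node (Tr.node (Tr.leaf (27,1,false)) (Tr.leaf (70,3,true))) (Tr.node (Tr.leaf (46,12,true)) (Tr.leaf (0,0,false)))))) (Tr.node (Tr.node (Tr.node (Tr.node (Tr.leaf (12,14,true)) (Tr.leaf (56,25,false))) (Tr.node (Tr.leaf (33,21,false)) (Tr.leaf (0,0,false)))) (Tr.node (Tr.node (Tr.leaf (21,24,true)) (Tr.leaf (68,23,true))) (Tr.node (Tr.leaf (44,21,true)) (Tr.leaf (0,0,false))))) (Tr.node (Tr.node (Tr.node (Tr.leaf (17,0,false)) (Tr.leaf (62,4,false))) (Tr.node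 (Tr.leaf (39,29,false)) (Tr.leaf (0,0,false)))) (Tr.node (Tr.node (Tr.leaf (28,28,true)) (Tr.leaf (72,8,false))) (Tr.node (Tr.leaf (50,17,false)) (Tr.leaf (0,0,false)))))))) (Tr.node (Tr.node (Tr.node (Tr.node (Tr.node (Tr.node (Tr.leaf (8,2,false)) (Tr.leaf (52,24,false))) (Tr.node (Tr.leaf (30,25,false)) (Tr.leaf (73,23,false)))) (Tr.node (Tr.node (Tr.leaf (19,12,false)) (Tr.leaf (65,17,true))) (Tr.node (Tr.leaf (40,31,true)) (Tr.leaf (0,0,false))))) (Tr.node (Tr.node (Tr.node (Tr.leaf (14,23,true)) (Tr.leaf (58,11,false))) (Tr.node (Tr.leaf (35,19,false)) (Tr.leaf (0,0,false)))) (Tr.node (Tr.node (Tr.leaf (26,10,false)) (Tr.leaf (70,4,false))) (Tr.node (Tr.leaf (46,18,false)) (Tr.leaf (0,0,false))))))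 (Tr.node (Tr.node (Tr.node (Tr.node (Tr.leaf (11,16,true)) (Tr.leaf (55,23,true))) (Tr.node (Tr.leaf (32,21,true)) (Tr.leaf (74,40,true)))) (Tr.node (Tr.node (Tr.leaf (21,3,false)) (Tr.leaf (68,16,false))) (Tr.node (Tr.leaf (43,27,false)) (Tr.leaf (0,0,false))))) (Tr.node (Tr.node (Tr.node (Tr.leaf (16,9,true)) (Tr.leaf (60,9,true))) (Tr.node (Tr.leaf (38,28,true)) (Tr.leaf (0,0,false)))) (Tr.node (Tr.node (Tr.leaf (28,28,false)) (Tr.leaf (71,27,true))) (Tr.node (Tr.leaf (48,14,true)) (Tr.leaf (0,0,false))))))) (Tr.node (Tr.node (Tr.node (Tr.node (Tr.node (Tr.leaf (10,0,false)) (Tr.leaf (54,21,false))) (Tr.node (Tr.leaf (31,15,true)) (Tr.leaf (74,9,false)))) (Tr.node (Tr.node (Tr.leaf (20,14,false)) (Tr.leaf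 (67,1,true))) (Tr.node (Tr.leaf (42,3,false)) (Tr.leaf (0,0,false))))) (Tr.node (Tr.node (Tr.node (Tr.leaf (15,24,true)) (Tr.leaf (59,11,true))) (Tr.node (Tr.leaf (38,2,false)) (Tr.leaf (0,0,false)))) (Tr.node (Tr.node (Tr.leaf (27,27,false)) (Tr.leaf (71,1,false))) (Tr.node (Tr.leaf (47,17,false)) (Tr.leaf (0,0,false)))))) (Tr.node (Tr.node (Tr.node (Tr.node (Tr.leaf (13,11,false)) (Tr.leaf (57,11,false))) (Tr.node (Tr.leaf (33,17,true)) (Tr.leaf (0,0,false)))) (Tr.node (Tr.node (Tr.leaf (23,4,false)) (Tr.leaf (69,6,false))) (Tr.node (Tr.leaf (45,23,false)) (Tr.leaf (0,0,false))))) (Tr.node (Tr.node (Tr.node (Tr.leaf (17,21,false)) (Tr.leaf (63,7,false))) (Tr.node (Tr.leaf (39,21,true)) (Tr.leaf (0,0,false))))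 (Tr.node (Tr.node (Tr.leaf (29,8,true)) (Tr.leaf (72,26,true))) (Tr.node (Tr.leaf (51,10,false)) (Tr.leaf (0,0,false))))))))) (Tr.node (Tr.node (Tr.node (Tr.node (Tr.node (Tr.node (Tr.node (Tr.leaf (7,1,true)) (Tr.leaf (52,9,false))) (Tr.node (Tr.leaf (30,14,false)) (Tr.leaf (73,9,false)))) (Tr.node (Tr.node (Tr.leaf (19,3,false)) (Tr.leaf (65,22,false))) (Tr.node (Tr.leaf (40,14,true)) (Tr.leaf (0,0,false))))) (Tr.node (Tr.node (Tr.node (Tr.leaf (14,6,true)) (Tr.leaf (57,28,true))) (Tr.node (Tr.leaf (35,0,false)) (Tr.leaf (0,0,false)))) (Tr.node (Tr.node (Tr.leaf (24,8,true)) (Tr.leaf (69,28,true))) (Tr.node (Tr.leaf (45,29,true)) (Tr.leaf (0,0,false)))))) (Tr.node (Tr.node (Tr.node (Tr.node (Tr.leaf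 (11,15,false)) (Tr.leaf (55,4,true))) (Tr.node (Tr.leaf (32,28,false)) (Tr.leaf (74,28,true)))) (Tr.node (Tr.node (Tr.leaf (20,18,true)) (Tr.leaf (68,5,false))) (Tr.node (Tr.leaf (42,27,true)) (Tr.leaf (0,0,false))))) (Tr.node (Tr.node (Tr.node (Tr.leaf (16,25,false)) (Tr.leaf (60,28,false))) (Tr.node (Tr.leaf (38,15,true)) (Tr.leaf (0,0,false)))) (Tr.node (Tr.node (Tr.leaf (28,7,false)) (Tr.leaf (71,5,true))) (Tr.node (Tr.leaf (48,3,true)) (Tr.leaf (0,0,false))))))) (Tr.node (Tr.node (Tr.node (Tr.node (Tr.node (Tr.leaf (9,18,false)) (Tr.leaf (53,24,false))) (Tr.node (Tr.leaf (31,3,true)) (Tr.leaf (73,45,true)))) (Tr.node (Tr.node (Tr.leaf (20,6,false)) (Tr.leaf (67,14,false))) (Tr.node (Tr.leaf (41,17,true))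 (Tr.leaf (0,0,false))))) (Tr.node (Tr.node (Tr.node (Tr.leaf (15,24,false)) (Tr.leaf (59,29,false))) (Tr.node (Tr.leaf (36,0,true)) (Tr.leaf (0,0,false)))) (Tr.node (Tr.node (Tr.leaf (27,15,false)) (Tr.leaf (70,30,true))) (Tr.node (Tr.leaf (46,30,true)) (Tr.leaf (0,0,false)))))) (Tr.node (Tr.node (Tr.node (Tr.node (Tr.leaf (13,3,false)) (Tr.leaf (57,2,false))) (Tr.node (Tr.leaf (33,0,true)) (Tr.leaf (0,0,false)))) (Tr.node (Tr.node (Tr.leaf (22,21,false)) (Tr.leaf (68,31,true))) (Tr.node (Tr.leaf (45,10,false)) (Tr.leaf (0,0,false))))) (Tr.node (Tr.node (Tr.node (Tr.leaf (17,9,false)) (Tr.leaf (62,7,true))) (Tr.node (Tr.leaf (39,9,true)) (Tr.leaf (0,0,false)))) (Tr.node (Tr.node (Tr.leaf (29,16,false))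 (Tr.leaf (72,23,false))) (Tr.node (Tr.leaf (50,29,true)) (Tr.leaf (0,0,false)))))))) (Tr.node (Tr.node (Tr.node (Tr.node (Tr.node (Tr.node (Tr.leaf (8,14,true)) (Tr.leaf (52,27,true))) (Tr.node (Tr.leaf (31,2,false)) (Tr.leaf (73,5,true)))) (Tr.node (Tr.node (Tr.leaf (19,21,false)) (Tr.leaf (66,29,true))) (Tr.node (Tr.leaf (41,8,false)) (Tr.leaf (0,0,false))))) (Tr.node (Tr.node (Tr.node (Tr.leaf (15,7,false)) (Tr.leaf (58,20,false))) (Tr.node (Tr.leaf (36,1,false)) (Tr.leaf (0,0,false)))) (Tr.node (Tr.node (Tr.leaf (26,12,true)) (Tr.leaf (70,14,false))) (Tr.node (Tr.leaf (46,28,false)) (Tr.leaf (0,0,false)))))) (Tr.node (Tr.node (Tr.node (Tr.node (Tr.leaf (12,6,false)) (Tr.leaf (56,9,false))) (Tr.node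 (Tr.leaf (33,8,false)) (Tr.leaf (75,3,false)))) (Tr.node (Tr.node (Tr.leaf (21,24,false)) (Tr.leaf (68,26,false))) (Tr.node (Tr.leaf (44,16,false)) (Tr.leaf (0,0,false))))) (Tr.node (Tr.node (Tr.node (Tr.leaf (16,17,true)) (Tr.leaf (60,23,true))) (Tr.node (Tr.leaf (39,16,false)) (Tr.leaf (0,0,false)))) (Tr.node (Tr.node (Tr.leaf (28,11,true)) (Tr.leaf (71,36,true))) (Tr.node (Tr.leaf (48,31,true)) (Tr.leaf (0,0,false))))))) (Tr.node (Tr.node (Tr.node (Tr.node (Tr.node (Tr.leaf (10,10,true)) (Tr.leaf (55,6,false))) (Tr.node (Tr.leaf (32,3,false)) (Tr.leaf (74,24,false)))) (Tr.node (Tr.node (Tr.leaf (20,24,false)) (Tr.leaf (67,14,true))) (Tr.node (Tr.leaf (42,21,false)) (Tr.leaf (0,0,false))))) (Tr.node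 (Tr.node (Tr.node (Tr.leaf (16,8,false)) (Tr.leaf (59,28,true))) (Tr.node (Tr.leaf (38,20,false)) (Tr.leaf (0,0,false)))) (Tr.node (Tr.node (Tr.leaf (27,12,true)) (Tr.leaf (71,9,false))) (Tr.node (Tr.leaf (48,2,false)) (Tr.leaf (0,0,false)))))) (Tr.node (Tr.node (Tr.node (Tr.node (Tr.leaf (13,20,true)) (Tr.leaf (57,26,false))) (Tr.node (Tr.leaf (33,28,true)) (Tr.leaf (0,0,false)))) (Tr.node (Tr.node (Tr.leaf (23,19,false)) (Tr.leaf (69,14,false))) (Tr.node (Tr.leaf (45,3,true)) (Tr.leaf (0,0,false))))) (Tr.node (Tr.node (Tr.node (Tr.leaf (18,6,false)) (Tr.leaf (63,3,true))) (Tr.node (Tr.leaf (39,31,true)) (Tr.leaf (0,0,false)))) (Tr.node (Tr.node (Tr.leaf (29,24,true)) (Tr.leaf (72,36,true))) (Tr.node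 (Tr.leaf (51,21,false)) (Tr.leaf (0,0,false)))))))))) (Tr.node (Tr.node (Tr.node (Tr.node (Tr.node (Tr.node (Tr.node (Tr.node (Tr.leaf (7,8,false)) (Tr.leaf (52,1,false))) (Tr.node (Tr.leaf (30,10,false)) (Tr.leaf (73,5,false)))) (Tr.node (Tr.node (Tr.leaf (18,16,true)) (Tr.leaf (65,14,false))) (Tr.node (Tr.leaf (40,8,true)) (Tr.leaf (0,0,false))))) (Tr.node (Tr.node (Tr.node (Tr.leaf (14,24,false)) (Tr.leaf (57,17,true))) (Tr.node (Tr.leaf (34,27,false)) (Tr.leaf (0,0,false)))) (Tr.node (Tr.node (Tr.leaf (24,18,false)) (Tr.leaf (69,24,true))) (Tr.node (Tr.leaf (45,19,true)) (Tr.leaf (0,0,false)))))) (Tr.node (Tr.node (Tr.node (Tr.node (Tr.leaf (11,10,false)) (Tr.leaf (55,30,false))) (Tr.node (Tr.leaf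 (32,21,false)) (Tr.leaf (74,24,true)))) (Tr.node (Tr.node (Tr.leaf (20,12,true)) (Tr.leaf (68,1,false))) (Tr.node (Tr.leaf (42,18,true)) (Tr.leaf (0,0,false))))) (Tr.node (Tr.node (Tr.node (Tr.leaf (16,21,false)) (Tr.leaf (60,23,false))) (Tr.node (Tr.leaf (38,6,true)) (Tr.leaf (0,0,false)))) (Tr.node (Tr.node (Tr.leaf (28,3,false)) (Tr.leaf (71,1,true))) (Tr.node (Tr.leaf (48,25,false)) (Tr.leaf (0,0,false))))))) (Tr.node (Tr.node (Tr.node (Tr.node (Tr.node (Tr.leaf (9,10,false)) (Tr.leaf (53,13,false))) (Tr.node (Tr.leaf (31,25,false)) (Tr.leaf (73,41,true)))) (Tr.node (Tr.node (Tr.leaf (20,0,false)) (Tr.leaf (67,10,false))) (Tr.node (Tr.leaf (41,6,true)) (Tr.leaf (0,0,false))))) (Tr.node (Tr.node (Tr.node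 (Tr.leaf (15,20,false)) (Tr.leaf (59,21,false))) (Tr.node (Tr.leaf (36,22,false)) (Tr.leaf (0,0,false)))) (Tr.node (Tr.node (Tr.leaf (27,5,false)) (Tr.leaf (70,26,true))) (Tr.node (Tr.leaf (46,23,true)) (Tr.leaf (0,0,false)))))) (Tr.node (Tr.node (Tr.node (Tr.node (Tr.leaf (12,22,true)) (Tr.leaf (56,26,true))) (Tr.node (Tr.leaf (33,25,false)) (Tr.leaf (0,0,false)))) (Tr.node (Tr.node (Tr.leaf (22,10,false)) (Tr.leaf (68,27,true))) (Tr.node (Tr.leaf (45,3,false)) (Tr.leaf (0,0,false))))) (Tr.node (Tr.node (Tr.node (Tr.leaf (17,4,false)) (Tr.leaf (62,26,false))) (Tr.node (Tr.leaf (39,2,true)) (Tr.leaf (0,0,false)))) (Tr.node (Tr.node (Tr.leaf (29,7,false)) (Tr.leaf (72,18,false))) (Tr.node (Tr.leaf (50,30,false))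 (Tr.leaf (0,0,false)))))))) (Tr.node (Tr.node (Tr.node (Tr.node (Tr.node (Tr.node (Tr.leaf (8,13,false)) (Tr.leaf (52,14,true))) (Tr.node (Tr.leaf (30,8,true)) (Tr.leaf (73,1,true)))) (Tr.node (Tr.node (Tr.leaf (19,17,false)) (Tr.leaf (66,24,false))) (Tr.node (Tr.leaf (41,4,false)) (Tr.leaf (0,0,false))))) (Tr.node (Tr.node (Tr.node (Tr.leaf (15,2,false)) (Tr.leaf (58,16,false))) (Tr.node (Tr.leaf (35,19,true)) (Tr.leaf (0,0,false)))) (Tr.node (Tr.node (Tr.leaf (26,22,false)) (Tr.leaf (70,10,false))) (Tr.node (Tr.leaf (46,23,false)) (Tr.leaf (0,0,false)))))) (Tr.node (Tr.node (Tr.node (Tr.node (Tr.leaf (12,0,false)) (Tr.leaf (55,28,true))) (Tr.node (Tr.leaf (33,3,false)) (Tr.leaf (74,46,true)))) (Tr.node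 (Tr.node (Tr.leaf (21,12,false)) (Tr.leaf (68,20,false))) (Tr.node (Tr.leaf (44,11,false)) (Tr.leaf (0,0,false))))) (Tr.node (Tr.node (Tr.node (Tr.leaf (16,13,true)) (Tr.leaf (60,18,true))) (Tr.node (Tr.leaf (39,7,false)) (Tr.leaf (0,0,false)))) (Tr.node (Tr.node (Tr.leaf (28,5,true)) (Tr.leaf (71,32,true))) (Tr.node (Tr.leaf (48,21,true)) (Tr.leaf (0,0,false))))))) (Tr.node (Tr.node (Tr.node (Tr.node (Tr.node (Tr.leaf (10,16,false)) (Tr.leaf (54,27,false))) (Tr.node (Tr.leaf (31,20,true)) (Tr.leaf (74,13,false)))) (Tr.node (Tr.node (Tr.leaf (20,19,false)) (Tr.leaf (67,6,true))) (Tr.node (Tr.leaf (42,8,false)) (Tr.leaf (0,0,false))))) (Tr.node (Tr.node (Tr.node (Tr.leaf (16,4,false)) (Tr.leaf (59,22,true)))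 (Tr.node (Tr.leaf (38,15,false)) (Tr.leaf (0,0,false)))) (Tr.node (Tr.node (Tr.leaf (27,8,true)) (Tr.leaf (71,5,false))) (Tr.node (Tr.leaf (47,28,false)) (Tr.leaf (0,0,false)))))) (Tr.node (Tr.node (Tr.node (Tr.node (Tr.leaf (13,18,false)) (Tr.leaf (57,18,false))) (Tr.node (Tr.leaf (33,21,true)) (Tr.leaf (0,0,false)))) (Tr.node (Tr.node (Tr.leaf (23,11,false)) (Tr.leaf (69,10,false))) (Tr.node (Tr.leaf (45,30,false)) (Tr.leaf (0,0,false))))) (Tr.node (Tr.node (Tr.node (Tr.leaf (18,0,false)) (Tr.leaf (63,24,false))) (Tr.node (Tr.leaf (39,27,true)) (Tr.leaf (0,0,false)))) (Tr.node (Tr.node (Tr.leaf (29,14,true)) (Tr.leaf (72,30,true))) (Tr.node (Tr.leaf (51,14,false)) (Tr.leaf (0,0,false))))))))) (Tr.node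 (Tr.node (Tr.node (Tr.node (Tr.node (Tr.node (Tr.node (Tr.leaf (7,13,true)) (Tr.leaf (52,16,false))) (Tr.node (Tr.leaf (30,21,false)) (Tr.leaf (73,19,false)))) (Tr.node (Tr.node (Tr.leaf (19,8,false)) (Tr.leaf (65,27,false))) (Tr.node (Tr.leaf (40,22,true)) (Tr.leaf (0,0,false))))) (Tr.node (Tr.node (Tr.node (Tr.leaf (14,15,true)) (Tr.leaf (58,2,false))) (Tr.node (Tr.leaf (35,12,false)) (Tr.leaf (0,0,false)))) (Tr.node (Tr.node (Tr.leaf (25,21,false)) (Tr.leaf (70,0,false))) (Tr.node (Tr.leaf (46,12,false)) (Tr.leaf (0,0,false)))))) (Tr.node (Tr.node (Tr.node (Tr.node (Tr.leaf (11,21,false)) (Tr.leaf (55,11,true))) (Tr.node (Tr.leaf (32,7,true)) (Tr.leaf (74,36,true)))) (Tr.node (Tr.node (Tr.leaf (20,24,true))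 (Tr.leaf (68,10,false))) (Tr.node (Tr.leaf (43,14,false)) (Tr.leaf (0,0,false))))) (Tr.node (Tr.node (Tr.node (Tr.leaf (16,4,true)) (Tr.leaf (60,4,true))) (Tr.node (Tr.leaf (38,21,true)) (Tr.leaf (0,0,false)))) (Tr.node (Tr.node (Tr.leaf (28,17,false)) (Tr.leaf (71,23,true))) (Tr.node (Tr.leaf (48,7,true)) (Tr.leaf (0,0,false))))))) (Tr.node (Tr.node (Tr.node (Tr.node (Tr.node (Tr.leaf (9,10,true)) (Tr.leaf (54,4,false))) (Tr.node (Tr.leaf (31,8,true)) (Tr.leaf (74,3,false)))) (Tr.node (Tr.node (Tr.leaf (20,10,false)) (Tr.leaf (67,22,false))) (Tr.node (Tr.leaf (41,26,true)) (Tr.leaf (0,0,false))))) (Tr.node (Tr.node (Tr.node (Tr.leaf (15,10,true)) (Tr.leaf (59,3,true))) (Tr.node (Tr.leaf (37,21,false))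 (Tr.leaf (0,0,false)))) (Tr.node (Tr.node (Tr.leaf (27,21,false)) (Tr.leaf (70,34,true))) (Tr.node (Tr.leaf (47,12,false)) (Tr.leaf (0,0,false)))))) (Tr.node (Tr.node (Tr.node (Tr.node (Tr.leaf (13,7,false)) (Tr.leaf (57,6,false))) (Tr.node (Tr.leaf (33,8,true)) (Tr.leaf (0,0,false)))) (Tr.node (Tr.node (Tr.leaf (22,17,true)) (Tr.leaf (69,2,false))) (Tr.node (Tr.leaf (45,15,false)) (Tr.leaf (0,0,false))))) (Tr.node (Tr.node (Tr.node (Tr.leaf (17,14,false)) (Tr.leaf (62,21,true))) (Tr.node (Tr.leaf (39,14,true)) (Tr.leaf (0,0,false)))) (Tr.node (Tr.node (Tr.leaf (29,22,false)) (Tr.leaf (72,46,false))) (Tr.node (Tr.leaf (51,3,false)) (Tr.leaf (0,0,false)))))))) (Tr.node (Tr.node (Tr.node (Tr.node (Tr.node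 (Tr.node (Tr.leaf (9,2,false)) (Tr.leaf (53,1,false))) (Tr.node (Tr.leaf (31,10,false)) (Tr.leaf (73,29,true)))) (Tr.node (Tr.node (Tr.leaf (19,25,false)) (Tr.leaf (67,2,false))) (Tr.node (Tr.leaf (41,16,false)) (Tr.leaf (0,0,false))))) (Tr.node (Tr.node (Tr.node (Tr.leaf (15,12,false)) (Tr.leaf (58,28,false))) (Tr.node (Tr.leaf (36,8,false)) (Tr.leaf (0,0,false)))) (Tr.node (Tr.node (Tr.leaf (26,25,true)) (Tr.leaf (70,35,false))) (Tr.node (Tr.leaf (46,3,true)) (Tr.leaf (0,0,false)))))) (Tr.node (Tr.node (Tr.node (Tr.node (Tr.leaf (12,5,true)) (Tr.leaf (56,18,false))) (Tr.node (Tr.leaf (33,15,false)) (Tr.leaf (0,0,false)))) (Tr.node (Tr.node (Tr.leaf (21,8,true)) (Tr.leaf (68,2,true))) (Tr.node (Tr.leaf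 (44,25,false)) (Tr.leaf (0,0,false))))) (Tr.node (Tr.node (Tr.node (Tr.leaf (16,22,true)) (Tr.leaf (61,19,false))) (Tr.node (Tr.leaf (39,20,false)) (Tr.leaf (0,0,false)))) (Tr.node (Tr.node (Tr.leaf (28,22,true)) (Tr.leaf (72,4,false))) (Tr.node (Tr.leaf (50,4,false)) (Tr.leaf (0,0,false))))))) (Tr.node (Tr.node (Tr.node (Tr.node (Tr.node (Tr.leaf (11,1,false)) (Tr.leaf (55,13,false))) (Tr.node (Tr.leaf (32,8,false)) (Tr.leaf (74,29,false)))) (Tr.node (Tr.node (Tr.leaf (20,2,true)) (Tr.leaf (67,18,true))) (Tr.node (Tr.leaf (42,28,false)) (Tr.leaf (0,0,false))))) (Tr.node (Tr.node (Tr.node (Tr.leaf (16,12,false)) (Tr.leaf (60,7,false))) (Tr.node (Tr.leaf (38,25,false)) (Tr.leaf (0,0,false)))) (Tr.node (Tr.node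 (Tr.leaf (27,23,true)) (Tr.leaf (71,16,false))) (Tr.node (Tr.leaf (48,10,false)) (Tr.leaf (0,0,false)))))) (Tr.node (Tr.node (Tr.node (Tr.node (Tr.leaf (14,7,false)) (Tr.leaf (57,0,true))) (Tr.node (Tr.leaf (34,10,false)) (Tr.leaf (0,0,false)))) (Tr.node (Tr.node (Tr.leaf (24,1,false)) (Tr.leaf (69,0,true))) (Tr.node (Tr.leaf (45,7,true)) (Tr.leaf (0,0,false))))) (Tr.node (Tr.node (Tr.node (Tr.leaf (18,12,false)) (Tr.leaf (64,29,false))) (Tr.node (Tr.leaf (40,21,false)) (Tr.leaf (0,0,false)))) (Tr.node (Tr.node (Tr.leaf (30,0,false)) (Tr.leaf (72,45,true))) (Tr.node (Tr.leaf (51,30,false)) (Tr.leaf (0,0,false))))))))))) (Tr.node (Tr.node (Tr.node (Tr.node (Tr.node (Tr.node (Tr.node (Tr.node (Tr.node (Tr.leaf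 (7,2,false)) (Tr.leaf (51,26,true))) (Tr.node (Tr.leaf (30,8,false)) (Tr.leaf (73,3,false)))) (Tr.node (Tr.node (Tr.leaf (18,23,false)) (Tr.leaf (65,8,false))) (Tr.node (Tr.leaf (40,6,true)) (Tr.leaf (0,0,false))))) (Tr.node (Tr.node (Tr.node (Tr.leaf (14,22,false)) (Tr.leaf (57,14,true))) (Tr.node (Tr.leaf (34,22,false)) (Tr.leaf (0,0,false)))) (Tr.node (Tr.node (Tr.leaf (24,16,false)) (Tr.leaf (69,22,true))) (Tr.node (Tr.leaf (45,17,true)) (Tr.leaf (0,0,false)))))) (Tr.node (Tr.node (Tr.node (Tr.node (Tr.leaf (11,8,false)) (Tr.leaf (55,25,false))) (Tr.node (Tr.leaf (32,18,false)) (Tr.leaf (74,22,true)))) (Tr.node (Tr.node (Tr.leaf (20,10,true)) (Tr.leaf (67,24,true))) (Tr.node (Tr.leaf (42,9,true)) (Tr.leaf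 (0,0,false))))) (Tr.node (Tr.node (Tr.node (Tr.leaf (16,18,false)) (Tr.leaf (60,17,false))) (Tr.node (Tr.leaf (38,4,true)) (Tr.leaf (0,0,false)))) (Tr.node (Tr.node (Tr.leaf (28,1,false)) (Tr.leaf (71,36,false))) (Tr.node (Tr.leaf (48,20,false)) (Tr.leaf (0,0,false))))))) (Tr.node (Tr.node (Tr.node (Tr.node (Tr.node (Tr.leaf (9,8,false)) (Tr.leaf (53,11,false))) (Tr.node (Tr.leaf (31,21,false)) (Tr.leaf (73,36,true)))) (Tr.node (Tr.node (Tr.leaf (19,21,true)) (Tr.leaf (67,8,false))) (Tr.node (Tr.leaf (41,1,true)) (Tr.leaf (0,0,false))))) (Tr.node (Tr.node (Tr.node (Tr.leaf (15,18,false)) (Tr.leaf (59,19,false))) (Tr.node (Tr.leaf (36,17,false)) (Tr.leaf (0,0,false)))) (Tr.node (Tr.node (Tr.leaf (27,3,false))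 (Tr.leaf (70,5,true))) (Tr.node (Tr.leaf (46,19,true)) (Tr.leaf (0,0,false)))))) (Tr.node (Tr.node (Tr.node (Tr.node (Tr.leaf (12,19,true)) (Tr.leaf (56,18,true))) (Tr.node (Tr.leaf (33,23,false)) (Tr.leaf (0,0,false)))) (Tr.node (Tr.node (Tr.leaf (22,1,false)) (Tr.leaf (68,25,true))) (Tr.node (Tr.leaf (45,1,false)) (Tr.leaf (0,0,false))))) (Tr.node (Tr.node (Tr.node (Tr.leaf (17,2,false)) (Tr.leaf (62,12,false))) (Tr.node (Tr.leaf (39,0,true)) (Tr.leaf (0,0,false)))) (Tr.node (Tr.node (Tr.leaf (29,3,false)) (Tr.leaf (72,10,false))) (Tr.node (Tr.leaf (50,21,false)) (Tr.leaf (0,0,false)))))))) (Tr.node (Tr.node (Tr.node (Tr.node (Tr.node (Tr.node (Tr.leaf (8,4,false)) (Tr.leaf (52,0,true))) (Tr.node (Tr.leaf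 (30,1,true)) (Tr.leaf (73,25,false)))) (Tr.node (Tr.node (Tr.leaf (19,15,false)) (Tr.leaf (65,28,true))) (Tr.node (Tr.leaf (41,2,false)) (Tr.leaf (0,0,false))))) (Tr.node (Tr.node (Tr.node (Tr.leaf (15,0,false)) (Tr.leaf (58,13,false))) (Tr.node (Tr.leaf (35,26,false)) (Tr.leaf (0,0,false)))) (Tr.node (Tr.node (Tr.leaf (26,20,false)) (Tr.leaf (70,6,false))) (Tr.node (Tr.leaf (46,21,false)) (Tr.leaf (0,0,false)))))) (Tr.node (Tr.node (Tr.node (Tr.node (Tr.leaf (11,22,true)) (Tr.leaf (55,26,true))) (Tr.node (Tr.leaf (33,0,false)) (Tr.leaf (74,42,true)))) (Tr.node (Tr.node (Tr.leaf (21,10,false)) (Tr.leaf (68,18,false))) (Tr.node (Tr.leaf (44,7,false)) (Tr.leaf (0,0,false))))) (Tr.node (Tr.node (Tr.node (Tr.leaf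 (16,11,true)) (Tr.leaf (60,15,true))) (Tr.node (Tr.leaf (38,31,true)) (Tr.leaf (0,0,false)))) (Tr.node (Tr.node (Tr.leaf (28,1,true)) (Tr.leaf (71,29,true))) (Tr.node (Tr.leaf (48,18,true)) (Tr.leaf (0,0,false))))))) (Tr.node (Tr.node (Tr.node (Tr.node (Tr.node (Tr.leaf (10,7,false)) (Tr.leaf (54,24,false))) (Tr.node (Tr.leaf (31,17,true)) (Tr.leaf (74,11,false)))) (Tr.node (Tr.node (Tr.leaf (20,17,false)) (Tr.leaf (67,3,true))) (Tr.node (Tr.leaf (42,5,false)) (Tr.leaf (0,0,false))))) (Tr.node (Tr.node (Tr.node (Tr.leaf (16,2,false)) (Tr.leaf (59,15,true))) (Tr.node (Tr.leaf (38,10,false)) (Tr.leaf (0,0,false)))) (Tr.node (Tr.node (Tr.leaf (27,1,true)) (Tr.leaf (71,3,false))) (Tr.node (Tr.leaf (47,24,false))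 (Tr.leaf (0,0,false)))))) (Tr.node (Tr.node (Tr.node (Tr.node (Tr.leaf (13,14,false)) (Tr.leaf (57,15,false))) (Tr.node (Tr.leaf (33,19,true)) (Tr.leaf (0,0,false)))) (Tr.node (Tr.node (Tr.leaf (23,7,false)) (Tr.leaf (69,8,false))) (Tr.node (Tr.leaf (45,27,false)) (Tr.leaf (0,0,false))))) (Tr.node (Tr.node (Tr.node (Tr.leaf (17,25,false)) (Tr.leaf (63,18,false))) (Tr.node (Tr.leaf (39,25,true)) (Tr.leaf (0,0,false)))) (Tr.node (Tr.node (Tr.leaf (29,11,true)) (Tr.leaf (72,28,true))) (Tr.node (Tr.leaf (51,12,false)) (Tr.leaf (0,0,false))))))))) (Tr.node (Tr.node (Tr.node (Tr.node (Tr.node (Tr.node (Tr.node (Tr.leaf (7,9,true)) (Tr.leaf (52,14,false))) (Tr.node (Tr.leaf (30,17,false)) (Tr.leaf (73,11,false))))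 (Tr.node (Tr.node (Tr.leaf (19,5,false)) (Tr.leaf (65,25,false))) (Tr.node (Tr.leaf (40,19,true)) (Tr.leaf (0,0,false))))) (Tr.node (Tr.node (Tr.node (Tr.leaf (14,12,true)) (Tr.leaf (57,30,true))) (Tr.node (Tr.leaf (35,5,false)) (Tr.leaf (0,0,false)))) (Tr.node (Tr.node (Tr.leaf (25,0,false)) (Tr.leaf (69,30,true))) (Tr.node (Tr.leaf (46,7,false)) (Tr.leaf (0,0,false)))))) (Tr.node (Tr.node (Tr.node (Tr.node (Tr.leaf (11,18,false)) (Tr.leaf (55,9,true))) (Tr.node (Tr.leaf (32,2,true)) (Tr.leaf (74,30,true)))) (Tr.node (Tr.node (Tr.leaf (20,20,true)) (Tr.leaf (68,7,false))) (Tr.node (Tr.leaf (43,4,false)) (Tr.leaf (0,0,false))))) (Tr.node (Tr.node (Tr.node (Tr.leaf (16,2,true)) (Tr.leaf (60,30,false)))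 (Tr.node (Tr.leaf (38,18,true)) (Tr.leaf (0,0,false)))) (Tr.node (Tr.node (Tr.leaf (28,15,false)) (Tr.leaf (71,21,true))) (Tr.node (Tr.leaf (48,5,true)) (Tr.leaf (0,0,false))))))) (Tr.node (Tr.node (Tr.node (Tr.node (Tr.node (Tr.leaf (9,1,true)) (Tr.leaf (53,25,true))) (Tr.node (Tr.leaf (31,6,true)) (Tr.leaf (74,1,false)))) (Tr.node (Tr.node (Tr.leaf (20,8,false)) (Tr.leaf (67,16,false))) (Tr.node (Tr.leaf (41,19,true)) (Tr.leaf (0,0,false))))) (Tr.node (Tr.node (Tr.node (Tr.leaf (15,1,true)) (Tr.leaf (59,31,false))) (Tr.node (Tr.leaf (36,4,true)) (Tr.leaf (0,0,false)))) (Tr.node (Tr.node (Tr.leaf (27,17,false)) (Tr.leaf (70,32,true))) (Tr.node (Tr.leaf (47,9,false)) (Tr.leaf (0,0,false)))))) (Tr.node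 (Tr.node (Tr.node (Tr.node (Tr.leaf (13,5,false)) (Tr.leaf (57,4,false))) (Tr.node (Tr.leaf (33,4,true)) (Tr.leaf (0,0,false)))) (Tr.node (Tr.node (Tr.leaf (22,26,false)) (Tr.leaf (68,36,true))) (Tr.node (Tr.leaf (45,13,false)) (Tr.leaf (0,0,false))))) (Tr.node (Tr.node (Tr.node (Tr.leaf (17,11,false)) (Tr.leaf (62,17,true))) (Tr.node (Tr.leaf (39,11,true)) (Tr.leaf (0,0,false)))) (Tr.node (Tr.node (Tr.leaf (29,19,false)) (Tr.leaf (72,25,false))) (Tr.node (Tr.leaf (51,1,false)) (Tr.leaf (0,0,false)))))))) (Tr.node (Tr.node (Tr.node (Tr.node (Tr.node (Tr.node (Tr.leaf (9,0,false)) (Tr.leaf (52,29,true))) (Tr.node (Tr.leaf (31,7,false)) (Tr.leaf (73,27,true)))) (Tr.node (Tr.node (Tr.leaf (19,23,false)) (Tr.leaf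 (67,0,false))) (Tr.node (Tr.leaf (41,13,false)) (Tr.leaf (0,0,false))))) (Tr.node (Tr.node (Tr.node (Tr.leaf (15,9,false)) (Tr.leaf (58,22,false))) (Tr.node (Tr.leaf (36,4,false)) (Tr.leaf (0,0,false)))) (Tr.node (Tr.node (Tr.leaf (26,19,true)) (Tr.leaf (70,17,false))) (Tr.node (Tr.leaf (46,31,false)) (Tr.leaf (0,0,false)))))) (Tr.node (Tr.node (Tr.node (Tr.node (Tr.leaf (12,2,true)) (Tr.leaf (56,15,false))) (Tr.node (Tr.leaf (33,12,false)) (Tr.leaf (0,0,false)))) (Tr.node (Tr.node (Tr.leaf (21,26,false)) (Tr.leaf (68,0,true))) (Tr.node (Tr.leaf (44,22,false)) (Tr.leaf (0,0,false))))) (Tr.node (Tr.node (Tr.node (Tr.leaf (16,19,true)) (Tr.leaf (60,25,true))) (Tr.node (Tr.leaf (39,18,false)) (Tr.leaf (0,0,false))))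 (Tr.node (Tr.node (Tr.leaf (28,18,true)) (Tr.leaf (72,2,false))) (Tr.node (Tr.leaf (49,20,false)) (Tr.leaf (0,0,false))))))) (Tr.node (Tr.node (Tr.node (Tr.node (Tr.node (Tr.leaf (10,16,true)) (Tr.leaf (55,9,false))) (Tr.node (Tr.leaf (32,5,false)) (Tr.leaf (74,26,false)))) (Tr.node (Tr.node (Tr.leaf (20,26,false)) (Tr.leaf (67,16,true))) (Tr.node (Tr.leaf (42,25,false)) (Tr.leaf (0,0,false))))) (Tr.node (Tr.node (Tr.node (Tr.leaf (16,10,false)) (Tr.leaf (60,0,false))) (Tr.node (Tr.leaf (38,22,false)) (Tr.leaf (0,0,false)))) (Tr.node (Tr.node (Tr.leaf (27,16,true)) (Tr.leaf (71,14,false))) (Tr.node (Tr.leaf (48,7,false)) (Tr.leaf (0,0,false)))))) (Tr.node (Tr.node (Tr.node (Tr.node (Tr.leaf (14,1,false))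 (Tr.leaf (57,29,false))) (Tr.node (Tr.leaf (34,5,false)) (Tr.leaf (0,0,false)))) (Tr.node (Tr.node (Tr.leaf (23,24,false)) (Tr.leaf (69,23,false))) (Tr.node (Tr.leaf (45,5,true)) (Tr.leaf (0,0,false))))) (Tr.node (Tr.node (Tr.node (Tr.leaf (18,10,false)) (Tr.leaf (64,26,false))) (Tr.node (Tr.leaf (40,6,false)) (Tr.leaf (0,0,false)))) (Tr.node (Tr.node (Tr.leaf (29,28,true)) (Tr.leaf (72,43,true))) (Tr.node (Tr.leaf (51,26,false)) (Tr.leaf (0,0,false)))))))))) (Tr.node (Tr.node (Tr.node (Tr.node (Tr.node (Tr.node (Tr.node (Tr.node (Tr.leaf (7,14,false)) (Tr.leaf (52,4,false))) (Tr.node (Tr.leaf (30,12,false)) (Tr.leaf (73,7,false)))) (Tr.node (Tr.node (Tr.leaf (19,0,false)) (Tr.leaf (65,18,false))) (Tr.node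 (Tr.leaf (40,12,true)) (Tr.leaf (0,0,false))))) (Tr.node (Tr.node (Tr.node (Tr.leaf (14,4,true)) (Tr.leaf (57,25,true))) (Tr.node (Tr.leaf (34,1,true)) (Tr.leaf (0,0,false)))) (Tr.node (Tr.node (Tr.leaf (24,21,false)) (Tr.leaf (69,26,true))) (Tr.node (Tr.leaf (45,22,true)) (Tr.leaf (0,0,false)))))) (Tr.node (Tr.node (Tr.node (Tr.node (Tr.leaf (11,12,false)) (Tr.leaf (55,2,true))) (Tr.node (Tr.leaf (32,24,false)) (Tr.leaf (74,26,true)))) (Tr.node (Tr.node (Tr.leaf (20,14,true)) (Tr.leaf (68,3,false))) (Tr.node (Tr.leaf (42,21,true)) (Tr.leaf (0,0,false))))) (Tr.node (Tr.node (Tr.node (Tr.leaf (16,23,false)) (Tr.leaf (60,26,false))) (Tr.node (Tr.leaf (38,8,true)) (Tr.leaf (0,0,false)))) (Tr.node (Tr.node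 (Tr.leaf (28,5,false)) (Tr.leaf (71,3,true))) (Tr.node (Tr.leaf (48,1,true)) (Tr.leaf (0,0,false))))))) (Tr.node (Tr.node (Tr.node (Tr.node (Tr.node (Tr.leaf (9,13,false)) (Tr.leaf (53,18,false))) (Tr.node (Tr.leaf (31,0,true)) (Tr.leaf (73,43,true)))) (Tr.node (Tr.node (Tr.leaf (20,4,false)) (Tr.leaf (67,12,false))) (Tr.node (Tr.leaf (41,11,true)) (Tr.leaf (0,0,false))))) (Tr.node (Tr.node (Tr.node (Tr.leaf (15,22,false)) (Tr.leaf (59,23,false))) (Tr.node (Tr.leaf (36,25,false)) (Tr.leaf (0,0,false)))) (Tr.node (Tr.node (Tr.leaf (27,10,false)) (Tr.leaf (70,28,true))) (Tr.node (Tr.leaf (46,28,true)) (Tr.leaf (0,0,false)))))) (Tr.node (Tr.node (Tr.node (Tr.node (Tr.leaf (13,1,false)) (Tr.leaf (56,29,true)))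 (Tr.node (Tr.leaf (33,27,false)) (Tr.leaf (0,0,false)))) (Tr.node (Tr.node (Tr.leaf (22,19,false)) (Tr.leaf (68,29,true))) (Tr.node (Tr.leaf (45,5,false)) (Tr.leaf (0,0,false))))) (Tr.node (Tr.node (Tr.node (Tr.leaf (17,7,false)) (Tr.leaf (62,29,false))) (Tr.node (Tr.leaf (39,5,true)) (Tr.leaf (0,0,false)))) (Tr.node (Tr.node (Tr.leaf (29,12,false)) (Tr.leaf (72,20,false))) (Tr.node (Tr.leaf (50,2,true)) (Tr.leaf (0,0,false)))))))) (Tr.node (Tr.node (Tr.node (Tr.node (Tr.node (Tr.node (Tr.leaf (8,16,false)) (Tr.leaf (52,20,true))) (Tr.node (Tr.leaf (30,24,true)) (Tr.leaf (73,3,true)))) (Tr.node (Tr.node (Tr.leaf (19,19,false)) (Tr.leaf (66,15,true))) (Tr.node (Tr.leaf (41,6,false)) (Tr.leaf (0,0,false)))))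 (Tr.node (Tr.node (Tr.node (Tr.leaf (15,5,false)) (Tr.leaf (58,18,false))) (Tr.node (Tr.leaf (35,26,true)) (Tr.leaf (0,0,false)))) (Tr.node (Tr.node (Tr.leaf (26,27,false)) (Tr.leaf (70,12,false))) (Tr.node (Tr.leaf (46,25,false)) (Tr.leaf (0,0,false)))))) (Tr.node (Tr.node (Tr.node (Tr.node (Tr.leaf (12,2,false)) (Tr.leaf (56,5,false))) (Tr.node (Tr.leaf (33,6,false)) (Tr.leaf (75,1,false)))) (Tr.node (Tr.node (Tr.leaf (21,15,false)) (Tr.leaf (68,23,false))) (Tr.node (Tr.leaf (44,14,false)) (Tr.leaf (0,0,false))))) (Tr.node (Tr.node (Tr.node (Tr.leaf (16,15,true)) (Tr.leaf (60,20,true))) (Tr.node (Tr.leaf (39,12,false)) (Tr.leaf (0,0,false)))) (Tr.node (Tr.node (Tr.leaf (28,7,true)) (Tr.leaf (71,34,true)))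 (Tr.node (Tr.leaf (48,25,true)) (Tr.leaf (0,0,false))))))) (Tr.node (Tr.node (Tr.node (Tr.node (Tr.node (Tr.leaf (10,0,true)) (Tr.leaf (55,1,false))) (Tr.node (Tr.leaf (31,27,true)) (Tr.leaf (74,15,false)))) (Tr.node (Tr.node (Tr.leaf (20,21,false)) (Tr.leaf (67,11,true))) (Tr.node (Tr.leaf (42,15,false)) (Tr.leaf (0,0,false))))) (Tr.node (Tr.node (Tr.node (Tr.leaf (16,6,false)) (Tr.leaf (59,25,true))) (Tr.node (Tr.leaf (38,18,false)) (Tr.leaf (0,0,false)))) (Tr.node (Tr.node (Tr.leaf (27,10,true)) (Tr.leaf (71,7,false))) (Tr.node (Tr.leaf (47,26,true)) (Tr.leaf (0,0,false)))))) (Tr.node (Tr.node (Tr.node (Tr.node (Tr.leaf (13,3,true)) (Tr.leaf (57,24,false))) (Tr.node (Tr.leaf (33,24,true)) (Tr.leaf (0,0,false))))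 (Tr.node (Tr.node (Tr.leaf (23,15,false)) (Tr.leaf (69,12,false))) (Tr.node (Tr.leaf (45,1,true)) (Tr.leaf (0,0,false))))) (Tr.node (Tr.node (Tr.node (Tr.leaf (18,3,false)) (Tr.leaf (63,28,false))) (Tr.node (Tr.leaf (39,29,true)) (Tr.leaf (0,0,false)))) (Tr.node (Tr.node (Tr.leaf (29,18,true)) (Tr.leaf (72,32,true))) (Tr.node (Tr.leaf (51,17,false)) (Tr.leaf (0,0,false))))))))) (Tr.node (Tr.node (Tr.node (Tr.node (Tr.node (Tr.node (Tr.node (Tr.leaf (8,0,false)) (Tr.leaf (52,22,false))) (Tr.node (Tr.leaf (30,23,false)) (Tr.leaf (73,21,false)))) (Tr.node (Tr.node (Tr.leaf (19,10,false)) (Tr.leaf (65,29,false))) (Tr.node (Tr.leaf (40,27,true)) (Tr.leaf (0,0,false))))) (Tr.node (Tr.node (Tr.node (Tr.leaf (14,21,true))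 (Tr.leaf (58,7,false))) (Tr.node (Tr.leaf (35,15,false)) (Tr.leaf (0,0,false)))) (Tr.node (Tr.node (Tr.leaf (25,27,true)) (Tr.leaf (70,2,false))) (Tr.node (Tr.leaf (46,15,false)) (Tr.leaf (0,0,false)))))) (Tr.node (Tr.node (Tr.node (Tr.node (Tr.leaf (11,2,true)) (Tr.leaf (55,14,true))) (Tr.node (Tr.leaf (32,14,true)) (Tr.leaf (74,38,true)))) (Tr.node (Tr.node (Tr.leaf (20,26,true)) (Tr.leaf (68,14,false))) (Tr.node (Tr.leaf (43,24,false)) (Tr.leaf (0,0,false))))) (Tr.node (Tr.node (Tr.node (Tr.leaf (16,7,true)) (Tr.leaf (60,6,true))) (Tr.node (Tr.leaf (38,25,true)) (Tr.leaf (0,0,false)))) (Tr.node (Tr.node (Tr.leaf (28,23,false)) (Tr.leaf (71,25,true))) (Tr.node (Tr.leaf (48,12,true)) (Tr.leaf (0,0,false)))))))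 (Tr.node (Tr.node (Tr.node (Tr.node (Tr.node (Tr.leaf (9,14,true)) (Tr.leaf (54,17,false))) (Tr.node (Tr.leaf (31,12,true)) (Tr.leaf (74,5,false)))) (Tr.node (Tr.node (Tr.leaf (20,12,false)) (Tr.leaf (67,24,false))) (Tr.node (Tr.leaf (42,0,false)) (Tr.leaf (0,0,false))))) (Tr.node (Tr.node (Tr.node (Tr.leaf (15,17,true)) (Tr.leaf (59,6,true))) (Tr.node (Tr.leaf (37,12,true)) (Tr.leaf (0,0,false)))) (Tr.node (Tr.node (Tr.leaf (27,23,false)) (Tr.leaf (70,36,true))) (Tr.node (Tr.leaf (47,14,false)) (Tr.leaf (0,0,false)))))) (Tr.node (Tr.node (Tr.node (Tr.node (Tr.leaf (13,9,false)) (Tr.leaf (57,9,false))) (Tr.node (Tr.leaf (33,13,true)) (Tr.leaf (0,0,false)))) (Tr.node (Tr.node (Tr.leaf (23,1,false)) (Tr.leaf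 (69,4,false))) (Tr.node (Tr.leaf (45,20,false)) (Tr.leaf (0,0,false))))) (Tr.node (Tr.node (Tr.node (Tr.leaf (17,16,false)) (Tr.leaf (63,5,false))) (Tr.node (Tr.leaf (39,19,true)) (Tr.leaf (0,0,false)))) (Tr.node (Tr.node (Tr.leaf (29,1,true)) (Tr.leaf (72,1,true))) (Tr.node (Tr.leaf (51,8,false)) (Tr.leaf (0,0,false)))))))) (Tr.node (Tr.node (Tr.node (Tr.node (Tr.node (Tr.node (Tr.leaf (9,4,false)) (Tr.leaf (53,6,false))) (Tr.node (Tr.leaf (31,15,false)) (Tr.leaf (73,31,true)))) (Tr.node (Tr.node (Tr.leaf (19,27,false)) (Tr.leaf (67,4,false))) (Tr.node (Tr.leaf (41,28,false)) (Tr.leaf (0,0,false))))) (Tr.node (Tr.node (Tr.node (Tr.leaf (15,14,false)) (Tr.leaf (58,28,true))) (Tr.node (Tr.leaf (36,12,false))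 (Tr.leaf (0,0,false)))) (Tr.node (Tr.node (Tr.leaf (26,29,true)) (Tr.leaf (70,1,true))) (Tr.node (Tr.leaf (46,8,true)) (Tr.leaf (0,0,false)))))) (Tr.node (Tr.node (Tr.node (Tr.node (Tr.leaf (12,8,true)) (Tr.leaf (56,23,false))) (Tr.node (Tr.leaf (33,18,false)) (Tr.leaf (0,0,false)))) (Tr.node (Tr.node (Tr.leaf (21,20,true)) (Tr.leaf (68,19,true))) (Tr.node (Tr.leaf (44,4,true)) (Tr.leaf (0,0,false))))) (Tr.node (Tr.node (Tr.node (Tr.leaf (16,24,true)) (Tr.leaf (61,31,false))) (Tr.node (Tr.leaf (39,22,false)) (Tr.leaf (0,0,false)))) (Tr.node (Tr.node (Tr.leaf (28,26,true)) (Tr.leaf (72,6,false))) (Tr.node (Tr.leaf (50,7,false)) (Tr.leaf (0,0,false))))))) (Tr.node (Tr.node (Tr.node (Tr.node (Tr.node (Tr.leaf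 (11,3,false)) (Tr.leaf (55,17,false))) (Tr.node (Tr.leaf (32,13,false)) (Tr.leaf (74,1,true)))) (Tr.node (Tr.node (Tr.leaf (20,6,true)) (Tr.leaf (67,20,true))) (Tr.node (Tr.leaf (42,31,false)) (Tr.leaf (0,0,false))))) (Tr.node (Tr.node (Tr.node (Tr.leaf (16,14,false)) (Tr.leaf (60,11,false))) (Tr.node (Tr.leaf (38,27,false)) (Tr.leaf (0,0,false)))) (Tr.node (Tr.node (Tr.leaf (27,25,true)) (Tr.leaf (71,18,false))) (Tr.node (Tr.leaf (48,12,false)) (Tr.leaf (0,0,false)))))) (Tr.node (Tr.node (Tr.node (Tr.node (Tr.leaf (14,13,false)) (Tr.leaf (57,6,true))) (Tr.node (Tr.leaf (34,16,false)) (Tr.leaf (0,0,false)))) (Tr.node (Tr.node (Tr.leaf (24,9,false)) (Tr.leaf (69,2,true))) (Tr.node (Tr.leaf (45,11,true))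 (Tr.leaf (0,0,false))))) (Tr.node (Tr.node (Tr.node (Tr.leaf (18,15,false)) (Tr.leaf (64,7,true))) (Tr.node (Tr.leaf (40,23,false)) (Tr.leaf (0,0,false)))) (Tr.node (Tr.node (Tr.leaf (30,4,false)) (Tr.leaf (72,47,true))) (Tr.node (Tr.leaf (51,3,true)) (Tr.leaf (0,0,false)))))))))))))

/-- The subgroup rotations. -/
noncomputable def srotT : Tr (List Nat × Nat × List Nat) := (Tr.node (Tr.leaf ([],0,[])) (Tr.leaf ([],1,[])))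

/-- The certificate. -/
noncomputable def cert : Cert :=
  mkCert 4 60003 142650 12 1626 1628 5 31 286 50 200 268 1125899906842623 295147905179352825855 18 16 262143 65535 34 32 3 ctree.get rotT.get srotT.get

/-- The relators. -/
def rels : List (List Nat) :=
  [[0,2,0,1,3,2,0,2,0,1,3,2,0,2,0,1,3,2,0,2,0,1,3,2,0,2,0,1,3,2,0,2,0,1,3,2,0,2,0,1,3,2],
   [1,3,2,0,1,1,3,2,0,1,1,3,2,0,1,1,3,2,0,1,1,3,2,0,1,1,3,2,0,1,1,3,2,0,1],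
   [1,1,1,3,2,0,1,1,1,3,2,0,1,1,1,3,2,0,1,1,1,3,2,0,1,1,1,3,2,0,1,1,1,3,2,0,1,1,1,3,2,0],
   [0,1,3,2,2,0,1,3,2,2,0,1,3,2,2,0,1,3,2,2,0,1,3,2,2,0,1,3,2,2,0,1,3,2,2],
   [2,2,0,1,3,2,2,2,0,1,3,2,2,2,0,1,3,2,2,2,0,1,3,2,2,2,0,1,3,2,2,2,0,1,3,2,2,2,0,1,3,2],
   [3,1,3,1,1,0,2,0,2,0,3,1,3,1,1,0,2,0,2,0,3,1,3,1,1,0,2,0,2,0,3,1,3,1,1,0,2,0,2,0,3,1,3,1,1,0,2,0,2,0,3,1,3,1,1,0,2,0,2,0,3,1,3,1,1,0,2,0,2,0],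
   [0,1,0,1,0,2,2,3,2,0,1,0,1,0,2,2,3,2,0,1,0,1,0,2,2,3,2,0,1,0,1,0,2,2,3,2,0,1,0,1,0,2,2,3,2,0,1,0,1,0,2,2,3,2,0,1,0,1,0,2,2,3,2],
   [0,1,0,1,0,1,0,1,0,1,0,1,0,1,0,1],
   [0,1,0,2,0,1,0,2,0,1,0,2,0,1,0,2,0,1,0,2],
   [0,1,1,1,1,0,2,2,2,2,0,1,1,1,1,0,2,2,2,2],
   [1,1,1,1,1,1,1,1,1,1,1,1,1,1,1,1,1,1,1,1],
   [0,1,0,1,0,2,0,1,0,2,0,2,0,1,0,1,0,2,0,1,0,2,0,2],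
   [0,1,1,0,1,1,0,1,1,0,1,1,0,1,1,0,1,1,0,1,1,0,1,1],
   [0,1,1,1,1,1,0,2,2,2,2,2,0,1,1,1,1,1,0,2,2,2,2,2],
   [0,1,1,1,1,0,1,1,1,1,0,1,1,1,1,0,1,1,1,1,0,1,1,1,1],
   [0,1,0,1,0,2,0,1,0,2,0,2,0,1,1,0,2,0,1,0,2,0,1,0,2,2],
   [0,1,0,1,1,0,2,2,2,2,2,2,2,0,1,1,0,1,1,0,1,1,0,1,0,2],
   [0,1,0,1,1,1,1,0,2,2,2,2,0,2,0,1,1,1,1,1,0,2,2,2,2,2],
   [0,1,0,2,2,2,2,2,0,1,1,1,1,1,0,2,0,2,2,2,2,0,1,1,1,1],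
   [0,1,0,1,0,1,0,2,0,2,0,2,0,1,0,1,1,0,1,1,0,2,2,0,2,2,0,2],
   [0,1,0,1,0,1,1,0,1,1,0,1,1,0,1,1,1,1,1,1,1,1,1,0,2,2,0,2],
   [0,1,0,1,0,2,2,0,1,1,0,2,0,2,0,1,0,1,0,2,2,0,1,1,0,2,0,2],
   [0,1,0,1,1,1,1,0,2,2,2,2,0,2,0,1,0,1,1,1,1,0,2,2,2,2,0,2],
   [0,1,0,2,0,1,0,2,0,2,2,0,1,1,0,1,0,2,0,1,0,2,0,2,2,0,1,1],
   [0,1,0,2,0,1,0,2,2,0,1,1,0,2,0,1,0,2,0,1,0,2,2,0,1,1,0,2],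
   [0,1,0,2,0,2,2,2,2,0,1,1,1,1,0,1,0,2,0,2,2,2,2,0,1,1,1,1],
   [0,1,0,1,0,1,0,1,0,1,0,1,0,1,1,0,1,0,1,0,1,0,1,0,1,0,1,0,1,1],
   [0,1,0,1,0,1,0,1,0,1,0,1,1,0,2,0,1,0,2,0,1,0,2,0,1,0,2,0,1,1],
   [0,1,0,1,0,1,0,1,0,1,1,0,1,0,2,0,1,0,2,0,2,0,1,0,1,0,2,0,1,1],
   [0,1,0,1,0,1,0,1,1,0,1,1,0,1,1,0,2,2,0,2,2,0,2,0,1,0,1,0,1,1],
   [0,1,0,1,0,1,0,2,0,1,0,2,0,2,0,2,0,1,1,0,1,0,2,0,1,0,2,0,2,2],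
   [0,1,0,1,0,1,1,0,1,1,0,1,1,0,2,2,2,2,2,2,2,2,2,2,2,0,2,2,0,2],
   [0,1,0,1,0,1,1,1,0,2,2,0,2,0,1,0,2,0,1,0,1,1,0,2,2,2,0,2,0,2],
   [0,1,0,1,0,1,1,1,0,2,2,0,2,2,2,0,2,2,0,2,2,0,1,1,1,1,0,2,0,2],
   [0,1,0,1,0,2,0,2,0,1,0,1,0,2,0,2,0,1,1,0,2,0,2,0,1,0,1,0,2,2],
   [0,1,0,2,0,1,0,2,0,2,2,0,1,1,1,0,2,0,1,0,2,0,1,0,2,2,2,0,1,1],
   [0,1,0,2,0,1,1,1,0,2,0,2,2,2,2,0,1,0,2,0,1,1,1,1,0,1,0,2,2,2],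
   [0,1,1,0,2,2,0,1,1,0,2,2,0,1,1,0,2,2,0,1,1,0,2,2,0,1,1,0,2,2],
   [0,1,0,1,0,1,0,1,0,1,0,1,0,1,1,1,1,1,0,2,2,2,2,0,1,1,1,1,0,2,2,2],
   [0,1,0,1,0,1,0,1,0,1,0,1,0,2,2,2,0,1,1,1,1,0,2,2,2,2,0,1,1,1,1,1],
   [0,1,0,1,0,1,0,1,0,1,1,0,1,1,0,2,2,2,2,2,2,2,2,2,0,2,2,0,2,2,0,2],
   [0,1,0,1,0,1,0,1,0,1,1,1,0,2,0,1,0,2,0,1,0,2,2,0,1,0,1,0,2,0,1,1],
   [0,1,0,1,0,1,0,1,1,1,0,1,0,2,0,1,0,2,0,2,2,0,1,0,1,0,1,0,2,0,1,1],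
   [0,1,0,1,0,1,0,2,0,1,0,2,0,2,0,2,0,1,0,1,0,1,0,2,0,1,0,2,0,2,0,2],
   [0,1,0,1,0,1,0,2,0,1,0,2,0,2,0,2,0,1,1,1,0,2,0,1,0,2,0,1,0,2,2,2],
   [0,1,0,1,0,1,1,0,1,0,1,0,2,0,2,2,0,2,2,0,2,2,0,2,2,2,2,0,2,2,0,2],
   [0,1,0,1,0,1,1,1,0,2,2,0,2,2,2,0,2,2,0,1,1,0,2,2,2,2,0,1,1,1,0,2],
   [0,1,0,1,0,1,1,1,0,2,2,2,0,1,0,2,0,1,0,2,0,1,1,1,0,2,2,2,0,2,0,2],
   [0,1,0,1,0,1,1,1,1,1,1,1,1,0,1,0,2,2,2,0,2,0,1,0,2,2,2,0,2,0,1,1],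
   [0,1,0,1,0,2,0,2,0,1,0,1,0,2,0,2,0,1,0,1,0,2,0,2,0,1,0,1,0,2,0,2],
   [0,1,0,1,0,2,0,2,0,1,1,0,2,0,2,0,1,1,0,2,0,1,0,2,2,0,1,0,1,0,2,2],
   [0,1,0,1,1,0,1,0,2,0,2,2,0,2,0,2,2,2,2,2,2,0,1,0,2,0,1,1,1,1,1,1],
   [0,1,0,1,1,0,1,1,1,1,1,1,1,1,1,1,1,1,1,0,1,1,0,1,1,0,1,1,0,1,0,2],
   [0,1,0,1,1,0,2,0,1,0,2,0,1,0,2,2,0,2,0,1,1,0,1,0,2,0,1,0,2,0,2,2],
   [0,1,0,1,1,0,2,2,0,1,1,0,2,2,0,2,0,1,0,1,1,0,2,2,0,1,1,0,2,2,0,2],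
   [0,1,0,1,1,0,2,2,2,0,2,2,2,2,0,1,1,1,1,0,2,2,0,1,1,0,1,1,0,1,0,2],
   [0,1,0,1,1,0,2,2,2,2,2,2,2,2,0,2,0,1,0,1,1,0,2,2,2,2,2,2,2,2,0,2],
   [0,1,0,1,1,1,0,1,0,2,2,2,2,2,0,1,1,0,1,0,2,0,1,1,1,0,2,0,2,2,2,2],
   [0,1,0,1,1,1,1,1,0,1,1,0,2,2,0,1,1,0,2,2,0,2,2,2,2,2,0,2,0,1,0,2],
   [0,1,0,2,0,1,0,2,0,1,0,2,2,2,0,2,2,0,2,2,0,1,1,1,1,1,1,1,0,2,2,2],
   [0,1,0,2,0,1,0,2,2,0,1,1,1,1,0,2,2,2,2,0,2,2,2,0,1,1,0,1,1,0,1,1],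
   [0,1,0,2,0,1,0,2,2,2,0,1,1,1,0,2,0,1,0,2,0,1,0,2,2,2,0,1,1,1,0,2],
   [0,1,0,2,0,1,1,1,0,1,0,2,0,1,1,1,0,1,0,2,0,1,1,1,0,1,0,2,0,1,1,1],
   [0,1,0,2,0,1,1,1,1,1,0,2,2,2,2,2,0,1,0,2,0,1,1,1,1,1,0,2,2,2,2,2],
   [0,1,0,2,2,2,2,2,0,1,1,1,1,1,0,2,0,1,0,2,2,2,2,2,0,1,1,1,1,1,0,2],
   [0,1,1,0,1,1,0,2,2,0,1,1,0,1,1,1,0,2,2,2,0,2,2,0,1,1,0,2,2,0,2,2],
   [0,1,1,1,0,1,1,1,0,1,1,1,0,1,1,1,0,1,1,1,0,1,1,1,0,1,1,1,0,1,1,1],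
   [3,1,1,1,1,1,3,0,1,0,2,0,1,0,2,2,0,1,0,2,0,1,0,1,1],
   [3,2,0,2,0,2,0,1,1,0,2,0,2,0,1,3,2,0,1,1,0,2,0,2,2,0,2,0,1,0,1,0,1,1,0,2,2],
   [3,1,3,2,2,2,2,3,2,3,2,0,1,1,0,1,0,2,0,1,0,2,2,2,0,1,1,0,2,2,0,1],
   [3,1,3,0,2,2,0,1,0,3,2,3,0,2,2,0,2,2,0,2,0,2,2,2,2,2,2,0,2,2,0,1,0,2,2,2,0],
   [3,1,0,2,3,1,0,2,2,2,0,2,0,2,3,1,1,0,2,0,2,2,0,1,0,2,0,1,0,2,2,2,2,0,2,0,1],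
   [3,1,3,0,1,3,1,0,2,2,0,1,1,0,1,1,0,1,0,3,2,3,2,0,1,1,0,2,0,2,0,1,1,1,1,0,2,0,1,1,1,0,1,0,1,1,0,1],
   [3,1,0,1,0,1,3,1,0,1,1,0,1,0,1,0,2,2,3,0,1,1,0,2,2,0,1,0,1,0,1,0,1,1,0,1,1,1,1,0,2,0,2,2,2,0],
   [3,1,0,2,2,2,2,0,2,2,3,1,0,1,0,2,2,0,1,1,1,0,2,3,2,2,2,0,2,2,2,0,2,0,2,0,2,0,1,1,1,0,2,2,0,1,0]]

/-- The words of the subgroup. -/
def subs : List (List Nat) :=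
  [[0],
   [1]]

end Cfsg.Agent.Lib.CosetCert.D.Ru.Lv0.Tab
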